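import Cfsg.Agent.Lib.JTh.Main

/-!
# The theorem of Janko and Thompson over a field in any universe
-/

set_option autoImplicit false

namespace CfsgLib.JTh

universe u v

/-- The theorem of Janko and Thompson over a field in any universe, given the exclusion of the configuration
`Five`. -/
theorem main_univ {G : Type u} [Group G] [Finite G] [IsSimpleGroup G]
    (hfive : ∀ (q m n : ℕ) (T5 : ReeType.Five.Setup G q m n), ReeType.Five.Torus T5 → False)
    (hab : ∀ P : Sylow 2 G, ∀ a b : P, a * b = b * a)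
    {F : Type v} [Field F] [Fintype F] (hq : 3 ≤ Fintype.card F) (t : G) (ht : orderOf t = 2)
    (hC : Nonempty (Subgroup.centralizer ({t} : Set G) ≃*
      Multiplicative (ZMod 2) × Matrix.ProjectiveSpecialLinearGroup (Fin 2) F)) :
    (∃ m : ℕ, 1 ≤ m ∧ Fintype.card F = 3 ^ (2 * m + 1) ∧
        Nat.card G = (3 ^ (2 * m + 1)) ^ 3 * ((3 ^ (2 * m + 1)) ^ 3 + 1) * (3 ^ (2 * m + 1) - 1)) ∨
      ((Fintype.card F = 4 ∨ Fintype.card F = 5) ∧ Cfsg.IsJ1 G) := by
  obtain ⟨e⟩ := hC
  obtain ⟨p, hchar⟩ := CharP.exists F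
  haveI := hchar
  obtain ⟨n, hp, hn⟩ := FiniteField.card F p
  haveI := Fact.mk hp
  letI : Fintype (GaloisField p n) := Fintype.ofFinite _
  have hc : Fintype.card F = Fintype.card (GaloisField p n) := by
    rw [hn, ← Nat.card_eq_fintype_card, GaloisField.card p n n.pos.ne']
  obtain ⟨a⟩ := CIT.psl_congr (FiniteField.ringEquivOfCardEq hc)
  have h := main hfive hab (F := GaloisField p n) (hc ▸ hq) t ht
    (e.trans ((MulEquiv.refl _).prodCongr a))
  rwa [← hc] at h

end CfsgLib.JTh
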