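import Mathlib

/-!
# Elementary groups of order nine in groups without elements of order four
-/

set_option autoImplicit false
set_option linter.unusedSectionVars false

namespace CfsgLib.JTh

variable {G : Type*} [Group G] [Finite G]

/-- Two commuting independent elements of order three, each inverted by an element fixing the other. -/
structure Plane (a b x s : G) : Prop where
  a3 : a ^ 3 = 1
  b3 : b ^ 3 = 1
  comm : Commute a b
  indep : ∀ i j : ℕ, a ^ i * b ^ j = 1 → 3 ∣ i ∧ 3 ∣ j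
  xa : x * a * x⁻¹ = a⁻¹
  xb : x * b * x⁻¹ = b
  sa : s * a * s⁻¹ = a
  sb : s * b * s⁻¹ = b⁻¹

/-- Membership in the plane. -/
def InE (a b y : G) : Prop := ∃ i j : ℕ, i < 3 ∧ j < 3 ∧ y = a ^ i * b ^ j

namespace Plane

variable {a b x s : G} (h : Plane a b x s)
include h

theorem symm : Plane b a s x where
  a3 := h.b3
  b3 := h.a3
  comm := h.comm.symm
  indep i j e := by
    rw [(h.comm.symm.pow_pow i j).eq] at e
    exact (h.indep j i e).symm
  xa := h.sb
  xb := h.sa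
  sa := h.xb
  sb := h.xa

theorem mul_form (i j k l : ℕ) :
    a ^ i * b ^ j * (a ^ k * b ^ l) = a ^ (i + k) * b ^ (j + l) := by
  rw [mul_assoc, ← mul_assoc (b ^ j), ← (h.comm.pow_pow k j).eq, pow_add, pow_add]
  simp only [mul_assoc]

theorem pow_form (i j n : ℕ) : (a ^ i * b ^ j) ^ n = a ^ (i * n) * b ^ (j * n) := by
  rw [(h.comm.pow_pow i j).mul_pow, ← pow_mul, ← pow_mul]

theorem red (i j : ℕ) : a ^ i * b ^ j = a ^ (i % 3) * b ^ (j % 3) := by
  conv_lhs => rw [← Nat.div_add_mod i 3, ← Nat.div_add_mod j 3, pow_add, pow_add, pow_mul, pow_mul,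
    h.a3, h.b3, one_pow, one_pow, one_mul, one_mul]

theorem eq_iff {i j k l : ℕ} (e : a ^ i * b ^ j = a ^ k * b ^ l) : i % 3 = k % 3 ∧ j % 3 = l % 3 := by
  have h2 : a ^ (i + 2 * k) * b ^ (j + 2 * l) = 1 := by
    rw [← h.mul_form, e, h.mul_form, show k + 2 * k = 3 * k by ring, show l + 2 * l = 3 * l by ring,
      pow_mul, pow_mul, h.a3, h.b3, one_pow, one_pow, one_mul]
  obtain ⟨h3, h4⟩ := h.indep _ _ h2
  omega

theorem inv_a : a⁻¹ = a ^ 2 := inv_eq_of_mul_eq_one_right (by rw [← pow_succ', h.a3])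

theorem inv_b : b⁻¹ = b ^ 2 := inv_eq_of_mul_eq_one_right (by rw [← pow_succ', h.b3])

theorem inE_symm {y : G} (hy : InE a b y) : InE b a y := by
  obtain ⟨i, j, hi, hj, rfl⟩ := hy
  exact ⟨j, i, hj, hi, (h.comm.pow_pow i j).eq⟩

/-- The image of a combination. -/
theorem conj_form {g : G} {i j k l : ℕ} (ha : g * a * g⁻¹ = a ^ i * b ^ j) (hb : g * b * g⁻¹ = a ^ k * b ^ l)
    (u v : ℕ) : g * (a ^ u * b ^ v) * g⁻¹ = a ^ (i * u + k * v) * b ^ (j * u + l * v) := by
  rw [← conj_mul, ← conj_pow, ← conj_pow, ha, hb, h.pow_form, h.pow_form, h.mul_form]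

theorem x_form (u v : ℕ) : x * (a ^ u * b ^ v) * x⁻¹ = a ^ (2 * u) * b ^ v := by
  have ha : x * a * x⁻¹ = a ^ 2 * b ^ 0 := by rw [h.xa, h.inv_a, pow_zero, mul_one]
  have hb : x * b * x⁻¹ = a ^ 0 * b ^ 1 := by rw [h.xb, pow_zero, one_mul, pow_one]
  rw [h.conj_form ha hb u v, zero_mul, add_zero, zero_mul, zero_add, one_mul]

theorem s_form (u v : ℕ) : s * (a ^ u * b ^ v) * s⁻¹ = a ^ u * b ^ (2 * v) := by
  have ha : s * a * s⁻¹ = a ^ 1 * b ^ 0 := by rw [h.sa, pow_zero, mul_one, pow_one]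
  have hb : s * b * s⁻¹ = a ^ 0 * b ^ 2 := by rw [h.sb, h.inv_b, pow_zero, one_mul]
  rw [h.conj_form ha hb u v, zero_mul, add_zero, zero_mul, zero_add, one_mul]

/-- An element acting with order four. -/
theorem four_dvd {g : G} {i j k l : ℕ} (ha : g * a * g⁻¹ = a ^ i * b ^ j)
    (hb : g * b * g⁻¹ = a ^ k * b ^ l)
    (h1 : (i * i + k * j) % 3 = 2) (h2 : (j * i + l * j) % 3 = 0) : 4 ∣ orderOf g := by
  have e2 : g * g * a * (g * g)⁻¹ = a⁻¹ := by
    rw [show g * g * a * (g * g)⁻¹ = g * (g * a * g⁻¹) * g⁻¹ by group, ha, h.conj_form ha hb, h.red,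
      h1, h2, pow_zero, mul_one, h.inv_a]
  have hne : a⁻¹ ≠ a := fun e => by
    have h3 := h.indep 2 0 (by
      rw [pow_zero, mul_one, pow_two]
      nth_rewrite 1 [← e]
      exact inv_mul_cancel a)
    omega
  have hstep : ∀ n : ℕ, (g * g) ^ n * a * ((g * g) ^ n)⁻¹ = if Even n then a else a⁻¹ := by
    intro n
    induction n with
    | zero => simp
    | succ n ih =>
      rw [pow_succ']
      generalize hP : (g * g) ^ n = P at ih ⊢
      generalize hQ : g * g = Q at e2 ⊢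
      rw [show Q * P * a * (Q * P)⁻¹ = Q * (P * a * P⁻¹) * Q⁻¹ by group, ih]
      by_cases hn : Even n
      · rw [if_pos hn, if_neg (Nat.not_even_iff_odd.2 hn.add_one), e2]
      · rw [if_neg hn, if_pos ((Nat.not_even_iff_odd.1 hn).add_one), ← conj_inv, e2, inv_inv]
  have hev : Even (orderOf (g * g)) := by
    by_contra hn
    have h3 := hstep (orderOf (g * g))
    rw [pow_orderOf_eq_one, if_neg hn] at h3
    exact hne (by simpa using h3.symm)
  rcases Nat.even_or_odd (orderOf g) with hg | hg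
  · rw [← pow_two, orderOf_pow, Nat.gcd_eq_right (even_iff_two_dvd.1 hg)] at hev
    obtain ⟨c, hc⟩ := hev
    obtain ⟨d, hd⟩ := hg
    rw [hd, show d + d = 2 * d by ring, Nat.mul_div_cancel_left _ two_pos] at hc
    exact ⟨c, by omega⟩
  · rw [← pow_two, orderOf_pow, Nat.gcd_comm, (Nat.coprime_two_left.2 hg).gcd_eq_one, Nat.div_one] at hev
    exact absurd hev (Nat.not_even_iff_odd.2 hg)

variable (h4 : ∀ g : G, ¬ 4 ∣ orderOf g)
include h4

/-- No element maps one axis of the plane to the other. -/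
theorem no_swap {g : G} {j : ℕ} (hj : j % 3 ≠ 0) (ha : g * a * g⁻¹ = b ^ j) (hb : InE a b (g * b * g⁻¹)) :
    False := by
  obtain ⟨g, ha, hb⟩ : ∃ g, g * a * g⁻¹ = a ^ 0 * b ^ 1 ∧ InE a b (g * b * g⁻¹) := by
    rcases (show j % 3 = 1 ∨ j % 3 = 2 by omega) with e | e
    · refine ⟨g, ?_, hb⟩
      rw [ha, pow_zero, one_mul]
      have := h.red 0 j
      rwa [e, Nat.zero_mod, pow_zero, one_mul, one_mul] at this
    · obtain ⟨k, l, -, -, hkl⟩ := hb
      refine ⟨s * g, ?_, k % 3, 2 * l % 3, Nat.mod_lt _ (by norm_num), Nat.mod_lt _ (by norm_num), ?_⟩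
      · rw [show s * g * a * (s * g)⁻¹ = s * (g * a * g⁻¹) * s⁻¹ by group, ha, ← one_mul (b ^ j),
          ← pow_zero a, h.s_form, h.red, show 2 * j % 3 = 1 by omega, Nat.zero_mod]
      · rw [show s * g * b * (s * g)⁻¹ = s * (g * b * g⁻¹) * s⁻¹ by group, hkl, h.s_form, h.red]
  obtain ⟨k, l, hk, hl, hkl⟩ := hb
  have hk0 : k ≠ 0 := fun e => by
    subst e
    have h1 : g * (a ^ (2 * l) * b ^ 1) * g⁻¹ = 1 := by
      rw [h.conj_form ha hkl, h.red, show (0 * (2 * l) + 0 * 1) % 3 = 0 by simp,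
        show (1 * (2 * l) + l * 1) % 3 = 0 by omega]
      simp
    have h2 := h.indep _ _ (conj_eq_one_iff.1 h1)
    omega
  obtain ⟨g', i', j', k', l', ha', hb', e1, e2⟩ : ∃ (g' : G) (i' j' k' l' : ℕ),
      g' * a * g'⁻¹ = a ^ i' * b ^ j' ∧ g' * b * g'⁻¹ = a ^ k' * b ^ l' ∧
      (i' * i' + k' * j') % 3 = 2 ∧ (j' * i' + l' * j') % 3 = 0 := by
    obtain ⟨g₁, l₁, hl₁, ha₁, hb₁⟩ : ∃ (g₁ : G) (l₁ : ℕ), l₁ < 3 ∧ g₁ * a * g₁⁻¹ = a ^ 0 * b ^ 1 ∧
        g₁ * b * g₁⁻¹ = a ^ 1 * b ^ l₁ := by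
      rcases (show k = 1 ∨ k = 2 by omega) with rfl | rfl
      · exact ⟨g, l, hl, ha, hkl⟩
      · refine ⟨x * g, l, hl, ?_, ?_⟩
        · rw [show x * g * a * (x * g)⁻¹ = x * (g * a * g⁻¹) * x⁻¹ by group, ha, h.x_form, mul_zero]
        · rw [show x * g * b * (x * g)⁻¹ = x * (g * b * g⁻¹) * x⁻¹ by group, hkl, h.x_form, h.red,
            Nat.mod_eq_of_lt hl]
    rcases Nat.eq_zero_or_pos l₁ with rfl | hl0
    · refine ⟨x * g₁, 0, 1, 2, 0, ?_, ?_, rfl, rfl⟩
      · rw [show x * g₁ * a * (x * g₁)⁻¹ = x * (g₁ * a * g₁⁻¹) * x⁻¹ by group, ha₁, h.x_form]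
      · rw [show x * g₁ * b * (x * g₁)⁻¹ = x * (g₁ * b * g₁⁻¹) * x⁻¹ by group, hb₁, h.x_form]
    · refine ⟨g₁ * g₁, 1, l₁, l₁, 2, ?_, ?_, ?_, ?_⟩
      · rw [show g₁ * g₁ * a * (g₁ * g₁)⁻¹ = g₁ * (g₁ * a * g₁⁻¹) * g₁⁻¹ by group, ha₁,
          h.conj_form ha₁ hb₁]
        norm_num
      · rw [show g₁ * g₁ * b * (g₁ * g₁)⁻¹ = g₁ * (g₁ * b * g₁⁻¹) * g₁⁻¹ by group, hb₁,
          h.conj_form ha₁ hb₁, h.red]
        interval_cases l₁ <;> norm_num
      · interval_cases l₁ <;> norm_num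
      · interval_cases l₁ <;> norm_num
  exact h4 g' (h.four_dvd ha' hb' e1 e2)

/-- A `3`-element normalizing the plane centralizes it, if fixing one axis forces fixing the other. -/
theorem commute_of_three {g : G} {e : ℕ} (hg : g ^ 3 ^ e = 1) (ha : InE a b (g * a * g⁻¹))
    (hb : InE a b (g * b * g⁻¹))
    (hab : ∀ i : ℕ, g * a * g⁻¹ = a ^ i → ∃ j : ℕ, g * b * g⁻¹ = b ^ j)
    (hba : ∀ j : ℕ, g * b * g⁻¹ = b ^ j → ∃ i : ℕ, g * a * g⁻¹ = a ^ i) :
    Commute g a ∧ Commute g b := by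
  have hodd : Odd (orderOf g) :=
    ((show Odd 3 by decide).pow).of_dvd_nat (orderOf_dvd_of_pow_eq_one hg)
  have hne2 : ∀ y : G, Commute (g * g) y → Commute g y := fun y hy => by
    obtain ⟨c, hc⟩ := hodd
    have e1 : g = (g * g) ^ (c + 1) := by
      rw [← pow_two, ← pow_mul, show 2 * (c + 1) = orderOf g + 1 by omega, pow_succ, pow_orderOf_eq_one,
        one_mul]
    rw [e1]
    exact hy.pow_left _
  obtain ⟨i, j, hi, hj, ha⟩ := ha
  obtain ⟨k, l, hk, hl, hb⟩ := hb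
  have hdiag : ∀ {i l : ℕ}, g * a * g⁻¹ = a ^ i → g * b * g⁻¹ = b ^ l → Commute g a ∧ Commute g b := by
    intro i l e1 e2
    have e1' : g * a * g⁻¹ = a ^ i * b ^ 0 := by rw [e1, pow_zero, mul_one]
    have e2' : g * b * g⁻¹ = a ^ 0 * b ^ l := by rw [e2, pow_zero, one_mul]
    have hi0 : ¬ 3 ∣ i := fun ⟨c, hc⟩ => by
      have : a = 1 := conj_eq_one_iff.1 (by rw [e1, hc, pow_mul, h.a3, one_pow] : g * a * g⁻¹ = 1)
      have h2 := h.indep 1 0 (by rw [pow_one, this, pow_zero, one_mul])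
      omega
    have hl0 : ¬ 3 ∣ l := fun ⟨c, hc⟩ => by
      have : b = 1 := conj_eq_one_iff.1 (by rw [e2, hc, pow_mul, h.b3, one_pow] : g * b * g⁻¹ = 1)
      have h2 := h.indep 0 1 (by rw [pow_one, this, pow_zero, one_mul])
      omega
    refine ⟨hne2 a ?_, hne2 b ?_⟩ <;> refine mul_inv_eq_iff_eq_mul.1 ?_
    · rw [show g * g * a * (g * g)⁻¹ = g * (g * a * g⁻¹) * g⁻¹ by group, e1', h.conj_form e1' e2', h.red,
        show (i * i + 0 * 0) % 3 = 1 by
          rw [Nat.add_zero, Nat.mul_mod]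
          rcases (show i % 3 = 1 ∨ i % 3 = 2 by omega) with q | q <;> rw [q],
        show (0 * i + l * 0) % 3 = 0 by simp, pow_one, pow_zero, mul_one]
    · rw [show g * g * b * (g * g)⁻¹ = g * (g * b * g⁻¹) * g⁻¹ by group, e2', h.conj_form e1' e2', h.red,
        show (0 * 0 + l * l) % 3 = 1 by
          rw [zero_mul, zero_add, Nat.mul_mod]
          rcases (show l % 3 = 1 ∨ l % 3 = 2 by omega) with q | q <;> rw [q],
        show (i * 0 + 0 * l) % 3 = 0 by simp, pow_one, pow_zero, one_mul]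
  rcases Nat.eq_zero_or_pos j with rfl | hj0
  · rw [pow_zero, mul_one] at ha
    obtain ⟨l', hl'⟩ := hab i ha
    exact hdiag ha hl'
  rcases Nat.eq_zero_or_pos k with rfl | hk0
  · rw [pow_zero, one_mul] at hb
    obtain ⟨i', hi'⟩ := hba l hb
    exact hdiag hi' hb
  exfalso
  rcases Nat.eq_zero_or_pos i with rfl | hi0
  · rw [pow_zero, one_mul] at ha
    exact h.no_swap h4 (by omega) ha ⟨k, l, hk, hl, hb⟩
  rcases Nat.eq_zero_or_pos l with rfl | hl0
  · rw [pow_zero, mul_one] at hb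
    exact h.symm.no_swap h4 (by omega) hb (h.inE_symm ⟨i, j, hi, hj, ha⟩)
  have hsum : (i + l) % 3 = 0 → False := fun hil => by
    have e2 : g * g * a * (g * g)⁻¹ = a ^ (i * i + k * j) * b ^ (j * i + l * j) := by
      rw [show g * g * a * (g * g)⁻¹ = g * (g * a * g⁻¹) * g⁻¹ by group, ha, h.conj_form ha hb]
    by_cases h1 : (i * i + k * j) % 3 = 2
    · refine h4 g (h.four_dvd ha hb h1 ?_)
      interval_cases i <;> interval_cases j <;> interval_cases l <;> omega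
    · have h2 : (i * i + k * j) % 3 = 0 := by
        interval_cases i <;> interval_cases j <;> interval_cases k <;> omega
      have h3 : (j * i + l * j) % 3 = 0 := by
        interval_cases i <;> interval_cases j <;> interval_cases l <;> omega
      rw [h.red, h2, h3, pow_zero, pow_zero, one_mul, conj_eq_one_iff] at e2
      have := h.indep 1 0 (by rw [pow_one, pow_zero, e2, one_mul])
      omega
  by_cases hil : (i + l) % 3 = 0
  · exact hsum hil
  have e2 : g * g * a * (g * g)⁻¹ = a ^ (i * i + k * j) * b ^ (j * i + l * j) := by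
    rw [show g * g * a * (g * g)⁻¹ = g * (g * a * g⁻¹) * g⁻¹ by group, ha, h.conj_form ha hb]
  have e3 : g * g * b * (g * g)⁻¹ = a ^ (i * k + k * l) * b ^ (j * k + l * l) := by
    rw [show g * g * b * (g * g)⁻¹ = g * (g * b * g⁻¹) * g⁻¹ by group, hb, h.conj_form ha hb]
  have h0 : (i * i + k * j) % 3 = 0 ∧ (j * i + l * j) % 3 ≠ 0 := by
    have hdet : (i * l + 2 * (j * k)) % 3 ≠ 0 := by
      intro hd
      have h1 : g * (a ^ l * b ^ (2 * j)) * g⁻¹ = 1 := by
        rw [h.conj_form ha hb, h.red,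
          show (i * l + k * (2 * j)) % 3 = 0 by rw [← hd]; ring_nf,
          show (j * l + l * (2 * j)) % 3 = 0 by
            rw [show j * l + l * (2 * j) = 3 * (j * l) by ring]; exact Nat.mul_mod_right 3 _,
          pow_zero, pow_zero, one_mul]
      have h2 := h.indep _ _ (conj_eq_one_iff.1 h1)
      omega
    interval_cases i <;> interval_cases j <;> interval_cases k <;> interval_cases l <;> omega
  refine h.no_swap h4 (g := g * g) (j := j * i + l * j) h0.2 ?_ ⟨(i * k + k * l) % 3, (j * k + l * l) % 3,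
    Nat.mod_lt _ (by norm_num), Nat.mod_lt _ (by norm_num), e3.trans (h.red _ _)⟩
  rw [e2, h.red, h0.1, pow_zero, one_mul]
  conv_rhs => rw [← one_mul (b ^ (j * i + l * j)), ← pow_zero a, h.red, Nat.zero_mod, pow_zero, one_mul]

end Plane

end CfsgLib.JTh
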