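import Cfsg.Agent.Lib.JTh.CentA
import Cfsg.Agent.Lib.JTh.Plane
import Cfsg.Agent.Lib.Ree.Tools

/-!
# An involution centralizer `2 × PSL(2, q)`, `q ≡ 3, 5 (mod 8)`: no icosahedral centralizers
-/

set_option autoImplicit false
set_option linter.unusedSectionVars false

namespace CfsgLib.JTh

open Subgroup
open scoped commutatorElement
open CfsgLib.ReeType (inverts_of_fpf comm_of_inverted exists_odd_part)

universe u

/-- An element of order three generates its centralizer in an icosahedral subgroup. -/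
theorem Icos.cent_three {G : Type*} [Group G] [Finite G] {R : Subgroup G} (h : Icos R) {r z : G}
    (hr : r ∈ R) (hr3 : orderOf r = 3) (hz : z ∈ R) (hzr : Commute z r) : z ∈ zpowers r := by
  classical
  set H := (R ⊓ centralizer ({r} : Set G)).subgroupOf R with hH
  have hcard : Nat.card H = Nat.card ↥(R ⊓ centralizer ({r} : Set G)) :=
    Nat.card_congr (subgroupOfEquivOfLe inf_le_left).toEquiv
  set k := Nat.card ↥(R ⊓ centralizer ({r} : Set G)) with hk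
  have hd : k ∣ 60 := by
    rw [← h.card, ← hcard]
    exact card_subgroup_dvd_card H
  have h3 : 3 ∣ k := hr3 ▸ Subgroup.orderOf_dvd_natCard _
    (mem_inf.2 ⟨hr, mem_centralizer_singleton_iff.2 rfl⟩)
  have h2 : ¬ 2 ∣ k := by
    intro hev
    haveI : Fact (Nat.Prime 2) := ⟨Nat.prime_two⟩
    obtain ⟨⟨i, hi⟩, hio⟩ := exists_prime_orderOf_dvd_card' 2 hev
    rw [Subgroup.orderOf_mk] at hio
    obtain ⟨hiR, hir⟩ := mem_inf.1 hi
    have h4 := Subgroup.orderOf_dvd_natCard (R ⊓ centralizer ({i} : Set G)) (x := r)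
      (mem_inf.2 ⟨hr, mem_centralizer_singleton_iff.2 (mem_centralizer_singleton_iff.1 hir).symm⟩)
    rw [h.cent i hiR hio, hr3] at h4
    norm_num at h4
  have h15 : k ≠ 15 := by
    intro e
    have hHi : H.index = 4 := by
      have := H.card_mul_index
      rw [hcard, e, h.card] at this
      omega
    have hcore : H.normalCore = ⊥ := (h.simple _ H.normalCore_normal).resolve_right fun e1 => by
      have : H = ⊤ := top_le_iff.1 (e1 ▸ H.normalCore_le)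
      rw [this, card_top, h.card] at hcard
      omega
    have hker : (MulAction.toPermHom R (R ⧸ H)).ker = ⊥ := H.normalCore_eq_ker ▸ hcore
    have h5 := Subgroup.card_dvd_of_injective _ ((MonoidHom.ker_eq_bot_iff _).1 hker)
    rw [h.card, Nat.card_perm, ← Subgroup.index_eq_card, hHi] at h5
    norm_num [Nat.factorial] at h5
  have hk3 : k = 3 := by
    obtain ⟨j, hj⟩ := h3
    rw [hj] at hd h2 h15
    have hjd : j ∣ 20 := (Nat.mul_dvd_mul_iff_left (by norm_num : 0 < 3)).1 hd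
    have hjle : j ≤ 20 := Nat.le_of_dvd (by norm_num) hjd
    interval_cases j <;> omega
  have hle : zpowers r ≤ R ⊓ centralizer ({r} : Set G) :=
    zpowers_le.2 (mem_inf.2 ⟨hr, mem_centralizer_singleton_iff.2 rfl⟩)
  rw [eq_of_le_of_card_ge hle (by rw [← hk, hk3, Nat.card_zpowers, hr3])]
  exact mem_inf.2 ⟨hz, mem_centralizer_singleton_iff.2 hzr.eq⟩

namespace Setup

variable {G : Type u} [Group G] [Finite G] {p q m n : ℕ} (T : Setup G p q m n)

/-- What is needed of the centralizer of an element of order three commuting with `t`, when `3 ∣ n`. -/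
theorem three_n_facts (h3 : 3 ∣ n) {y : G} (hy : orderOf y = 3) (hyt : Commute y T.t) :
    ¬ 4 ∣ Nat.card (centralizer ({y} : Set G)) ∧
    ∃ w : G, orderOf w = n ∧ Commute w y ∧ Commute w T.t ∧
      (∀ z : G, Commute z y → Commute z T.t → Odd (orderOf z) → z ∈ zpowers w) ∧
      ∀ s : G, Commute s T.t → s * y * s⁻¹ = y⁻¹ → s * w * s⁻¹ = w⁻¹ := by
  haveI : Fact (Nat.Prime 2) := ⟨Nat.prime_two⟩
  have hyK := T.mem_K_of_odd hyt (by rw [hy]; decide)
  set y' : T.K := ⟨y, hyK⟩ with hy'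
  have hy'o : orderOf y' = 3 := by rw [hy', Subgroup.orderOf_mk, hy]
  obtain ⟨w, hw, hC, hN, ui, hui, huinv⟩ := T.kit.cent_n (v := y')
    (fun e => by rw [e, orderOf_one] at hy'o; norm_num at hy'o) (hy'o ▸ h3)
  have hn : Odd n := T.kit.data.mo_odd
  constructor
  · intro h4
    set D := centralizer ({y} : Set G) with hD
    have htD : T.t ∈ D := mem_centralizer_singleton_iff.2 hyt.eq.symm
    have htp : IsPGroup 2 (zpowers (⟨T.t, htD⟩ : D)) :=
      IsPGroup.of_card (n := 1) (by rw [Nat.card_zpowers, Subgroup.orderOf_mk, T.order_t, pow_one])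
    obtain ⟨P, hP⟩ := htp.exists_le_sylow
    set Q := (P : Subgroup D).map D.subtype with hQ
    have hQp : IsPGroup 2 Q := P.2.map _
    have htQ : T.t ∈ Q := ⟨⟨T.t, htD⟩, hP (mem_zpowers _), rfl⟩
    have hle : Q ≤ centralizer ({T.t} : Set G) ⊓ centralizer ({y} : Set G) := fun b hb =>
      mem_inf.2 ⟨mem_centralizer_singleton_iff.2 (T.comm_of_isPGroup hQp hb htQ).eq,
        map_subtype_le _ hb⟩
    have hc4 : 2 ^ 2 ∣ Nat.card Q := by
      rw [hQ, card_map_of_injective D.subtype_injective, P.card_eq_multiplicity]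
      exact pow_dvd_pow _ ((Nat.Prime.pow_dvd_iff_le_factorization Nat.prime_two
        Nat.card_pos.ne').1 (by norm_num; exact h4))
    have h1 := hc4.trans (card_dvd_of_le hle)
    rw [show centralizer ({y} : Set G) = centralizer ({((y' : T.K) : G)} : Set G) from rfl,
      T.card_cent_inf y', hC, Nat.card_zpowers, hw, pow_two] at h1
    exact Nat.not_even_iff_odd.2 hn (even_iff_two_dvd.2 (Nat.dvd_of_mul_dvd_mul_left two_pos h1))
  have hwC : w ∈ centralizer ({y'} : Set T.K) := hC ▸ mem_zpowers w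
  have hwy : Commute (w : G) y := congrArg Subtype.val (mem_centralizer_singleton_iff.1 hwC)
  refine ⟨w, (Subgroup.orderOf_coe w).trans hw, hwy, T.comm_t _ w.2, fun z hzy hzt hzo => ?_,
    fun s hst hsy => ?_⟩
  · have hzK := T.mem_K_of_odd hzt hzo
    have : (⟨z, hzK⟩ : T.K) ∈ centralizer ({y'} : Set T.K) :=
      mem_centralizer_singleton_iff.2 (Subtype.ext hzy.eq)
    rw [hC] at this
    obtain ⟨i, hi⟩ := mem_zpowers_iff.1 this
    exact mem_zpowers_iff.2 ⟨i, congrArg Subtype.val hi⟩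
  · obtain ⟨k, hk⟩ := T.exists_split hst
    have hky : k * y' * k⁻¹ = y'⁻¹ := by
      apply Subtype.ext
      show (k : G) * y * (k : G)⁻¹ = y⁻¹
      rcases hk with rfl | rfl
      · exact hsy
      · calc (k : G) * y * (k : G)⁻¹ = T.t⁻¹ * (T.t * k * y * (T.t * k)⁻¹) * T.t := by group
          _ = y⁻¹ := by rw [hsy, mul_assoc, hyt.inv_left.eq, inv_mul_cancel_left]
    have hy'w : y' ∈ zpowers w := hC ▸ mem_centralizer_singleton_iff.2 rfl
    have hku : ui * k ∈ zpowers w := by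
      rw [← hC, mem_centralizer_singleton_iff]
      suffices e : ui * k * y' * (ui * k)⁻¹ = y' from mul_inv_eq_iff_eq_mul.1 e
      rw [show ui * k * y' * (ui * k)⁻¹ = ui * (k * y' * k⁻¹) * ui⁻¹ by group, hky,
        huinv _ (inv_mem hy'w), inv_inv]
    have hkw : k * w * k⁻¹ = w⁻¹ := by
      obtain ⟨i, hi⟩ := mem_zpowers_iff.1 hku
      have hk' : k = ui⁻¹ * w ^ i := by rw [hi]; group
      have hu2 : ui⁻¹ = ui := Invol.invol_inv hui
      rw [hk', show ui⁻¹ * w ^ i * w * (ui⁻¹ * w ^ i)⁻¹ = ui⁻¹ * w * ui⁻¹⁻¹ by group, hu2]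
      exact huinv w (mem_zpowers w)
    have hkw' : (k : G) * w * (k : G)⁻¹ = (w : G)⁻¹ := congrArg Subtype.val hkw
    rcases hk with rfl | rfl
    · exact hkw'
    · rw [show T.t * k * (w : G) * (T.t * k)⁻¹ = T.t * ((k : G) * w * (k : G)⁻¹) * T.t⁻¹ by group, hkw',
        ((T.comm_t _ w.2).inv_left.symm).eq, mul_inv_cancel_right]

namespace Conf

variable {T} (c : Conf T) {R : Subgroup G} (hA : c.AType R)
include hA

theorem t_mem_R : T.t ∈ R := hA.four_le (Or.inr (Or.inl rfl))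

theorem u_mem_R : c.F.u ∈ R := hA.four_le (Or.inr (Or.inr (Or.inl rfl)))

theorem R_inter_A {z : G} (hz : z ∈ R) (hza : z ∈ zpowers c.F.a) : z = 1 := by
  have hzt : Commute z T.t := (c.mem_D.1 (c.a_mem_D hza)).1
  have h4 : z ∈ c.four := hA.icos.mem_four (c.t_mem_R hA) (c.u_mem_R hA) T.order_t c.F.order_u
    c.F.comm_u.symm c.F.ne.symm hz hzt
  have h1 : orderOf z ∣ 2 := orderOf_dvd_of_pow_eq_one (by rw [pow_two]; exact c.four_sq h4)
  have h2 : orderOf z ∣ m := by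
    have := Subgroup.orderOf_dvd_natCard _ hza
    rwa [Nat.card_zpowers, c.F.order_a] at this
  exact orderOf_eq_one_iff.1 (Nat.eq_one_of_dvd_coprimes (Nat.coprime_two_left.2 T.kit.m_odd) h1 h2)

theorem comm_R_A {r w : G} (hr : r ∈ R) (hw : w ∈ zpowers c.F.a) : Commute r w := by
  obtain ⟨i, rfl⟩ := mem_zpowers_iff.1 hw
  exact (hA.comm_a r hr).zpow_right i

/-- The elements of `C(v)` as products. -/
theorem split {v g : G} (hv : v ∈ zpowers c.F.a) (hv1 : v ≠ 1) (hg : Commute g v) :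
    ∃ r ∈ R, ∃ w ∈ zpowers c.F.a, g = r * w := by
  obtain ⟨r, hr, hrg⟩ := hA.cent v hv hv1 g hg
  obtain ⟨e, he, i, hi⟩ := c.D_form hrg
  refine ⟨r⁻¹ * e, mul_mem (inv_mem hr) (hA.four_le he), _, zpow_mem (mem_zpowers _) i, ?_⟩
  rw [mul_assoc, ← hi]; group

theorem split_unique {r r' w w' : G} (hr : r ∈ R) (hr' : r' ∈ R) (hw : w ∈ zpowers c.F.a)
    (hw' : w' ∈ zpowers c.F.a) (e : r * w = r' * w') : r = r' ∧ w = w' := by
  have h1 : r'⁻¹ * r = w' * w⁻¹ := by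
    have h2 := congrArg (fun z => r'⁻¹ * z * w⁻¹) e
    simpa [mul_assoc] using h2
  have h3 := c.R_inter_A hA (mul_mem (inv_mem hr') hr) (h1 ▸ mul_mem hw' (inv_mem hw))
  have h4 : r = r' := (inv_mul_eq_one.1 h3).symm
  subst h4
  exact ⟨rfl, mul_left_cancel e⟩

/-- An element mapping an element of the torus into the torus normalizes `R`. -/
theorem normalize {g v : G} (hv : v ∈ zpowers c.F.a) (hv1 : v ≠ 1)
    (hg : g * v * g⁻¹ ∈ zpowers c.F.a) : g ∈ normalizer (R : Set G) := by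
  have hmap : ∀ r ∈ R, ∃ r' ∈ R, ∃ w ∈ zpowers c.F.a, g * r * g⁻¹ = r' * w := fun r hr =>
    c.split hA hg (fun e => hv1 (conj_eq_one_iff.1 e)) ((c.comm_R_A hA hr hv).map (MulAut.conj g))
  set H := (R.comap (MulAut.conj g).toMonoidHom).subgroupOf R with hH
  have hcom : commutator R ≤ H := by
    show ⁅(⊤ : Subgroup R), ⊤⁆ ≤ H
    rw [commutator_le]
    intro y _ z _
    obtain ⟨r₁, h₁, w₁, k₁, e₁⟩ := hmap y y.2
    obtain ⟨r₂, h₂, w₂, k₂, e₂⟩ := hmap z z.2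
    show g * ((y : G) * z * (y : G)⁻¹ * (z : G)⁻¹) * g⁻¹ ∈ R
    have c1 : Commute w₁ r₂ := (c.comm_R_A hA h₂ k₁).symm
    have c2 : Commute w₂ r₁ := (c.comm_R_A hA h₁ k₂).symm
    have c3 : Commute w₁ w₂ := c.D_comm (c.a_mem_D k₁) (c.a_mem_D k₂)
    rw [show g * ((y : G) * z * (y : G)⁻¹ * (z : G)⁻¹) * g⁻¹ =
      (g * y * g⁻¹) * (g * z * g⁻¹) * (g * y * g⁻¹)⁻¹ * (g * z * g⁻¹)⁻¹ by group, e₁, e₂]
    rw [show r₁ * w₁ * (r₂ * w₂) * (r₁ * w₁)⁻¹ * (r₂ * w₂)⁻¹ =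
      r₁ * (w₁ * r₂) * (w₂ * w₁⁻¹) * r₁⁻¹ * w₂⁻¹ * r₂⁻¹ by group, c1.eq, ← c3.inv_left.eq]
    rw [show r₁ * (r₂ * w₁) * (w₁⁻¹ * w₂) * r₁⁻¹ * w₂⁻¹ * r₂⁻¹ =
      r₁ * r₂ * (w₂ * r₁⁻¹) * w₂⁻¹ * r₂⁻¹ by group, c2.inv_right.eq]
    rw [show r₁ * r₂ * (r₁⁻¹ * w₂) * w₂⁻¹ * r₂⁻¹ = r₁ * r₂ * r₁⁻¹ * r₂⁻¹ by group]
    exact mul_mem (mul_mem (mul_mem h₁ h₂) (inv_mem h₁)) (inv_mem h₂)
  have hall : ∀ r ∈ R, g * r * g⁻¹ ∈ R := by
    rcases hA.icos.simple (commutator R) inferInstance with e | e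
    · exfalso
      obtain ⟨r, hr, -, hrt, -⟩ := hA.icos.exists_three (c.t_mem_R hA) (c.u_mem_R hA) T.order_t
        c.F.order_u c.F.comm_u.symm c.F.ne.symm
      have h1 : ⁅(⟨r, hr⟩ : R), ⟨T.t, c.t_mem_R hA⟩⁆ ∈ commutator R :=
        commutator_mem_commutator (mem_top _) (mem_top _)
      rw [e, mem_bot] at h1
      have h2 : r * T.t * r⁻¹ * T.t⁻¹ = 1 := congrArg Subtype.val h1
      exact c.F.ne (hrt.symm.trans (mul_inv_eq_one.1 h2))
    · exact fun r hr => hcom (e ▸ mem_top (⟨r, hr⟩ : R))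
  have hle : R.map (MulAut.conj g).toMonoidHom ≤ R := by
    rintro _ ⟨r, hr, rfl⟩
    exact hall r hr
  have heq := eq_of_le_of_card_ge hle (by rw [card_map_of_injective (MulAut.conj g).injective])
  rw [mem_normalizer_iff]
  refine fun r => ⟨hall r, fun h => ?_⟩
  rw [← heq] at h
  obtain ⟨r', hr', e⟩ := h
  rwa [← (MulAut.conj g).injective e]

/-- An element of order three of `R`, an involution of `R` inverting it and an outer involution
centralizing `R`. -/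
theorem exists_triple : ∃ τ₁ s x : G, τ₁ ∈ R ∧ s ∈ R ∧ orderOf τ₁ = 3 ∧ orderOf s = 2 ∧
    s * τ₁ * s⁻¹ = τ₁⁻¹ ∧ orderOf x = 2 ∧ x * c.F.a * x⁻¹ = c.F.a⁻¹ ∧ ∀ r ∈ R, Commute x r := by
  have ha1 : c.F.a ≠ 1 := fun e => by
    have := c.F.order_a; rw [e, orderOf_one] at this; have := T.kit.one_lt_m; omega
  obtain ⟨τ₁, hτR, hτ3, -, -⟩ := hA.icos.exists_three (c.t_mem_R hA) (c.u_mem_R hA) T.order_t
    c.F.order_u c.F.comm_u.symm c.F.ne.symm
  obtain ⟨s, hsR, hs2, hsi⟩ := hA.icos.exists_inverter hτR hτ3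
  have hxN : c.F.x ∈ normalizer (R : Set G) :=
    c.normalize hA (mem_zpowers _) ha1 (by rw [c.F.x_a]; exact inv_mem (mem_zpowers _))
  obtain ⟨e, he, hc⟩ := hA.icos.centralize (c.t_mem_R hA) (c.u_mem_R hA) T.order_t c.F.order_u
    c.F.comm_u.symm c.F.ne.symm hxN c.F.x_t c.F.x_u
  obtain ⟨x1, x2, x3, x4⟩ := c.F.mem_outer_mul he
  exact ⟨τ₁, s, e * c.F.x, hτR, hsR, hτ3, hs2, hsi, x3, c.F.inverts_of_invol x1 x2 x3 x4, hc⟩

/-- The case `p = 3`. -/
theorem false_of_p (hp : p = 3)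
    (h3 : p = 3 → ∀ y g : T.K, orderOf y = 3 → g * y * g⁻¹ ≠ y⁻¹) : False := by
  obtain ⟨τ₁, s, x, hτR, hsR, hτ3, hs2, hsi, hx2, -, hxR⟩ := c.exists_triple hA
  obtain ⟨g, hg⟩ := isConj_iff.1 (T.conj x hx2).symm
  have hc : ∀ r ∈ R, Commute (g * r * g⁻¹) T.t := fun r hr => hg ▸ (hxR r hr).symm.map (MulAut.conj g)
  set y := g * τ₁ * g⁻¹ with hy
  have hyo : orderOf y = 3 := by rw [hy, ← MulAut.conj_apply, MulEquiv.orderOf_eq, hτ3]
  have hyK := T.mem_K_of_odd (hc _ hτR) (by rw [hyo]; decide)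
  have hinv : g * s * g⁻¹ * y * (g * s * g⁻¹)⁻¹ = y⁻¹ := by
    rw [hy, show g * s * g⁻¹ * (g * τ₁ * g⁻¹) * (g * s * g⁻¹)⁻¹ = g * (s * τ₁ * s⁻¹) * g⁻¹ by group,
      hsi, ← conj_inv]
  obtain ⟨k, hk⟩ := T.exists_split (hc _ hsR)
  refine h3 hp ⟨y, hyK⟩ k (by rw [Subgroup.orderOf_mk, hyo]) (Subtype.ext ?_)
  show (k : G) * y * (k : G)⁻¹ = y⁻¹
  rcases hk with hk | hk
  · rw [← hk]; exact hinv
  · rw [hk] at hinv
    calc (k : G) * y * (k : G)⁻¹ = T.t⁻¹ * (T.t * k * y * (T.t * k)⁻¹) * T.t := by group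
      _ = y⁻¹ := by rw [hinv, mul_assoc, (hc _ hτR).inv_left.eq, inv_mul_cancel_left]

/-- The case `3 ∣ m`. -/
theorem false_of_m (h3m : 3 ∣ m) : False := by
  classical
  haveI : Fact (Nat.Prime 3) := ⟨Nat.prime_three⟩
  obtain ⟨τ₁, s, x, hτR, hsR, hτ3, hs2, hsi, hx2, hxa, hxR⟩ := c.exists_triple hA
  set b := c.F.a ^ (m / 3) with hb
  have hbA : b ∈ zpowers c.F.a := pow_mem (mem_zpowers _) _
  have hbo : orderOf b = 3 := by
    have := orderOf_pow_orderOf_div (orderOf_pos c.F.a).ne'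
      (show 3 ∣ orderOf c.F.a from c.F.order_a.symm ▸ h3m)
    rwa [c.F.order_a] at this
  have hb3 : b ^ 3 = 1 := by rw [← hbo, pow_orderOf_eq_one]
  have hb1 : b ≠ 1 := fun e => by rw [e, orderOf_one] at hbo; norm_num at hbo
  have hτ31 : τ₁ ^ 3 = 1 := by rw [← hτ3, pow_orderOf_eq_one]
  have hcube : ∀ w ∈ zpowers c.F.a, w ^ 3 = 1 → w ∈ zpowers b := by
    intro w hw hw3
    rcases eq_or_ne w 1 with rfl | hw1
    · exact one_mem _
    have hwo : orderOf w = 3 := orderOf_eq_prime hw3 hw1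
    rw [← PSLSpectrum.eq_of_le_zpowers (u := c.F.a) (zpowers_le.2 hw) (zpowers_le.2 hbA)
      (by rw [Nat.card_zpowers, Nat.card_zpowers, hwo, hbo])]
    exact mem_zpowers w
  have hpl : Plane b τ₁ x s := by
    refine ⟨hb3, hτ31, (c.comm_R_A hA hτR hbA).symm, fun i j e => ?_, ?_, ?_, ?_, hsi⟩
    · have h1 : τ₁ ^ j = (b ^ i)⁻¹ := eq_inv_of_mul_eq_one_right e
      have h2 := c.R_inter_A hA (pow_mem hτR j) (h1 ▸ inv_mem (pow_mem hbA i))
      refine ⟨?_, hτ3 ▸ orderOf_dvd_of_pow_eq_one h2⟩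
      rw [h2, mul_one] at e
      exact hbo ▸ orderOf_dvd_of_pow_eq_one e
    · rw [hb, ← conj_pow, hxa, inv_pow]
    · rw [(hxR _ hτR).eq, mul_inv_cancel_right]
    · rw [(c.comm_R_A hA hsR hbA).eq, mul_inv_cancel_right]
  -- `τ₁` is conjugate into `⟨b⟩`
  obtain ⟨h, hh⟩ : ∃ h : G, h * τ₁ * h⁻¹ ∈ zpowers b := by
    obtain ⟨g, hg⟩ := isConj_iff.1 (T.conj x hx2).symm
    have hc : Commute (g * τ₁ * g⁻¹) T.t := hg ▸ (hxR _ hτR).symm.map (MulAut.conj g)
    have hyo : orderOf (g * τ₁ * g⁻¹) = 3 := by rw [← MulAut.conj_apply, MulEquiv.orderOf_eq, hτ3]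
    have hyK := T.mem_K_of_odd hc (by rw [hyo]; decide)
    have hbK : b ∈ T.K := pow_mem c.a_mem_K _
    obtain ⟨k, hk⟩ := T.kit.conj_m Nat.prime_three h3m (v := (⟨b, hbK⟩ : T.K)) (v' := ⟨_, hyK⟩)
      (by rw [Subgroup.orderOf_mk, hbo]) (by rw [Subgroup.orderOf_mk, hyo])
    obtain ⟨i, hi⟩ := mem_zpowers_iff.1 hk
    have hi' : b ^ i = (k : G) * (g * τ₁ * g⁻¹) * (k : G)⁻¹ := congrArg Subtype.val hi
    exact ⟨(k : G) * g, mem_zpowers_iff.2 ⟨i, by rw [hi']; group⟩⟩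
  set v := h * τ₁ * h⁻¹ with hv
  have hvA : v ∈ zpowers c.F.a := (zpowers_le.2 hbA) hh
  have hvo : orderOf v = 3 := by rw [hv, ← MulAut.conj_apply, MulEquiv.orderOf_eq, hτ3]
  have hv1 : v ≠ 1 := fun e => by rw [e, orderOf_one] at hvo; norm_num at hvo
  have hvR : v ∉ R := fun e => hv1 (c.R_inter_A hA e hvA)
  -- the axis `⟨b⟩` is recognized from `τ₁`
  set L : Subgroup G := R.comap (MulAut.conj h).toMonoidHom with hL
  have hmemL : ∀ z, z ∈ L ↔ h * z * h⁻¹ ∈ R := fun z => Iff.rfl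
  have hLτ : ∀ j : ℕ, τ₁ ^ j ∈ L → 3 ∣ j := by
    intro j hj
    rw [hmemL, ← conj_pow] at hj
    exact hvo ▸ orderOf_dvd_of_pow_eq_one (c.R_inter_A hA hj (pow_mem hvA j))
  have hbL : b ∈ L := by
    have hc : Commute (h * b * h⁻¹) v := hpl.comm.map (MulAut.conj h)
    obtain ⟨r, hr, w, hw, e⟩ := c.split hA hvA hv1 hc
    have hrw : Commute r w := c.comm_R_A hA hr hw
    have h3' : r ^ 3 * w ^ 3 = 1 := by rw [← hrw.mul_pow, ← e, conj_pow, hb3, mul_one, mul_inv_cancel]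
    obtain ⟨hr3, hw3⟩ := c.split_unique hA (pow_mem hr 3) (one_mem R) (pow_mem hw 3)
      (one_mem _) (by rw [h3', one_mul])
    have hwb : w ∈ zpowers v := by
      have hle : zpowers v = zpowers b := PSLSpectrum.eq_of_le_zpowers (u := b)
        (zpowers_le.2 hh) le_rfl (by rw [Nat.card_zpowers, Nat.card_zpowers, hvo, hbo])
      rw [hle]
      exact hcube w hw hw3
    obtain ⟨i, hi⟩ := mem_zpowers_iff.1 hwb
    set z := b * (τ₁ ^ i)⁻¹ with hz
    have hzL : z ∈ L := by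
      rw [hmemL, hz, show h * (b * (τ₁ ^ i)⁻¹) * h⁻¹ = h * b * h⁻¹ * (h * τ₁ ^ i * h⁻¹)⁻¹ by group,
        e, ← conj_zpow, ← hv, hi, mul_inv_cancel_right]
      exact hr
    have hxn : h * x * h⁻¹ ∈ normalizer (R : Set G) := by
      refine c.normalize hA hvA hv1 ?_
      rw [show h * x * h⁻¹ * v * (h * x * h⁻¹)⁻¹ = h * (x * τ₁ * x⁻¹) * h⁻¹ by rw [hv]; group,
        (hxR _ hτR).eq, mul_inv_cancel_right]
      exact hvA
    have hxz : x * z * x⁻¹ ∈ L := by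
      rw [hmemL, show h * (x * z * x⁻¹) * h⁻¹ = h * x * h⁻¹ * (h * z * h⁻¹) * (h * x * h⁻¹)⁻¹ by group]
      exact (mem_normalizer_iff.1 hxn _).1 hzL
    have hxz' : x * z * x⁻¹ = b⁻¹ * (τ₁ ^ i)⁻¹ := by
      rw [hz, show x * (b * (τ₁ ^ i)⁻¹) * x⁻¹ = x * b * x⁻¹ * (x * τ₁ ^ i * x⁻¹)⁻¹ by group, hpl.xa,
        ((hxR _ hτR).zpow_right i).eq, mul_inv_cancel_right]
    have hbτ : Commute b ((τ₁ ^ i)⁻¹) := (hpl.comm.zpow_right i).inv_right
    have h2 : τ₁ ^ (2 * i) ∈ L := by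
      have h5 := inv_mem (mul_mem hxz hzL)
      rw [hxz', hz] at h5
      rwa [show (b⁻¹ * (τ₁ ^ i)⁻¹ * (b * (τ₁ ^ i)⁻¹))⁻¹ = τ₁ ^ (2 * i) by
        rw [← mul_assoc, mul_assoc b⁻¹, ← hbτ.eq, ← mul_assoc, inv_mul_cancel, one_mul, two_mul,
          zpow_add, mul_inv_rev, inv_inv]] at h5
    have h6 : τ₁ ^ i = 1 := by
      obtain ⟨j, hj⟩ : ∃ j : ℕ, τ₁ ^ (2 * i) = τ₁ ^ j :=
        mem_powers_iff_mem_zpowers.2 (zpow_mem (mem_zpowers τ₁) (2 * i)) |>.imp fun j hj => hj.symm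
      have h7 : τ₁ ^ (2 * i) = 1 := by
        rw [hj]
        exact orderOf_dvd_iff_pow_eq_one.1 (hτ3.symm ▸ hLτ j (hj ▸ h2))
      calc τ₁ ^ i = (τ₁ ^ (2 * i)) ^ (2 : ℤ) * (τ₁ ^ (3 : ℤ)) ^ (-i) := by
            rw [← zpow_mul, ← zpow_mul, ← zpow_add]; congr 1; ring
        _ = 1 := by rw [h7, one_zpow, one_mul, show (3 : ℤ) = ((3 : ℕ) : ℤ) from rfl, zpow_natCast, hτ31, one_zpow]
    rwa [hz, h6, inv_one, mul_one] at hzL
  -- the plane as a subgroup
  let E : Subgroup G :=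
    { carrier := {y | InE b τ₁ y}
      one_mem' := ⟨0, 0, by norm_num, by norm_num, by simp⟩
      mul_mem' := by
        rintro _ _ ⟨i, j, -, -, rfl⟩ ⟨k, l, -, -, rfl⟩
        exact ⟨(i + k) % 3, (j + l) % 3, Nat.mod_lt _ (by norm_num), Nat.mod_lt _ (by norm_num),
          by rw [hpl.mul_form, hpl.red]⟩
      inv_mem' := by
        rintro _ ⟨i, j, -, -, rfl⟩
        refine ⟨(2 * i) % 3, (2 * j) % 3, Nat.mod_lt _ (by norm_num), Nat.mod_lt _ (by norm_num), ?_⟩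
        refine inv_eq_of_mul_eq_one_right ?_
        rw [← hpl.red, hpl.mul_form, show i + 2 * i = 3 * i by ring, show j + 2 * j = 3 * j by ring,
          pow_mul, pow_mul, hb3, hτ31, one_pow, one_pow, one_mul] }
  have hEp : IsPGroup 3 E := fun y => ⟨1, Subtype.ext (by
    obtain ⟨i, j, -, -, e⟩ := y.2
    push_cast
    rw [e, hpl.pow_form, mul_comm i, mul_comm j, pow_mul, pow_mul, hb3, hτ31, one_pow,
      one_pow, one_mul])⟩
  have hbE : b ∈ E := ⟨1, 0, by norm_num, by norm_num, by simp⟩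
  have hτE : τ₁ ∈ E := ⟨0, 1, by norm_num, by norm_num, by simp⟩
  obtain ⟨P, hP⟩ := hEp.exists_le_sylow
  set C := centralizer ({b} : Set G) ⊓ centralizer ({τ₁} : Set G) with hC
  have hCf : ∀ z ∈ C, ∃ i : ℤ, ∃ w ∈ zpowers c.F.a, z = τ₁ ^ i * w := by
    intro z hz
    obtain ⟨hzb, hzτ⟩ := mem_inf.1 hz
    obtain ⟨r, hr, w, hw, rfl⟩ := c.split hA hbA hb1 (mem_centralizer_singleton_iff.1 hzb)
    have h1 := (show Commute (r * w) τ₁ from mem_centralizer_singleton_iff.1 hzτ).mul_left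
      (c.comm_R_A hA hτR hw).symm.inv_left
    rw [mul_inv_cancel_right] at h1
    obtain ⟨i, hi⟩ := mem_zpowers_iff.1 (hA.icos.cent_three hτR hτ3 hr h1)
    exact ⟨i, w, hw, by rw [hi]⟩
  have hCcomm : ∀ y ∈ C, ∀ z ∈ C, Commute y z := by
    intro y hy z hz
    obtain ⟨i, w, hw, rfl⟩ := hCf y hy
    obtain ⟨j, w', hw', rfl⟩ := hCf z hz
    have h1 : Commute (τ₁ ^ i) w' := c.comm_R_A hA (zpow_mem hτR i) hw'
    have h2 : Commute w (τ₁ ^ j) := (c.comm_R_A hA (zpow_mem hτR j) hw).symm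
    exact (((Commute.refl τ₁).zpow_zpow i j).mul_right h1).mul_left
      (h2.mul_right (c.D_comm (c.a_mem_D hw) (c.a_mem_D hw')))
  have hC3 : ∀ z ∈ C, z ^ 3 = 1 → InE b τ₁ z := by
    intro z hz hz3
    obtain ⟨i, w, hw, rfl⟩ := hCf z hz
    have h1 : Commute (τ₁ ^ i) w := c.comm_R_A hA (zpow_mem hτR i) hw
    have h2 : w ^ 3 = 1 := by
      rw [h1.mul_pow] at hz3
      exact (c.split_unique hA (pow_mem (zpow_mem hτR i) 3) (one_mem R) (pow_mem hw 3) (one_mem _)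
        (by rw [hz3, one_mul])).2
    obtain ⟨l, hl⟩ := mem_zpowers_iff.1 (hcube w hw h2)
    exact mul_mem (zpow_mem hτE i) (hl ▸ zpow_mem hbE l : w ∈ E)
  -- the Sylow subgroup centralizes the plane
  have hPC : (P : Subgroup G) ≤ C := by
    haveI := P.isPGroup'.isNilpotent
    set Q : Subgroup P := C.subgroupOf P with hQ
    by_contra hne
    have hlt : Q < ⊤ := lt_top_iff_ne_top.2 fun e => hne (subgroupOf_eq_top.1 e)
    obtain ⟨g, hg, hgQ⟩ := SetLike.exists_of_lt (Group.normalizerCondition_of_isNilpotent Q hlt)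
    have hEC : ∀ y, InE b τ₁ y → y ∈ C := by
      rintro _ ⟨i, j, -, -, rfl⟩
      refine mul_mem (pow_mem (mem_inf.2 ⟨mem_centralizer_singleton_iff.2 rfl,
        mem_centralizer_singleton_iff.2 hpl.comm.eq⟩) _) (pow_mem (mem_inf.2
        ⟨mem_centralizer_singleton_iff.2 hpl.comm.symm.eq, mem_centralizer_singleton_iff.2 rfl⟩) _)
    have him : ∀ y, InE b τ₁ y → InE b τ₁ ((g : G) * y * (g : G)⁻¹) := by
      intro y hy
      have hyP : y ∈ (P : Subgroup G) := hP hy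
      have h1 := (mem_normalizer_iff.1 hg ⟨y, hyP⟩).1 (mem_subgroupOf.2 (hEC y hy))
      rw [mem_subgroupOf] at h1
      refine hC3 _ h1 ?_
      obtain ⟨i, j, -, -, rfl⟩ := hy
      rw [conj_pow, hpl.pow_form, mul_comm i, mul_comm j, pow_mul, pow_mul, hb3, hτ31, one_pow, one_pow,
        one_mul, mul_one, mul_inv_cancel]
    obtain ⟨e, he⟩ := P.isPGroup' g
    have hge : (g : G) ^ 3 ^ e = 1 := congrArg Subtype.val he
    obtain ⟨k1, k2⟩ := hpl.commute_of_three T.not_four_dvd hge (him b hbE) (him τ₁ hτE) (by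
      intro i hi
      have hgR : (g : G) ∈ normalizer (R : Set G) := c.normalize hA hbA hb1 (hi ▸ pow_mem hbA i)
      obtain ⟨k, l, -, -, hkl⟩ := him τ₁ hτE
      refine ⟨l, ?_⟩
      have h1 : (g : G) * τ₁ * (g : G)⁻¹ ∈ R := (mem_normalizer_iff.1 hgR _).1 hτR
      rw [hkl] at h1
      have h2 : b ^ k ∈ R := by
        have := mul_mem h1 (inv_mem (pow_mem hτR l))
        rwa [mul_inv_cancel_right] at this
      rw [hkl, c.R_inter_A hA h2 (pow_mem hbA k), one_mul]) (by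
      intro j hj
      have hgR : h * (g : G) * h⁻¹ ∈ normalizer (R : Set G) := by
        refine c.normalize hA hvA hv1 ?_
        rw [hv, show h * (g : G) * h⁻¹ * (h * τ₁ * h⁻¹) * (h * (g : G) * h⁻¹)⁻¹ =
          h * ((g : G) * τ₁ * (g : G)⁻¹) * h⁻¹ by group, hj, ← conj_pow, ← hv]
        exact pow_mem hvA j
      obtain ⟨k, l, -, -, hkl⟩ := him b hbE
      refine ⟨k, ?_⟩
      have h1 : (g : G) * b * (g : G)⁻¹ ∈ L := by
        rw [hmemL, show h * ((g : G) * b * (g : G)⁻¹) * h⁻¹ =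
          h * (g : G) * h⁻¹ * (h * b * h⁻¹) * (h * (g : G) * h⁻¹)⁻¹ by group]
        exact (mem_normalizer_iff.1 hgR _).1 hbL
      rw [hkl] at h1
      have h2 : τ₁ ^ l ∈ L := by
        have := mul_mem (inv_mem (pow_mem hbL k)) h1
        rwa [inv_mul_cancel_left] at this
      obtain ⟨l', rfl⟩ := hLτ l h2
      rw [hkl, pow_mul, hτ31, one_pow, mul_one])
    exact hgQ (mem_subgroupOf.2 (mem_inf.2
      ⟨mem_centralizer_singleton_iff.2 k1.eq, mem_centralizer_singleton_iff.2 k2.eq⟩))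
  haveI : IsMulCommutative (P : Subgroup G) :=
    ⟨⟨fun y z => Subtype.ext (hCcomm _ (hPC y.2) _ (hPC z.2)).eq⟩⟩
  obtain ⟨j, hj⟩ : ∃ j : ℕ, v = b ^ j := (mem_powers_iff_mem_zpowers.2 hh).imp fun j hj => hj.symm
  obtain ⟨nn, hnn, hne⟩ := P.conj_eq_normalizer_conj_of_mem v h (hP (hj ▸ pow_mem hbE j : v ∈ E))
    (by rw [hv, show h⁻¹ * (h * τ₁ * h⁻¹) * h = τ₁ by group]; exact hP hτE)
  have hnτ : nn * τ₁ * nn⁻¹ = b ^ j := by
    rw [← hj, show τ₁ = nn⁻¹ * v * nn by rw [← hne, hv]; group]; group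
  refine hpl.symm.no_swap T.not_four_dvd (j := j) (fun e => ?_) hnτ (hpl.inE_symm ?_)
  · obtain ⟨l, rfl⟩ : 3 ∣ j := Nat.dvd_of_mod_eq_zero e
    rw [pow_mul, hb3, one_pow] at hj
    exact hv1 hj
  · refine hC3 _ (hPC ((mem_normalizer_iff.1 hnn b).1 (hP hbE))) ?_
    rw [conj_pow, hb3, mul_one, mul_inv_cancel]

end Conf

end Setup

end CfsgLib.JTh
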