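import Cfsg.Agent.Lib.JTh.AKill

/-!
# An involution centralizer `2 × PSL(2, q)`: no icosahedral centralizers, the case `3 ∣ n`
-/

set_option autoImplicit false
set_option linter.unusedSectionVars false

namespace CfsgLib.JTh

open Subgroup
open scoped commutatorElement
open CfsgLib.ReeType (inverts_of_fpf comm_of_inverted exists_odd_part exists_complement)

universe u

variable {G : Type u} [Group G] [Finite G]

/-- The four-group of two commuting involutions. -/
theorem exists_klein {x s : G} (hx : orderOf x = 2) (hs : orderOf s = 2) (hc : Commute x s) (hne : x ≠ s) :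
    ∃ U : Subgroup G, IsMulCommutative U ∧ ¬ IsCyclic U ∧ Nat.card U = 4 ∧
      ∀ g : G, g ∈ U ↔ g = 1 ∨ g = x ∨ g = s ∨ g = s * x := by
  classical
  have hx1 : x * x = 1 := Invol.invol_mul_self hx
  have hs1 : s * s = 1 := Invol.invol_mul_self hs
  have hxs : x * s = s * x := hc.eq
  have k1 : x * (s * x) = s := by rw [← mul_assoc, hxs, mul_assoc, hx1, mul_one]
  have k2 : s * (s * x) = x := by rw [← mul_assoc, hs1, one_mul]
  have k3 : s * x * x = s := by rw [mul_assoc, hx1, mul_one]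
  have k4 : s * x * s = x := by rw [mul_assoc, hxs, k2]
  have k5 : s * x * (s * x) = 1 := by rw [mul_assoc, k1, hs1]
  let U : Subgroup G :=
    { carrier := {g | g = 1 ∨ g = x ∨ g = s ∨ g = s * x}
      one_mem' := Or.inl rfl
      mul_mem' := by
        rintro a b ha hb
        show a * b = 1 ∨ a * b = x ∨ a * b = s ∨ a * b = s * x
        rcases ha with rfl | rfl | rfl | rfl <;> rcases hb with rfl | rfl | rfl | rfl <;>
          simp [hx1, hs1, hxs, k1, k2, k3, k4, k5]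
      inv_mem' := by
        rintro a ha
        show a⁻¹ = 1 ∨ a⁻¹ = x ∨ a⁻¹ = s ∨ a⁻¹ = s * x
        rcases ha with rfl | rfl | rfl | rfl
        · simp
        · exact Or.inr (Or.inl (Invol.invol_inv hx))
        · exact Or.inr (Or.inr (Or.inl (Invol.invol_inv hs)))
        · exact Or.inr (Or.inr (Or.inr (inv_eq_of_mul_eq_one_right k5))) }
  have hsx : s * x ≠ 1 := fun e => hne ((eq_inv_of_mul_eq_one_right e).trans (Invol.invol_inv hs))
  have hU : Nat.card U = 4 := by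
    show Nat.card ↥({1, x, s, s * x} : Set G) = 4
    rw [Nat.card_coe_set_eq,
      Set.ncard_insert_of_notMem (by simp [(Invol.invol_ne_one hx).symm, (Invol.invol_ne_one hs).symm, hsx.symm]),
      Set.ncard_insert_of_notMem (by simp [hne, Invol.invol_ne_one hs]),
      Set.ncard_insert_of_notMem (by simp [Invol.invol_ne_one hx]), Set.ncard_singleton]
  have hsq : ∀ g : U, g * g = 1 := by
    rintro ⟨g, rfl | rfl | rfl | rfl⟩ <;> apply Subtype.ext <;> push_cast
    exacts [one_mul 1, hx1, hs1, k5]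
  refine ⟨U, ⟨⟨fun a b => ?_⟩⟩, fun hcy => ?_, hU, fun g => Iff.rfl⟩
  · calc a * b = (a * b)⁻¹ := (inv_eq_of_mul_eq_one_right (hsq (a * b))).symm
      _ = b⁻¹ * a⁻¹ := mul_inv_rev _ _
      _ = b * a := by rw [inv_eq_of_mul_eq_one_right (hsq a), inv_eq_of_mul_eq_one_right (hsq b)]
  · obtain ⟨g, hg⟩ := hcy.exists_generator
    have h1 : orderOf g = 4 := by rw [orderOf_eq_card_of_forall_mem_zpowers hg, hU]
    have h2 : orderOf g ∣ 2 := orderOf_dvd_of_pow_eq_one (by rw [pow_two]; exact hsq g)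
    rw [h1] at h2
    norm_num at h2

namespace Setup

variable {p q m n : ℕ} {T : Setup G p q m n}

namespace Conf

variable (c : Conf T) {R : Subgroup G} (hA : c.AType R)
include hA

/-- The case `3 ∣ n`. -/
theorem false_of_n (h3n : 3 ∣ n) : False := by
  classical
  obtain ⟨τ₁, s, x, hτR, hsR, hτ3, hs2, hsi, hx2, hxa, hxR⟩ := c.exists_triple hA
  set a := c.F.a with ha
  have hao : orderOf a = m := c.F.order_a
  have hn : Odd n := T.kit.data.mo_odd
  have hcop : m.Coprime n := T.kit.data.cop.coprime_mul_left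
  have h3m : ¬ 3 ∣ m := fun hd => by
    have := Nat.eq_one_of_dvd_coprimes hcop hd h3n
    norm_num at this
  have hτ31 : τ₁ ^ 3 = 1 := by rw [← hτ3, pow_orderOf_eq_one]
  have ha1 : a ≠ 1 := fun e => by
    rw [e, orderOf_one] at hao; have := T.kit.one_lt_m; omega
  have hxs : Commute x s := hxR s hsR
  have hxτ : Commute x τ₁ := hxR τ₁ hτR
  have hsa : Commute s a := hA.comm_a s hsR
  have hτa : Commute τ₁ a := hA.comm_a τ₁ hτR
  have hxne : x ≠ s := fun e => c.F.a_ne_inv (by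
    rw [e, hsa.eq, mul_inv_cancel_right] at hxa; exact hxa)
  obtain ⟨U, hUc, hUnc, hU4, hUmem⟩ := exists_klein hx2 hs2 hxs hxne
  haveI := hUc
  obtain ⟨T', hT'⟩ := T.exists_setup hx2
  obtain ⟨hC4, w₀, hw₀, hw₀τ, hw₀x, hw₀all, hw₀inv⟩ := T'.three_n_facts h3n hτ3 (by rw [hT']; exact hxτ.symm)
  rw [hT'] at hw₀x hw₀all hw₀inv
  have hsw : s * w₀ * s⁻¹ = w₀⁻¹ := hw₀inv s hxs.symm hsi
  have hC2 : 2 ∣ Nat.card (centralizer ({τ₁} : Set G)) :=
    hx2 ▸ Subgroup.orderOf_dvd_natCard _ (mem_centralizer_singleton_iff.2 hxτ.eq)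
  obtain ⟨W, hWC, hCW, hWodd, -, hWmem'⟩ := exists_odd_part _ hC2 hC4
  have hWmem : ∀ {z}, z ∈ W ↔ Commute z τ₁ ∧ Odd (orderOf z) := fun {z} =>
    ⟨fun hz => ⟨mem_centralizer_singleton_iff.1 (hWC hz), hWodd.of_dvd_nat (Subgroup.orderOf_dvd_natCard W hz)⟩,
      fun hz => hWmem' z (mem_centralizer_singleton_iff.2 hz.1.eq) hz.2⟩
  have hτW : τ₁ ∈ W := hWmem.2 ⟨Commute.refl _, by rw [hτ3]; decide⟩
  have haW : a ∈ W := hWmem.2 ⟨hτa.symm, by rw [hao]; exact T.kit.m_odd⟩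
  have hw₀W : w₀ ∈ W := hWmem.2 ⟨hw₀τ, by rw [hw₀]; exact hn⟩
  have hord : ∀ (g z : G), orderOf (g * z * g⁻¹) = orderOf z := fun g z => by
    rw [← MulAut.conj_apply, MulEquiv.orderOf_eq]
  -- `x` and `s` normalize `W`
  have hxW : ∀ z ∈ W, x * z * x⁻¹ ∈ W := fun z hz => by
    obtain ⟨h1, h2⟩ := hWmem.1 hz
    refine hWmem.2 ⟨?_, by rwa [hord]⟩
    have := h1.map (MulAut.conj x)
    simp only [MulAut.conj_apply] at this
    rwa [hxτ.eq, mul_inv_cancel_right] at this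
  have hsW : ∀ z ∈ W, s * z * s⁻¹ ∈ W := fun z hz => by
    obtain ⟨h1, h2⟩ := hWmem.1 hz
    refine hWmem.2 ⟨?_, by rwa [hord]⟩
    have := h1.map (MulAut.conj s)
    simp only [MulAut.conj_apply] at this
    rw [hsi] at this
    exact Commute.inv_right_iff.1 this
  have hzero : ∀ z ∈ W, Commute z x → Commute z s → z = 1 := by
    intro z hz hzx hzs
    obtain ⟨h1, h2⟩ := hWmem.1 hz
    obtain ⟨i, rfl⟩ := mem_zpowers_iff.1 (hw₀all z h1 hzx h2)
    have h3 : s * w₀ ^ i * s⁻¹ = (w₀ ^ i)⁻¹ := by rw [← conj_zpow, hsw, inv_zpow]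
    rw [← hzs.eq, mul_inv_cancel_right] at h3
    have h4 : orderOf (w₀ ^ i) ∣ 2 := orderOf_dvd_of_pow_eq_one (by
      rw [pow_two]; nth_rw 2 [h3]; exact mul_inv_cancel _)
    exact orderOf_eq_one_iff.1 (Nat.eq_one_of_dvd_coprimes (Nat.coprime_two_left.2 h2) h4 dvd_rfl)
  -- the elements of `W` commuting with an element of the torus
  have hWa : ∀ z ∈ W, ∀ v ∈ zpowers a, v ≠ 1 → Commute z v →
      ∃ i : ℤ, ∃ α ∈ zpowers a, z = τ₁ ^ i * α := by
    intro z hz v hv hv1 hzv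
    obtain ⟨r, hr, α, hα, rfl⟩ := c.split hA hv hv1 hzv
    have h1 := (hWmem.1 hz).1.mul_left (c.comm_R_A hA hτR hα).symm.inv_left
    rw [mul_inv_cancel_right] at h1
    obtain ⟨i, hi⟩ := mem_zpowers_iff.1 (hA.icos.cent_three hτR hτ3 hr h1)
    exact ⟨i, α, hα, by rw [hi]⟩
  have hWs : ∀ z ∈ W, Commute z s → z ∈ zpowers a := by
    intro z hz hzs
    have haH : a ∈ W ⊓ centralizer ({s} : Set G) :=
      mem_inf.2 ⟨haW, mem_centralizer_singleton_iff.2 hsa.eq.symm⟩
    have hzH : z ∈ W ⊓ centralizer ({s} : Set G) :=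
      mem_inf.2 ⟨hz, mem_centralizer_singleton_iff.2 hzs.eq⟩
    have hza : Commute z a := by
      refine comm_of_inverted (inverts_of_fpf (Invol.invol_mul_self hx2) (fun y hy => ?_) fun y hy he => ?_)
        z hzH a haH
      · obtain ⟨hyW, hys⟩ := mem_inf.1 hy
        refine mem_inf.2 ⟨hxW y hyW, mem_centralizer_singleton_iff.2 ?_⟩
        have := (show Commute y s from mem_centralizer_singleton_iff.1 hys).map (MulAut.conj x)
        simp only [MulAut.conj_apply] at this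
        rw [show x * s * x⁻¹ = s by rw [hxs.eq, mul_inv_cancel_right]] at this
        exact this.eq
      · obtain ⟨hyW, hys⟩ := mem_inf.1 hy
        exact hzero y hyW (Commute.symm he) (mem_centralizer_singleton_iff.1 hys)
    obtain ⟨i, α, hα, rfl⟩ := hWa z hz a (mem_zpowers a) ha1 hza
    have h1 := hzs.mul_left (c.comm_R_A hA hsR hα).symm.inv_left
    rw [mul_inv_cancel_right] at h1
    have h2 : s * τ₁ ^ i * s⁻¹ = (τ₁ ^ i)⁻¹ := by rw [← conj_zpow, hsi, inv_zpow]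
    rw [← h1.eq, mul_inv_cancel_right] at h2
    have h3 : τ₁ ^ i = 1 := orderOf_eq_one_iff.1 (Nat.eq_one_of_dvd_coprimes
      (show Nat.Coprime 2 3 by decide)
      (orderOf_dvd_of_pow_eq_one (by rw [pow_two]; nth_rw 2 [h2]; exact mul_inv_cancel _))
      (orderOf_dvd_of_pow_eq_one (by
        rw [← zpow_natCast, ← zpow_mul, mul_comm, zpow_mul, zpow_natCast, hτ31, one_zpow])))
    rw [h3, one_mul]
    exact hα
  have hWsx : ∀ z ∈ W, Commute z (s * x) → s * z * s⁻¹ = z⁻¹ := by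
    intro z hz hzc
    refine inverts_of_fpf (H := W ⊓ centralizer ({s * x} : Set G)) (Invol.invol_mul_self hs2)
      (fun y hy => ?_) (fun y hy he => ?_) z (mem_inf.2 ⟨hz, mem_centralizer_singleton_iff.2 hzc.eq⟩)
    · obtain ⟨hyW, hys⟩ := mem_inf.1 hy
      refine mem_inf.2 ⟨hsW y hyW, mem_centralizer_singleton_iff.2 ?_⟩
      have := (show Commute y (s * x) from mem_centralizer_singleton_iff.1 hys).map (MulAut.conj s)
      simp only [MulAut.conj_apply] at this
      rw [show s * (s * x) * s⁻¹ = s * x by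
        rw [show s * (s * x) = (s * s) * x by group, Invol.invol_mul_self hs2, one_mul,
          Invol.invol_inv hs2, hxs.eq]] at this
      exact this.eq
    · obtain ⟨hyW, hys⟩ := mem_inf.1 hy
      have hys' : Commute y (s * x) := mem_centralizer_singleton_iff.1 hys
      have hy : Commute y x := by
        have := (Commute.symm he : Commute y s).inv_right.mul_right hys'
        rwa [inv_mul_cancel_left] at this
      exact hzero y hyW hy (Commute.symm he)
  have hxinvA : ∀ v ∈ zpowers a, x * v * x⁻¹ = v⁻¹ := by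
    rintro _ ⟨i, rfl⟩
    simp only
    rw [← conj_zpow, hxa, inv_zpow]
  -- an element of `W` normalizing the torus centralizes it
  have hNA : ∀ z ∈ W, z * a * z⁻¹ ∈ zpowers a → Commute z a := by
    intro z hz hza
    set H := W ⊓ normalizer (zpowers a : Set G) with hH
    have hAn : ∀ g : G, g * a * g⁻¹ ∈ zpowers a → g ∈ normalizer (zpowers a : Set G) := by
      intro g hg
      have hle : (zpowers a).map (MulAut.conj g).toMonoidHom ≤ zpowers a := by
        rw [MonoidHom.map_zpowers, zpowers_le]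
        exact hg
      have he := eq_of_le_of_card_ge hle (by rw [card_map_of_injective (MulAut.conj g).injective])
      rw [mem_normalizer_iff]
      intro y
      constructor
      · intro hy
        rw [← he]
        exact mem_map_of_mem _ hy
      · intro hy
        rw [← he] at hy
        obtain ⟨y', hy', e⟩ := hy
        rwa [← (MulAut.conj g).injective e]
    have hnorm : ∀ e : G, e * e = 1 → (∀ y ∈ W, e * y * e⁻¹ ∈ W) → e * a * e⁻¹ ∈ zpowers a →
        e ∈ normalizer (H : Set G) := by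
      intro e he2 heW hea
      have heN := hAn e hea
      have hone : ∀ y ∈ H, e * y * e⁻¹ ∈ H := fun y hy => mem_inf.2 ⟨heW y (mem_inf.1 hy).1,
        mul_mem (mul_mem heN (mem_inf.1 hy).2) (inv_mem heN)⟩
      rw [mem_normalizer_iff]
      refine fun y => ⟨hone y, fun hy => ?_⟩
      have := hone _ hy
      rwa [show e * (e * y * e⁻¹) * e⁻¹ = (e * e) * y * (e * e)⁻¹ by group, he2, one_mul, inv_one,
        mul_one] at this
    have hsN : s ∈ normalizer (H : Set G) := hnorm s (Invol.invol_mul_self hs2) hsW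
      (by rw [hsa.eq, mul_inv_cancel_right]; exact mem_zpowers a)
    have hxN : x ∈ normalizer (H : Set G) := hnorm x (Invol.invol_mul_self hx2) hxW
      (by rw [hxa]; exact inv_mem (mem_zpowers a))
    have hle : H ≤ centralizer ({a} : Set G) := by
      refine Coprime.le_of_centralizers_le (A := U) hUnc (fun g hg => ?_) ?_ fun e he he1 y hy => ?_
      · rcases (hUmem g).1 hg with rfl | rfl | rfl | rfl
        exacts [one_mem _, hxN, hsN, mul_mem hsN hxN]
      · rw [hU4, show 4 = 2 ^ 2 by norm_num]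
        exact Nat.Coprime.pow_left _ (Nat.coprime_two_left.2
          (hWodd.of_dvd_nat (card_dvd_of_le inf_le_left)))
      · obtain ⟨hyH, hye⟩ := mem_inf.1 hy
        obtain ⟨hyW, hyN⟩ := mem_inf.1 hyH
        have hye' : Commute y e := mem_centralizer_singleton_iff.1 hye
        rw [mem_centralizer_singleton_iff]
        rcases (hUmem e).1 he with rfl | rfl | rfl | rfl
        · exact absurd rfl he1
        rotate_left
        · obtain ⟨i, hi⟩ := mem_zpowers_iff.1 (hWs y hyW hye')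
          rw [← hi]
          exact ((Commute.refl a).zpow_left i).eq
        all_goals
          have hsy : s * y * s⁻¹ = y⁻¹ := by
            first
              | exact hWsx y hyW hye'
              | (obtain ⟨h1, h2⟩ := hWmem.1 hyW
                 obtain ⟨i, rfl⟩ := mem_zpowers_iff.1 (hw₀all y h1 hye' h2)
                 rw [← conj_zpow, hsw, inv_zpow])
          obtain ⟨k, hk⟩ := mem_zpowers_iff.1 ((mem_normalizer_iff.1 hyN a).1 (mem_zpowers a))
          have h1 : y⁻¹ * a * y = a ^ k := by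
            have hk' : s * (y * a * y⁻¹) * s⁻¹ = a ^ k := by
              rw [← hk, (hsa.zpow_right k).eq, mul_inv_cancel_right]
            rw [show s * (y * a * y⁻¹) * s⁻¹ = (s * y * s⁻¹) * (s * a * s⁻¹) * (s * y * s⁻¹)⁻¹ by group,
              hsy, inv_inv, hsa.eq, mul_inv_cancel_right] at hk'
            exact hk'
          have h2 : Commute (y * y) a := by
            rw [hk] at h1
            show y * y * a = a * (y * y)
            calc y * y * a = y * (y * a * y⁻¹) * y := by group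
              _ = y * (y⁻¹ * a * y) * y := by rw [h1]
              _ = a * (y * y) := by group
          exact (ReeType.commute_of_odd (hWodd.of_dvd_nat (Subgroup.orderOf_dvd_natCard W hyW)) h2).eq
    exact mem_centralizer_singleton_iff.1 (hle (mem_inf.2 ⟨hz, hAn z hza⟩))
  -- conjugation inside the torus
  have hTI : ∀ z ∈ W, ∀ v ∈ zpowers a, v ≠ 1 → z * v * z⁻¹ ∈ zpowers a → Commute z a := by
    intro z hz v hv hv1 hzv
    refine hNA z hz ?_
    have hzaW : z * a * z⁻¹ ∈ W := mul_mem (mul_mem hz haW) (inv_mem hz)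
    obtain ⟨i, α, hα, e⟩ := hWa _ hzaW _ hzv (fun e => hv1 (conj_eq_one_iff.1 e))
      ((c.D_comm (c.a_mem_D (mem_zpowers a)) (c.a_mem_D hv)).map (MulAut.conj z))
    have hcm : Commute (τ₁ ^ i) α := c.comm_R_A hA (zpow_mem hτR i) hα
    have h1 : (τ₁ ^ i) ^ m * α ^ m = 1 := by
      rw [← hcm.mul_pow, ← e, conj_pow, show a ^ m = 1 from c.F.a_pow_m, mul_one, mul_inv_cancel]
    have h2 := (c.split_unique hA (pow_mem (zpow_mem hτR i) m) (one_mem R) (pow_mem hα m) (one_mem _)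
      (by rw [h1, one_mul])).1
    have h3 : τ₁ ^ i = 1 := orderOf_eq_one_iff.1 (Nat.eq_one_of_dvd_coprimes
      (Nat.prime_three.coprime_iff_not_dvd.2 h3m)
      (orderOf_dvd_of_pow_eq_one (by
        rw [← zpow_natCast, ← zpow_mul, mul_comm, zpow_mul, zpow_natCast, hτ31, one_zpow]))
      (orderOf_dvd_of_pow_eq_one h2))
    rw [e, h3, one_mul]
    exact hα
  -- normal complements
  have hMr : ∀ r : {r : ℕ // r.Prime ∧ r ∣ m}, ∃ M : Subgroup G, M ≤ W ∧ ¬ r.1 ∣ Nat.card M ∧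
      ∀ z ∈ W, ¬ r.1 ∣ orderOf z → z ∈ M := by
    rintro ⟨r, hr, hrm⟩
    haveI := Fact.mk hr
    set v := a ^ (orderOf a / r) with hv
    have hvo : orderOf v = r := orderOf_pow_orderOf_div (orderOf_pos a).ne' (hao.symm ▸ hrm)
    have hvA : v ∈ zpowers a := pow_mem (mem_zpowers a) _
    have hv1 : v ≠ 1 := fun e => by rw [e, orderOf_one] at hvo; exact hr.one_lt.ne hvo
    have hvW : v ∈ W := pow_mem haW _
    obtain ⟨P, hP⟩ := (IsPGroup.of_card (G := zpowers (⟨v, hvW⟩ : W)) (p := r) (n := 1)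
      (by rw [Nat.card_zpowers, Subgroup.orderOf_mk, hvo, pow_one])).exists_le_sylow
    set P' := (P : Subgroup W).map W.subtype with hP'
    have hvP : v ∈ P' := ⟨⟨v, hvW⟩, hP (mem_zpowers _), rfl⟩
    have hPA : P' ≤ zpowers a := by
      haveI := P.isPGroup'.isNilpotent
      set Q : Subgroup P := ((zpowers a).subgroupOf W).subgroupOf P with hQ
      by_contra hne
      have hlt : Q < ⊤ := lt_top_iff_ne_top.2 fun e => hne (by
        rintro _ ⟨z, hz, rfl⟩
        exact mem_subgroupOf.1 (subgroupOf_eq_top.1 e hz))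
      obtain ⟨g, hg, hgQ⟩ := SetLike.exists_of_lt (Group.normalizerCondition_of_isNilpotent Q hlt)
      have h1 := (mem_normalizer_iff.1 hg ⟨⟨v, hvW⟩, hP (mem_zpowers _)⟩).1
        (mem_subgroupOf.2 (mem_subgroupOf.2 hvA))
      rw [mem_subgroupOf, mem_subgroupOf] at h1
      have hga : Commute ((g : W) : G) a := hTI _ (g : W).2 v hvA hv1 h1
      obtain ⟨i, α, hα, e⟩ := hWa _ (g : W).2 a (mem_zpowers a) ha1 hga
      obtain ⟨j, hj⟩ := P.isPGroup' g
      have hj' : ((g : W) : G) ^ r ^ j = 1 := congrArg Subtype.val (congrArg Subtype.val hj)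
      have hcm : Commute (τ₁ ^ i) α := c.comm_R_A hA (zpow_mem hτR i) hα
      rw [e, hcm.mul_pow] at hj'
      have h2 := (c.split_unique hA (pow_mem (zpow_mem hτR i) _) (one_mem R) (pow_mem hα _) (one_mem _)
        (by rw [hj', one_mul])).1
      have hr3 : r ≠ 3 := fun e3 => h3m (e3 ▸ hrm)
      have h3 : τ₁ ^ i = 1 := orderOf_eq_one_iff.1 (Nat.eq_one_of_dvd_coprimes
        (((Nat.coprime_primes Nat.prime_three hr).2 hr3.symm).pow_right j)
        (orderOf_dvd_of_pow_eq_one (by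
          rw [← zpow_natCast, ← zpow_mul, mul_comm, zpow_mul, zpow_natCast, hτ31, one_zpow]))
        (orderOf_dvd_of_pow_eq_one h2))
      refine hgQ (mem_subgroupOf.2 (mem_subgroupOf.2 ?_))
      rw [e, h3, one_mul]
      exact hα
    obtain ⟨M, hM1, -, hM3, hM4⟩ := exists_complement (O := W) (R := P')
      (Coprime.isSylowIn_map P) (fun z hz hzN y hy => by
        have hza : Commute z a := hTI z hz v hvA hv1 (hPA ((mem_normalizer_iff.1 hzN v).1 hvP))
        obtain ⟨i, rfl⟩ := mem_zpowers_iff.1 (hPA hy)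
        exact (hza.zpow_right i).eq)
    exact ⟨M, hM1, hM3, hM4⟩
  choose Mf hMf1 hMf2 hMf3 using hMr
  set M : Subgroup G := W ⊓ ⨅ r : {r : ℕ // r.Prime ∧ r ∣ m}, Mf r with hM
  have hMmem : ∀ {z}, z ∈ M ↔ z ∈ W ∧ (orderOf z).Coprime m := by
    intro z
    rw [hM, mem_inf, mem_iInf]
    refine and_congr_right fun hz => ⟨fun h => Nat.coprime_of_dvd fun r hr hrz hrm => ?_,
      fun h r => hMf3 r z hz fun hd => ?_⟩
    · exact hMf2 ⟨r, hr, hrm⟩ (hrz.trans (Subgroup.orderOf_dvd_natCard _ (h ⟨r, hr, hrm⟩)))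
    · exact r.2.1.one_lt.ne' (Nat.eq_one_of_dvd_coprimes h hd r.2.2)
  have hMA : ∀ z ∈ M, z ∈ zpowers a → z = 1 := by
    intro z hz hza
    have h1 : orderOf z ∣ m := by
      have := Subgroup.orderOf_dvd_natCard _ hza
      rwa [Nat.card_zpowers, hao] at this
    exact orderOf_eq_one_iff.1 (Nat.eq_one_of_dvd_coprimes (hMmem.1 hz).2 dvd_rfl h1)
  have hMconj : ∀ g : G, (∀ z ∈ W, g * z * g⁻¹ ∈ W) → ∀ z ∈ M, g * z * g⁻¹ ∈ M := fun g hg z hz =>
    hMmem.2 ⟨hg z (hMmem.1 hz).1, by rw [hord]; exact (hMmem.1 hz).2⟩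
  have hMinv : ∀ z ∈ M, s * z * s⁻¹ = z⁻¹ :=
    inverts_of_fpf (Invol.invol_mul_self hs2) (hMconj s hsW) fun z hz he =>
      hMA z hz (hWs z (hMmem.1 hz).1 (Commute.symm he))
  have hMab := comm_of_inverted hMinv
  have hw₀M : w₀ ∈ M := hMmem.2 ⟨hw₀W, by rw [hw₀]; exact hcop.symm⟩
  have hτM : τ₁ ∈ M := hMmem.2 ⟨hτW, by rw [hτ3]; exact Nat.prime_three.coprime_iff_not_dvd.2 h3m⟩
  have haM : ∀ z ∈ M, a * z * a⁻¹ ∈ M :=
    hMconj a fun z hz => mul_mem (mul_mem haW hz) (inv_mem haW)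
  have haM' : ∀ z ∈ M, a⁻¹ * z * a ∈ M := fun z hz => by
    simpa using hMconj a⁻¹ (fun z hz => mul_mem (mul_mem (inv_mem haW) hz) (inv_mem (inv_mem haW))) z hz
  have hMfix : ∀ z ∈ M, ∀ v ∈ zpowers a, v ≠ 1 → Commute z v → z ∈ zpowers τ₁ := by
    intro z hz v hv hv1 hzv
    obtain ⟨i, α, hα, rfl⟩ := hWa z (hMmem.1 hz).1 v hv hv1 hzv
    have h1 : α ∈ M := by
      have := mul_mem (inv_mem (zpow_mem hτM i)) hz
      rwa [inv_mul_cancel_left] at this
    rw [hMA α h1 hα, mul_one]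
    exact zpow_mem (mem_zpowers _) i
  -- the commutators with `a`
  let φ : M →* M :=
    { toFun := fun y => ⟨a * y * a⁻¹ * (y : G)⁻¹, mul_mem (haM y y.2) (inv_mem y.2)⟩
      map_one' := Subtype.ext (by simp)
      map_mul' := fun y z => Subtype.ext (by
        push_cast
        have h1 : (a * (z : G) * a⁻¹) * (z : G)⁻¹ * (y : G)⁻¹ = (y : G)⁻¹ * ((a * (z : G) * a⁻¹) * (z : G)⁻¹) :=
          hMab _ (mul_mem (haM z z.2) (inv_mem z.2)) _ (inv_mem y.2)
        calc a * ((y : G) * z) * a⁻¹ * ((y : G) * z)⁻¹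
            = a * y * a⁻¹ * ((a * (z : G) * a⁻¹) * (z : G)⁻¹ * (y : G)⁻¹) := by group
          _ = a * y * a⁻¹ * (y : G)⁻¹ * (a * z * a⁻¹ * (z : G)⁻¹) := by rw [h1]; group) }
  have hker : Nat.card φ.ker = 3 := by
    have e : φ.ker.map M.subtype = zpowers τ₁ := by
      ext y
      constructor
      · rintro ⟨y, hy, rfl⟩
        have h1 : a * (y : G) * a⁻¹ * (y : G)⁻¹ = 1 := congrArg Subtype.val (MonoidHom.mem_ker.1 hy)
        exact hMfix _ y.2 a (mem_zpowers a) ha1 (mul_inv_eq_iff_eq_mul.1 (mul_inv_eq_one.1 h1)).symm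
      · intro hy
        obtain ⟨i, rfl⟩ := mem_zpowers_iff.1 hy
        refine ⟨⟨_, zpow_mem hτM i⟩, MonoidHom.mem_ker.2 (Subtype.ext ?_), rfl⟩
        show a * τ₁ ^ i * a⁻¹ * (τ₁ ^ i)⁻¹ = 1
        rw [(hτa.zpow_left i).symm.eq, mul_inv_cancel_right, mul_inv_cancel]
    rw [← card_map_of_injective M.subtype_injective, e, Nat.card_zpowers, hτ3]
  set M₁ := φ.range.map M.subtype with hM₁
  have hM₁c : Nat.card M = Nat.card M₁ * 3 := by
    rw [hM₁, card_map_of_injective M.subtype_injective,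
      ← Nat.card_congr (QuotientGroup.quotientKerEquivRange φ).toEquiv, ← hker,
      ← card_eq_card_quotient_mul_card_subgroup]
  have hM₁le : M₁ ≤ M := map_subtype_le _
  have hM₁mem : ∀ {z}, z ∈ M₁ ↔ ∃ y ∈ M, z = a * y * a⁻¹ * y⁻¹ := by
    intro z
    constructor
    · rintro ⟨z', ⟨y, rfl⟩, rfl⟩
      exact ⟨y, y.2, rfl⟩
    · rintro ⟨y, hy, rfl⟩
      exact ⟨φ ⟨y, hy⟩, ⟨_, rfl⟩, rfl⟩
  have hxM₁ : ∀ z ∈ M₁, x * z * x⁻¹ ∈ M₁ := by
    intro z hz
    obtain ⟨y, hy, rfl⟩ := hM₁mem.1 hz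
    set y' := x * y * x⁻¹ with hy'
    have hy'M : y' ∈ M := hMconj x hxW y hy
    refine hM₁mem.2 ⟨a⁻¹ * y'⁻¹ * a, haM' _ (inv_mem hy'M), ?_⟩
    rw [show x * (a * y * a⁻¹ * y⁻¹) * x⁻¹ = (x * a * x⁻¹) * y' * (x * a * x⁻¹)⁻¹ * y'⁻¹ by
      rw [hy']; group, hxa, inv_inv,
      show a * (a⁻¹ * y'⁻¹ * a) * a⁻¹ * (a⁻¹ * y'⁻¹ * a)⁻¹ = y'⁻¹ * (a⁻¹ * y' * a) by group]
    exact hMab _ (haM' _ hy'M) _ (inv_mem hy'M)
  have haM₁ : ∀ z ∈ M₁, a⁻¹ * z * a ∈ M₁ := by
    intro z hz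
    obtain ⟨y, hy, rfl⟩ := hM₁mem.1 hz
    exact hM₁mem.2 ⟨a⁻¹ * y * a, haM' _ hy, by group⟩
  have hM₁fix : ∀ z ∈ M₁, ∀ v ∈ zpowers a, v ≠ 1 → Commute z v → z = 1 := by
    intro z hz v hv hv1 hzv
    obtain ⟨y, hy, e⟩ := hM₁mem.1 hz
    obtain ⟨i, hi⟩ := mem_zpowers_iff.1 (hMfix z (hM₁le hz) v hv hv1 hzv)
    have hzt : Commute z a := hi ▸ hτa.zpow_left i
    have hstep : ∀ k : ℕ, a ^ k * y * (a ^ k)⁻¹ = z ^ k * y := by
      intro k
      induction k with
      | zero => simp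
      | succ k ih =>
        rw [pow_succ', show a * a ^ k * y * (a * a ^ k)⁻¹ = a * (a ^ k * y * (a ^ k)⁻¹) * a⁻¹ by group, ih,
          show a * (z ^ k * y) * a⁻¹ = (a * z ^ k) * y * a⁻¹ by group, ← (hzt.pow_left k).eq,
          show z ^ k * a * y * a⁻¹ = z ^ k * (a * y * a⁻¹ * y⁻¹) * y by group, ← e, ← pow_succ]
    have h1 := hstep m
    rw [show a ^ m = 1 from c.F.a_pow_m, one_mul, inv_one, mul_one] at h1
    have h2 : z ^ m = 1 := mul_eq_right.1 h1.symm
    exact orderOf_eq_one_iff.1 (Nat.eq_one_of_dvd_coprimes (Nat.prime_three.coprime_iff_not_dvd.2 h3m)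
      (orderOf_dvd_of_pow_eq_one (by
        rw [← hi, ← zpow_natCast, ← zpow_mul, mul_comm, zpow_mul, zpow_natCast, hτ31, one_zpow]))
      (orderOf_dvd_of_pow_eq_one h2))
  -- `n > 3`
  have hn3 : 3 < n := by
    have h1 : 3 ≤ n := Nat.le_of_dvd hn.pos h3n
    have := T.kit.one_lt_m
    obtain ⟨j, hj⟩ := T.kit.m_odd
    rcases T.kit.size with ⟨e1, e2⟩ | ⟨e1, e2⟩ <;> omega
  set N₀ := zpowers w₀ ⊓ M₁ with hN₀
  have hN₀ne : N₀ ≠ ⊥ := by
    intro e
    let f : zpowers w₀ × M₁ → M := fun d =>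
      ⟨(d.1 : G) * (d.2 : G), mul_mem (zpowers_le.2 hw₀M d.1.2) (hM₁le d.2.2)⟩
    have hf : Function.Injective f := by
      rintro ⟨z, z₁⟩ ⟨z', z₁'⟩ hzz
      have h1 : (z : G) * z₁ = z' * z₁' := congrArg Subtype.val hzz
      have h2 : (z' : G)⁻¹ * z = z₁' * (z₁ : G)⁻¹ := by
        have := congrArg (fun d => (z' : G)⁻¹ * d * (z₁ : G)⁻¹) h1
        simpa [mul_assoc] using this
      have h3 : (z' : G)⁻¹ * z ∈ N₀ := mem_inf.2 ⟨mul_mem (inv_mem z'.2) z.2,
        h2 ▸ mul_mem z₁'.2 (inv_mem z₁.2)⟩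
      rw [e, mem_bot] at h3
      have h4 : z = z' := Subtype.ext (inv_mul_eq_one.1 h3).symm
      subst h4
      exact Prod.ext rfl (Subtype.ext (mul_left_cancel h1))
    have h5 := Nat.card_le_card_of_injective f hf
    rw [Nat.card_prod, Nat.card_zpowers, hw₀, hM₁c] at h5
    have : 0 < Nat.card M₁ := Nat.card_pos
    nlinarith
  obtain ⟨l, hl, hld⟩ := Nat.exists_prime_and_dvd (show Nat.card N₀ ≠ 1 from
    fun e => hN₀ne (Subgroup.card_eq_one.1 e))
  haveI := Fact.mk hl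
  obtain ⟨⟨y, hy⟩, hyo⟩ := exists_prime_orderOf_dvd_card' l hld
  rw [Subgroup.orderOf_mk] at hyo
  obtain ⟨hyw, hyM₁⟩ := mem_inf.1 hy
  have hτw : τ₁ ∈ zpowers w₀ := hw₀all τ₁ (Commute.refl _) hxτ.symm (by rw [hτ3]; decide)
  have hl3 : 3 * l ≤ n ∧ 3 ≤ l := by
    have hdn : Nat.card N₀ ∣ n := by
      have := card_dvd_of_le (inf_le_left : N₀ ≤ zpowers w₀)
      rwa [Nat.card_zpowers, hw₀] at this
    obtain ⟨j, hj⟩ := hdn
    have hj1 : j ≠ 1 := fun e => by
      have he := eq_of_le_of_card_ge (inf_le_left : N₀ ≤ zpowers w₀)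
        (by rw [Nat.card_zpowers, hw₀, hj, e, mul_one])
      have h1 : τ₁ ∈ N₀ := he.ge hτw
      have h2 := hM₁fix τ₁ (mem_inf.1 h1).2 a (mem_zpowers a) ha1 hτa
      rw [h2, orderOf_one] at hτ3
      norm_num at hτ3
    have hjo : Odd j := hn.of_dvd_nat (hj ▸ dvd_mul_left _ _)
    have hj3 : 3 ≤ j := by obtain ⟨i, hi⟩ := hjo; omega
    have hlle : l ≤ Nat.card N₀ := Nat.le_of_dvd Nat.card_pos hld
    have hlo : Odd l := hn.of_dvd_nat (hld.trans (hj ▸ dvd_mul_right _ _))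
    refine ⟨by rw [hj]; nlinarith, ?_⟩
    have := hl.two_le
    obtain ⟨i, hi⟩ := hlo
    omega
  -- the elements of order dividing `l`
  let Ω : Subgroup G :=
    { carrier := {z | z ∈ M₁ ∧ z ^ l = 1}
      one_mem' := ⟨one_mem _, one_pow _⟩
      mul_mem' := fun {b d} hb hd => ⟨mul_mem hb.1 hd.1, by
        rw [(show Commute b d from hMab _ (hM₁le hb.1) _ (hM₁le hd.1)).mul_pow, hb.2, hd.2, one_mul]⟩
      inv_mem' := fun {b} hb => ⟨inv_mem hb.1, by rw [inv_pow, hb.2, inv_one]⟩ }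
  have hxΩ : ∀ z ∈ Ω, x * z * x⁻¹ ∈ Ω := fun z hz =>
    ⟨hxM₁ z hz.1, by rw [conj_pow, hz.2, mul_one, mul_inv_cancel]⟩
  have haΩ : ∀ z ∈ Ω, a⁻¹ * z * a ∈ Ω := fun z hz =>
    ⟨haM₁ z hz.1, by rw [show a⁻¹ * z * a = a⁻¹ * z * a⁻¹⁻¹ by group, conj_pow, hz.2, mul_one, mul_inv_cancel]⟩
  have hψ : ∀ z ∈ Ω, z * (x * z * x⁻¹) ∈ zpowers y := by
    intro z hz
    have h0 : z * (x * z * x⁻¹) ∈ Ω := mul_mem hz (hxΩ z hz)
    have hcomm : Commute (z * (x * z * x⁻¹)) x := by
      refine (mul_inv_eq_iff_eq_mul.1 ?_ : x * (z * (x * z * x⁻¹)) = _ * x).symm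
      rw [← conj_mul, show x * (x * z * x⁻¹) * x⁻¹ = (x * x) * z * (x * x)⁻¹ by group,
        Invol.invol_mul_self hx2, one_mul, inv_one, mul_one]
      exact hMab _ (hM₁le (hxM₁ z hz.1)) _ (hM₁le hz.1)
    obtain ⟨h1, h2⟩ := hWmem.1 (hMmem.1 (hM₁le h0.1)).1
    have hin := hw₀all _ h1 hcomm h2
    rcases eq_or_ne (z * (x * z * x⁻¹)) 1 with e | e
    · rw [e]; exact one_mem _
    rw [← PSLSpectrum.eq_of_le_zpowers (u := w₀) (zpowers_le.2 hin) (zpowers_le.2 hyw)
      (by rw [Nat.card_zpowers, Nat.card_zpowers, hyo, orderOf_eq_prime h0.2 e])]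
    exact mem_zpowers _
  have hbound : Nat.card Ω ≤ l * l := by
    let f : Ω → zpowers y × zpowers y := fun z =>
      (⟨_, hψ _ z.2⟩, ⟨_, hψ _ (haΩ _ z.2)⟩)
    have hf : Function.Injective f := by
      intro z₁ z₂ e
      have e1 : (z₁ : G) * (x * z₁ * x⁻¹) = z₂ * (x * z₂ * x⁻¹) :=
        congrArg Subtype.val (congrArg Prod.fst e)
      have e2 : a⁻¹ * (z₁ : G) * a * (x * (a⁻¹ * z₁ * a) * x⁻¹) = a⁻¹ * z₂ * a * (x * (a⁻¹ * z₂ * a) * x⁻¹) :=
        congrArg Subtype.val (congrArg Prod.snd e)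
      have hdiff : ∀ {b d : G}, b ∈ M₁ → d ∈ M₁ → b * (x * b * x⁻¹) = d * (x * d * x⁻¹) →
          x * (b * d⁻¹) * x⁻¹ = (b * d⁻¹)⁻¹ := by
        intro b d hb hd ee
        have hbM := hM₁le hb
        have hdM := hM₁le hd
        have hxb := hM₁le (hxM₁ b hb)
        rw [show x * (b * d⁻¹) * x⁻¹ = x * b * x⁻¹ * (x * d * x⁻¹)⁻¹ by group]
        have h1 : x * b * x⁻¹ = b⁻¹ * (d * (x * d * x⁻¹)) := by rw [← ee]; group
        rw [h1, show b⁻¹ * (d * (x * d * x⁻¹)) * (x * d * x⁻¹)⁻¹ = b⁻¹ * d by group, mul_inv_rev, inv_inv]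
        exact hMab _ (inv_mem hbM) _ hdM
      have hz₁ := z₁.2.1
      have hz₂ := z₂.2.1
      set d := (z₁ : G) * (z₂ : G)⁻¹ with hd
      have k1 : x * d * x⁻¹ = d⁻¹ := hdiff hz₁ hz₂ e1
      have k2 : x * (a⁻¹ * d * a) * x⁻¹ = (a⁻¹ * d * a)⁻¹ := by
        have h5 := hdiff (haM₁ _ hz₁) (haM₁ _ hz₂) e2
        rwa [show a⁻¹ * (z₁ : G) * a * (a⁻¹ * (z₂ : G) * a)⁻¹ = a⁻¹ * d * a by rw [hd]; group] at h5
      rw [show x * (a⁻¹ * d * a) * x⁻¹ = (x * a * x⁻¹)⁻¹ * (x * d * x⁻¹) * (x * a * x⁻¹) by group, hxa, k1,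
        inv_inv] at k2
      have h2a : Commute (a * a) d := by
        refine Commute.inv_right_iff.1 ?_
        show a * a * d⁻¹ = d⁻¹ * (a * a)
        calc a * a * d⁻¹ = a * (a * d⁻¹ * a⁻¹) * a := by group
          _ = a * (a⁻¹ * d * a)⁻¹ * a := by rw [k2]
          _ = d⁻¹ * (a * a) := by group
      have hd1 : d = 1 := hM₁fix d (mul_mem hz₁ (inv_mem hz₂)) a (mem_zpowers a) ha1
        (ReeType.commute_of_odd (by rw [hao]; exact T.kit.m_odd) h2a).symm
      exact Subtype.ext (mul_inv_eq_one.1 hd1)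
    have := Nat.card_le_card_of_injective f hf
    rwa [Nat.card_prod, Nat.card_zpowers, hyo] at this
  -- the conjugates of `y`
  have hcount : m * (l - 1) ≤ Nat.card Ω - 1 := by
    let A' := {z : zpowers y // z ≠ 1}
    let B' := {z : Ω // z ≠ 1}
    have hcA : ∀ {K : Type u} [Group K] [Finite K], Nat.card {z : K // z ≠ 1} = Nat.card K - 1 := by
      intro K _ _
      haveI := Fintype.ofFinite K
      rw [Nat.card_eq_fintype_card, Fintype.card_subtype_compl, Fintype.card_subtype_eq,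
        Nat.card_eq_fintype_card]
    have hyΩ : y ∈ Ω := ⟨hyM₁, by rw [← hyo, pow_orderOf_eq_one]⟩
    have hzΩ : ∀ z ∈ zpowers y, ∀ i : ℕ, a ^ i * z * (a ^ i)⁻¹ ∈ Ω := by
      intro z hz i
      have hzΩ : z ∈ Ω := zpowers_le.2 hyΩ hz
      refine ⟨?_, by rw [conj_pow, hzΩ.2, mul_one, mul_inv_cancel]⟩
      induction i with
      | zero => simpa using hzΩ.1
      | succ i ih =>
        obtain ⟨b, hb, e⟩ := hM₁mem.1 ih
        refine hM₁mem.2 ⟨a * b * a⁻¹, haM b hb, ?_⟩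
        rw [pow_succ', show a * a ^ i * z * (a * a ^ i)⁻¹ = a * (a ^ i * z * (a ^ i)⁻¹) * a⁻¹ by group, e]
        group
    let f : Fin m × A' → B' := fun d => ⟨⟨_, hzΩ _ d.2.1.2 (d.1 : ℕ)⟩, fun e => d.2.2 (Subtype.ext
      (conj_eq_one_iff.1 (congrArg Subtype.val e)))⟩
    have hf : Function.Injective f := by
      rintro ⟨i, z, hz1⟩ ⟨j, z', hz1'⟩ e
      have e' : a ^ (i : ℕ) * (z : G) * (a ^ (i : ℕ))⁻¹ = a ^ (j : ℕ) * (z' : G) * (a ^ (j : ℕ))⁻¹ :=
        congrArg Subtype.val (congrArg Subtype.val e)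
      set b := a ^ ((i : ℤ) - j) with hb
      have hbz : b * (z : G) * b⁻¹ = z' := by
        calc b * (z : G) * b⁻¹ = (a ^ (j : ℕ))⁻¹ * (a ^ (i : ℕ) * z * (a ^ (i : ℕ))⁻¹) * a ^ (j : ℕ) := by
              rw [hb, zpow_sub, zpow_natCast, zpow_natCast,
                (((Commute.refl a).pow_pow (i : ℕ) (j : ℕ)).inv_right).eq]
              group
          _ = z' := by rw [e']; group
      have hcx : ∀ d ∈ zpowers y, x * d * x⁻¹ = d := by
        intro d hd
        obtain ⟨k, rfl⟩ := mem_zpowers_iff.1 hd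
        obtain ⟨k', hk'⟩ := mem_zpowers_iff.1 hyw
        rw [← hk', ← ((hw₀x.zpow_left k').zpow_left k).eq, mul_inv_cancel_right]
      have hbA : b ∈ zpowers a := zpow_mem (mem_zpowers a) _
      have hbz' : b⁻¹ * (z : G) * b = z' := by
        have h6 := congrArg (fun d => x * d * x⁻¹) hbz
        rwa [hcx _ z'.2, show x * (b * (z : G) * b⁻¹) * x⁻¹ = (x * b * x⁻¹) * (x * z * x⁻¹) * (x * b * x⁻¹)⁻¹ by
          group, hcx _ z.2, hxinvA b hbA, inv_inv] at h6
      have hb2 : Commute (b * b) (z : G) := by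
        show b * b * (z : G) = z * (b * b)
        calc b * b * (z : G) = b * (b * z * b⁻¹) * b := by group
          _ = b * (b⁻¹ * z * b) * b := by rw [hbz, hbz']
          _ = z * (b * b) := by group
      have hb1 : b = 1 := by
        by_contra hb1
        have hbo : Odd (orderOf b) := by
          refine T.kit.m_odd.of_dvd_nat ?_
          have := Subgroup.orderOf_dvd_natCard _ hbA
          rwa [Nat.card_zpowers, hao] at this
        exact hz1 (Subtype.ext (hM₁fix _ ((zpowers_le.2 hyΩ) z.2).1 b hbA hb1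
          (ReeType.commute_of_odd hbo hb2).symm))
      have hij : i = j := by
        have h7 := orderOf_dvd_iff_zpow_eq_one.2 hb1
        rw [hao] at h7
        apply Fin.ext
        have h8 : ((i : ℤ) - j) = 0 := by
          refine Int.eq_zero_of_dvd_of_natAbs_lt_natAbs h7 ?_
          have := i.2; have := j.2
          omega
        omega
      subst hij
      have hzz : z = z' := by
        apply Subtype.ext
        rw [← hbz, hb1, one_mul, inv_one, mul_one]
      subst hzz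
      rfl
    have := Nat.card_le_card_of_injective f hf
    rwa [Nat.card_prod, Nat.card_fin, hcA, hcA, Nat.card_zpowers, hyo] at this
  -- the numbers
  obtain ⟨h31, h32⟩ := hl3
  have hΩ : 0 < Nat.card Ω := Nat.card_pos
  obtain ⟨l', rfl⟩ : ∃ l', l = l' + 1 := ⟨l - 1, by omega⟩
  have h8 : m * l' ≤ (l' + 1) * (l' + 1) - 1 := by
    rw [Nat.add_sub_cancel] at hcount
    exact hcount.trans (Nat.sub_le_sub_right hbound 1)
  have h9 : m ≤ l' + 2 := by
    by_contra hlt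
    have h10 : (l' + 3) * l' ≤ m * l' := Nat.mul_le_mul_right l' (by omega)
    have h11 : (l' + 1) * (l' + 1) = l' * l' + 2 * l' + 1 := by ring
    have h12 : (l' + 3) * l' = l' * l' + 3 * l' := by ring
    omega
  obtain ⟨j, hj⟩ := T.kit.m_odd
  rcases T.kit.size with ⟨e1, e2⟩ | ⟨e1, e2⟩ <;> omega

/-- No centralizer of a torus element is of icosahedral type. -/
theorem not_atype (h3 : p = 3 → ∀ y g : T.K, orderOf y = 3 → g * y * g⁻¹ ≠ y⁻¹) : False := by
  rcases T.kit.three_cases with h | h | h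
  · exact c.false_of_p hA h h3
  · exact c.false_of_m hA h
  · exact c.false_of_n hA h

end Conf

end Setup

end CfsgLib.JTh
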