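import Cfsg.Agent.Lib.JTh.Basic
import Cfsg.Agent.Lib.Ree.Entry

/-!
# An involution centralizer `2 × PSL(2, q)`, `q ≡ 3, 5 (mod 8)`: all involutions are conjugate
-/

set_option autoImplicit false
set_option linter.unusedSectionVars false

namespace CfsgLib.JTh

open Subgroup Cfsg

universe u

variable {G : Type u} [Group G] [Finite G] {p q m n : ℕ}

theorem exists_setup_of_kit [IsSimpleGroup G] (hna : ¬ IsMulCommutative G) (t : G) (K : Subgroup G)
    (kit : Kit K p q m n) (ht : orderOf t = 2) (comm_t : ∀ c ∈ K, Commute c t)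
    (mem_or : ∀ c : G, Commute c t → c ∈ K ∨ t * c ∈ K) (not_mem : t ∉ K)
    (odd_index : Odd (centralizer ({t} : Set G)).index) : ∃ T : Setup G p q m n, T.K = K := by
  classical
  haveI : Fact (Nat.Prime 2) := ⟨Nat.prime_two⟩
  have ht2 : t * t = 1 := Invol.invol_mul_self ht
  set C := centralizer ({t} : Set G) with hC
  -- a Sylow subgroup of `G` centralizing `t`
  obtain ⟨S₀⟩ : Nonempty (Sylow 2 C) := inferInstance
  have hndiv : ¬ 2 ∣ ((S₀ : Subgroup C).map C.subtype).index := by
    rw [Subgroup.index_map_subtype]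
    exact Nat.prime_two.not_dvd_mul S₀.not_dvd_index fun h =>
      Nat.not_even_iff_odd.2 odd_index (even_iff_two_dvd.2 h)
  set S : Sylow 2 G := (S₀.2.map C.subtype).toSylow hndiv with hS
  have hSC : ∀ s ∈ (S : Subgroup G), Commute s t := fun s hs =>
    mem_centralizer_singleton_iff.1 (map_subtype_le _ hs)
  have hS2 : ∀ s ∈ (S : Subgroup G), s * s = 1 := by
    intro s hs
    obtain ⟨j, hj⟩ := S.2 ⟨s, hs⟩
    have hj' : s ^ 2 ^ j = 1 := congrArg Subtype.val hj
    have key : ∀ z ∈ K, z ^ 2 ^ (j + 1) = 1 → z * z = 1 := by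
      intro z hz hzp
      have hd : orderOf (⟨z, hz⟩ : K) ∣ 2 ^ (j + 1) :=
        orderOf_dvd_of_pow_eq_one (Subtype.ext hzp)
      have h' : orderOf (⟨z, hz⟩ : K) ∣ 2 := by
        rcases kit.data.orders ⟨z, hz⟩ with ho | ho | ho
        · rw [Nat.eq_one_of_dvd_coprimes (Nat.Coprime.pow_left _ (Nat.coprime_two_left.2 kit.p_odd)) hd ho]
          exact one_dvd _
        · exact ((Nat.Coprime.pow_left _ (Nat.coprime_two_left.2 kit.m_odd)).coprime_dvd_left
            hd).dvd_of_dvd_mul_right ho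
        · rw [Nat.eq_one_of_dvd_coprimes
            (Nat.Coprime.pow_left _ (Nat.coprime_two_left.2 kit.data.mo_odd)) hd ho]
          exact one_dvd _
      exact (pow_two z).symm.trans (congrArg Subtype.val (orderOf_dvd_iff_pow_eq_one.1 h'))
    rcases mem_or s (hSC s hs) with h | h
    · exact key s h (by rw [pow_succ, pow_mul, hj', one_pow])
    · have h1 := key _ h (by
        rw [(hSC s hs).symm.mul_pow, pow_succ, pow_mul, pow_mul, hj', one_pow, mul_one, ← pow_mul,
          mul_comm, pow_mul, pow_two, ht2, one_pow])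
      rw [← pow_two, (hSC s hs).symm.mul_pow, pow_two, pow_two, ht2, one_mul] at h1
      exact h1
  have hScomm : ∀ a ∈ (S : Subgroup G), ∀ b ∈ (S : Subgroup G), a * b = b * a := by
    intro a ha b hb
    have e : ∀ y ∈ (S : Subgroup G), y⁻¹ = y := fun y hy => inv_eq_of_mul_eq_one_right (hS2 y hy)
    calc a * b = (a * b)⁻¹ := (e _ (mul_mem ha hb)).symm
      _ = b⁻¹ * a⁻¹ := mul_inv_rev _ _
      _ = b * a := by rw [e a ha, e b hb]
  have htS : t ∈ (S : Subgroup G) := by
    have h1 : zpowers t ≤ normalizer ((S : Subgroup G) : Set G) := zpowers_le.2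
      (centralizer_le_normalizer _ (mem_centralizer_iff.2 fun s hs => (hSC s hs).eq))
    have hP : IsPGroup 2 (zpowers t) :=
      IsPGroup.of_card (n := 1) (by rw [Nat.card_zpowers, ht, pow_one])
    exact ((le_inf le_rfl h1).trans (hP.inf_normalizer_sylow S).le).trans inf_le_right (mem_zpowers t)
  -- the number of conjugates of `t` in `S` is odd
  have hodd : Odd (Nat.card {x : G // x ∈ (S : Subgroup G) ∧ IsConj t x}) := by
    letI : MulAction (S : Subgroup G) {x : G // IsConj t x} :=
      { smul := fun s x => ⟨(s : G) * x * (s : G)⁻¹, x.2.trans (isConj_iff.2 ⟨(s : G), rfl⟩)⟩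
        one_smul := fun x => Subtype.ext (show (((1 : (S : Subgroup G)) : G)) * (x : G) *
          (((1 : (S : Subgroup G)) : G))⁻¹ = x by simp)
        mul_smul := fun a b x => Subtype.ext (show (((a * b : (S : Subgroup G)) : G)) * (x : G) *
          (((a * b : (S : Subgroup G)) : G))⁻¹ = (a : G) * ((b : G) * x * (b : G)⁻¹) * (a : G)⁻¹ by
          push_cast; group) }
    have hfix : Nat.card (MulAction.fixedPoints (S : Subgroup G) {x : G // IsConj t x}) =
        Nat.card {x : G // x ∈ (S : Subgroup G) ∧ IsConj t x} := by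
      refine Nat.card_congr
        { toFun := fun x => ⟨(x.1 : G), ?_, x.1.2⟩
          invFun := fun x => ⟨⟨x.1, x.2.2⟩, fun s => Subtype.ext (show (s : G) * x.1 * (s : G)⁻¹ = x.1 by
            rw [hScomm _ s.2 _ x.2.1, mul_inv_cancel_right])⟩
          left_inv := fun x => Subtype.ext (Subtype.ext rfl)
          right_inv := fun x => rfl }
      obtain ⟨c, hc⟩ := isConj_iff.1 x.1.2
      have hxo : orderOf (x.1 : G) = 2 := hc ▸ Invol.invol_conj ht c
      have h1 : zpowers (x.1 : G) ≤ normalizer ((S : Subgroup G) : Set G) := zpowers_le.2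
        (centralizer_le_normalizer _ (mem_centralizer_iff.2 fun s hs =>
          mul_inv_eq_iff_eq_mul.1 (congrArg Subtype.val (x.2 ⟨s, hs⟩))))
      have hP : IsPGroup 2 (zpowers (x.1 : G)) :=
        IsPGroup.of_card (n := 1) (by rw [Nat.card_zpowers, hxo, pow_one])
      exact ((le_inf le_rfl h1).trans (hP.inf_normalizer_sylow S).le).trans inf_le_right (mem_zpowers _)
    have h := S.2.card_modEq_card_fixedPoints {x : G // IsConj t x}
    rw [hfix] at h
    have hI : Nat.card {x : G // IsConj t x} = C.index := by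
      refine Nat.eq_of_mul_eq_mul_right (Nat.card_pos (α := C)) ?_
      rw [ReeType.card_isConj_mul, mul_comm, C.card_mul_index]
    rw [hI] at h
    rw [Nat.odd_iff] at odd_index ⊢
    rw [← h.symm.trans rfl] at odd_index
    exact odd_index
  -- every involution is conjugate to an element of `S`, and those split in three kinds
  have hto : ∀ x : G, orderOf x = 2 → ∃ s ∈ (S : Subgroup G), orderOf s = 2 ∧ IsConj x s := by
    intro x hx
    have hP : IsPGroup 2 (zpowers x) :=
      IsPGroup.of_card (n := 1) (by rw [Nat.card_zpowers, hx, pow_one])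
    obtain ⟨P, hP'⟩ := hP.exists_le_sylow
    obtain ⟨g, hg⟩ := MulAction.exists_smul_eq G P S
    refine ⟨g * x * g⁻¹, ?_, Invol.invol_conj hx g, isConj_iff.2 ⟨g, rfl⟩⟩
    rw [← hg, Sylow.coe_subgroup_smul]
    exact mem_map_of_mem _ (hP' (mem_zpowers x))
  have hKconj : ∀ a b : G, a ∈ K → b ∈ K → orderOf a = 2 → orderOf b = 2 → IsConj a b := by
    intro a b ha hb ha2 hb2
    exact K.subtype.map_isConj
      (kit.conj ⟨a, ha⟩ ⟨b, hb⟩ (by rwa [Subgroup.orderOf_mk]) (by rwa [Subgroup.orderOf_mk]))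
  have hcase : ∀ s ∈ (S : Subgroup G), orderOf s = 2 → s = t ∨ s ∈ K ∨ (t * s ∈ K ∧ orderOf (t * s) = 2) := by
    intro s hs hs2
    rcases mem_or s (hSC s hs) with h | h
    · exact Or.inr (Or.inl h)
    · rcases eq_or_ne s t with e | e
      · exact Or.inl e
      · refine Or.inr (Or.inr ⟨h, orderOf_eq_prime ?_ fun e1 => e ?_⟩)
        · rw [pow_two, show t * s * (t * s) = t * (s * t) * s by group, (hSC s hs).eq, ← mul_assoc,
            ht2, one_mul, hS2 s hs]
        · rw [eq_inv_of_mul_eq_one_right e1, Invol.invol_inv ht]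
  obtain ⟨v, hvK, hvS, hv2⟩ : ∃ v, v ∈ K ∧ v ∈ (S : Subgroup G) ∧ orderOf v = 2 := by
    obtain ⟨u, hu⟩ := kit.exists_invol
    have hu' : orderOf (u : G) = 2 := (Subgroup.orderOf_coe u).trans hu
    have hP : IsPGroup 2 (zpowers (⟨(u : G), mem_centralizer_singleton_iff.2 (comm_t _ u.2).eq⟩ : C)) :=
      IsPGroup.of_card (n := 1) (by rw [Nat.card_zpowers, Subgroup.orderOf_mk, hu', pow_one])
    obtain ⟨P, hP'⟩ := hP.exists_le_sylow
    obtain ⟨g, hg⟩ := MulAction.exists_smul_eq C P S₀
    have hgS : (g : G) * (u : G) * (g : G)⁻¹ ∈ (S : Subgroup G) := by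
      refine ⟨g * ⟨(u : G), mem_centralizer_singleton_iff.2 (comm_t _ u.2).eq⟩ * g⁻¹, ?_, rfl⟩
      rw [← hg, Sylow.coe_subgroup_smul]
      exact mem_map_of_mem _ (hP' (mem_zpowers _))
    refine ⟨_, ?_, hgS, Invol.invol_conj hu' _⟩
    have hgt : Commute (g : G) t := mem_centralizer_singleton_iff.1 g.2
    rcases mem_or (g : G) hgt with h | h
    · exact mul_mem (mul_mem h u.2) (inv_mem h)
    · have e : (g : G) * (u : G) * (g : G)⁻¹ = (t * g) * (u : G) * (t * g)⁻¹ := by
        rw [show (t * g) * (u : G) * (t * g)⁻¹ = t * ((g : G) * u * (g : G)⁻¹) * t⁻¹ by group,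
          ((hgt.mul_left (comm_t _ u.2)).mul_left hgt.inv_left).symm.eq, mul_inv_cancel_right]
      rw [e]
      exact mul_mem (mul_mem h u.2) (inv_mem h)
  have htv : orderOf (t * v) = 2 := orderOf_eq_prime
    (by rw [(hSC v hvS).symm.mul_pow, pow_two, pow_two, ht2, hS2 v hvS, one_mul]) fun e =>
      not_mem (by
        rw [eq_inv_of_mul_eq_one_left e]
        exact inv_mem hvK)
  -- the two kinds are fused with `t`
  have hnone : ¬ (IsConj t v ↔ ¬ IsConj t (t * v)) := by
    intro hiff
    set R : Subgroup G := (S : Subgroup G) ⊓ K with hR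
    have hev : 2 ∣ Nat.card R := by
      have h1 := orderOf_dvd_natCard (⟨v, mem_inf.2 ⟨hvS, hvK⟩⟩ : R)
      rwa [Subgroup.orderOf_mk, hv2] at h1
    refine Nat.not_even_iff_odd.2 hodd (even_iff_two_dvd.2 ?_)
    suffices e : Nat.card {x : G // x ∈ (S : Subgroup G) ∧ IsConj t x} = Nat.card R by rwa [e]
    have hinv : ∀ x : G, IsConj t x → orderOf x = 2 := fun x hx => by
      obtain ⟨c, rfl⟩ := isConj_iff.1 hx
      exact Invol.invol_conj ht c
    by_cases hv' : IsConj t v
    · have hno := hiff.1 hv'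
      -- the conjugates of `t` in `S` are `t` and the involutions of `K`
      refine Nat.card_congr
        { toFun := fun x => if h : x.1 = t then (1 : R) else ⟨x.1, mem_inf.2 ⟨x.2.1, ?_⟩⟩
          invFun := fun r => if h : (r : G) = 1 then ⟨t, htS, IsConj.refl t⟩ else
            ⟨(r : G), r.2.1, hv'.trans (hKconj _ _ hvK r.2.2 hv2 ?_)⟩
          left_inv := fun x => ?_
          right_inv := fun r => ?_ }
      · rcases hcase x.1 x.2.1 (hinv _ x.2.2) with e | e | ⟨e, e2⟩
        · exact absurd e h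
        · exact e
        · refine absurd (x.2.2.trans ?_) hno
          have hc := hKconj _ _ e hvK e2 hv2
          obtain ⟨c, hc'⟩ := isConj_iff.1 (K.subtype.map_isConj (kit.conj ⟨_, e⟩ ⟨v, hvK⟩
            (by rwa [Subgroup.orderOf_mk]) (by rwa [Subgroup.orderOf_mk])))
          obtain ⟨k, hk⟩ := isConj_iff.1 (kit.conj ⟨_, e⟩ ⟨v, hvK⟩
            (by rwa [Subgroup.orderOf_mk]) (by rwa [Subgroup.orderOf_mk]))
          refine isConj_iff.2 ⟨(k : G), ?_⟩
          have hk' : (k : G) * (t * x.1) * (k : G)⁻¹ = v := congrArg Subtype.val hk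
          rw [← hk', ← mul_assoc t, ← mul_assoc t, ← (comm_t _ k.2).eq]
          calc (k : G) * x.1 * (k : G)⁻¹ = (k : G) * (t * t) * x.1 * (k : G)⁻¹ := by rw [ht2, mul_one]
            _ = _ := by group
      · exact orderOf_eq_prime (by rw [pow_two]; exact hS2 _ r.2.1) h
      · dsimp only
        by_cases e : x.1 = t
        · rw [dif_pos e, dif_pos (show ((1 : R) : G) = 1 from rfl)]
          exact Subtype.ext e.symm
        · rw [dif_neg e, dif_neg (Invol.invol_ne_one (hinv _ x.2.2))]
      · dsimp only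
        by_cases e : (r : G) = 1
        · rw [dif_pos e, dif_pos rfl]
          exact Subtype.ext e.symm
        · rw [dif_neg e, dif_neg (show ¬ (r : G) = t from fun e' => not_mem (e' ▸ r.2.2))]
    · have hyes : IsConj t (t * v) := by
        by_contra h
        exact hv' (hiff.2 h)
      refine Nat.card_congr
        { toFun := fun x => ⟨t * x.1, mem_inf.2 ⟨mul_mem htS x.2.1, ?_⟩⟩
          invFun := fun r => ⟨t * (r : G), mul_mem htS r.2.1, ?_⟩
          left_inv := fun x => Subtype.ext (by simp [← mul_assoc, ht2])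
          right_inv := fun r => Subtype.ext (by simp [← mul_assoc, ht2]) }
      · rcases hcase x.1 x.2.1 (hinv _ x.2.2) with e | e | ⟨e, -⟩
        · rw [e, ht2]; exact one_mem _
        · exact absurd (x.2.2.trans (hKconj _ _ e hvK (hinv _ x.2.2) hv2)) hv'
        · exact e
      · by_cases e : (r : G) = 1
        · rw [e, mul_one]
        · refine hyes.trans ?_
          obtain ⟨k, hk⟩ := isConj_iff.1 (kit.conj ⟨v, hvK⟩ ⟨(r : G), r.2.2⟩
            (by rwa [Subgroup.orderOf_mk])
            (by rw [Subgroup.orderOf_mk]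
                exact orderOf_eq_prime (by rw [pow_two]; exact hS2 _ r.2.1) e))
          refine isConj_iff.2 ⟨(k : G), ?_⟩
          have hk' : (k : G) * v * (k : G)⁻¹ = (r : G) := congrArg Subtype.val hk
          rw [← hk', ← mul_assoc (k : G), (comm_t _ k.2).eq]
          group
  have hboth : IsConj t v ∧ IsConj t (t * v) := by
    by_cases h1 : IsConj t v <;> by_cases h2 : IsConj t (t * v)
    · exact ⟨h1, h2⟩
    · exact absurd (iff_of_true h1 h2) hnone
    · exact absurd (iff_of_false h1 (not_not.2 h2)) hnone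
    · exfalso
      refine ReeType.not_isolated_of_simple hna t ⟨ht, fun g hg => ?_⟩
      by_contra hne
      set w := g * t * g⁻¹ with hw
      have hw2 : orderOf w = 2 := Invol.invol_conj ht g
      have hwc : IsConj t w := isConj_iff.2 ⟨g, rfl⟩
      rcases mem_or w hg.symm with h | h
      · exact h1 (hwc.trans (hKconj _ _ h hvK hw2 hv2))
      · have hw' : orderOf (t * w) = 2 := orderOf_eq_prime
          (by rw [hg.mul_pow, pow_two, pow_two, ht2, Invol.invol_mul_self hw2, one_mul])
          fun e => hne (by rw [eq_inv_of_mul_eq_one_right e, Invol.invol_inv ht])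
        obtain ⟨k, hk⟩ := isConj_iff.1 (kit.conj ⟨_, h⟩ ⟨v, hvK⟩
          (by rwa [Subgroup.orderOf_mk]) (by rwa [Subgroup.orderOf_mk]))
        refine h2 (hwc.trans (isConj_iff.2 ⟨(k : G), ?_⟩))
        have hk' : (k : G) * (t * w) * (k : G)⁻¹ = v := congrArg Subtype.val hk
        rw [← hk', ← mul_assoc t, ← mul_assoc t, ← (comm_t _ k.2).eq]
        calc (k : G) * w * (k : G)⁻¹ = (k : G) * (t * t) * w * (k : G)⁻¹ := by rw [ht2, mul_one]
          _ = _ := by group
  refine ⟨{ t := t, K := K, kit := kit, order_t := ht, comm_t := comm_t, mem_or := mem_or,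
            not_mem := not_mem, odd_index := odd_index, conj := fun x hx => ?_ }, rfl⟩
  obtain ⟨s, hs, hs2, hc⟩ := hto x hx
  refine IsConj.trans ?_ hc.symm
  rcases hcase s hs hs2 with e | e | ⟨e, e2⟩
  · rw [e]
  · exact hboth.1.trans (hKconj _ _ hvK e hv2 hs2)
  · refine hboth.2.trans ?_
    obtain ⟨k, hk⟩ := isConj_iff.1 (kit.conj ⟨v, hvK⟩ ⟨_, e⟩
      (by rwa [Subgroup.orderOf_mk]) (by rwa [Subgroup.orderOf_mk]))
    refine isConj_iff.2 ⟨(k : G), ?_⟩
    have hk' : (k : G) * v * (k : G)⁻¹ = t * s := congrArg Subtype.val hk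
    calc (k : G) * (t * v) * (k : G)⁻¹ = (k : G) * t * v * (k : G)⁻¹ := by group
      _ = t * ((k : G) * v * (k : G)⁻¹) := by rw [(comm_t _ k.2).eq]; group
      _ = s := by rw [hk', ← mul_assoc, ht2, one_mul]
end CfsgLib.JTh
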