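import Cfsg.Agent.Lib.JTh.Tau
import Cfsg.Agent.Lib.JTh.Entry
import Cfsg.Agent.Lib.Ree.Five.Setup

/-!
# An involution centralizer `2 × PSL(2, q)`: the local configuration
-/

set_option autoImplicit false
set_option linter.unusedSectionVars false

namespace CfsgLib.JTh

open Subgroup

universe u

namespace Setup

variable {G : Type u} [Group G] [Finite G] {p q m n : ℕ} {T : Setup G p q m n}

/-- The involution fixed by the element of order three lies outside `K`. -/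
theorem Conf.x_not_mem (c : Conf T) : c.F.x ∉ T.K := by
  intro hxK
  haveI : Fact (Nat.Prime 2) := ⟨Nat.prime_two⟩
  have hxne : c.F.x ≠ c.F.u := fun e => c.F.a_ne_inv (by
    have := c.F.x_a; rw [e, c.F.a_u.symm.eq, mul_inv_cancel_right] at this; exact this)
  set u' : T.K := ⟨c.F.u, c.u_mem⟩ with hu'
  set x' : T.K := ⟨c.F.x, hxK⟩ with hx'
  have hu'o : orderOf u' = 2 := by rw [hu', Subgroup.orderOf_mk, c.F.order_u]
  have hx'o : orderOf x' = 2 := by rw [hx', Subgroup.orderOf_mk, c.F.order_x]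
  obtain ⟨Q, hQc, -, hQ4, hQmem⟩ := exists_klein hu'o hx'o (Subtype.ext c.F.x_u.eq.symm)
    (fun e => hxne (congrArg Subtype.val e).symm)
  have hfac : Nat.card Q = 2 ^ (Nat.card T.K).factorization 2 := by
    have hodd : ¬ 2 ∣ q * n * m := by
      intro hd
      rcases Nat.prime_two.dvd_mul.1 hd with h | h
      · rcases Nat.prime_two.dvd_mul.1 h with h | h
        · obtain ⟨f, -, hf⟩ := T.kit.data.q_pow
          exact Nat.not_even_iff_odd.2 (T.kit.p_odd) (even_iff_two_dvd.2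
            (Nat.prime_two.dvd_of_dvd_pow (hf ▸ h)))
        · exact T.kit.data.two_not_mo h
      · exact T.kit.two_not_m h
    have h0 : q * n * m ≠ 0 := fun e => hodd (e ▸ dvd_zero 2)
    rw [hQ4, T.kit.card, show q * n * (4 * m) = 2 ^ 2 * (q * n * m) by ring,
      Nat.factorization_mul (by norm_num) h0, Finsupp.add_apply,
      Nat.factorization_eq_zero_of_not_dvd hodd, add_zero, Nat.Prime.factorization_pow Nat.prime_two,
      Finsupp.single_eq_same]
    norm_num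
  set P : Sylow 2 T.K := Sylow.ofCard Q hfac
  have hPm : ∀ z : T.K, z ∈ (P : Subgroup T.K) ↔ z ∈ Q := fun z => Iff.rfl
  haveI : IsMulCommutative (P : Subgroup T.K) := ⟨⟨fun a b => Subtype.ext
    (congrArg Subtype.val (mul_comm' (⟨a, (hPm _).1 a.2⟩ : Q) ⟨b, (hPm _).1 b.2⟩))⟩⟩
  obtain ⟨k, hk⟩ := isConj_iff.1 (T.kit.conj u' x' hu'o hx'o)
  obtain ⟨ν, hν, hνe⟩ := P.conj_eq_normalizer_conj_of_mem x' k ((hPm _).2 ((hQmem _).2 (Or.inr (Or.inr (Or.inl rfl)))))
    (by rw [show k⁻¹ * x' * k = u' by rw [← hk]; group]; exact (hPm _).2 ((hQmem _).2 (Or.inr (Or.inl rfl))))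
  rw [show k⁻¹ * x' * k = u' by rw [← hk]; group] at hνe
  have hνu : ν * u' * ν⁻¹ = x' := by rw [hνe]; group
  have hνu' : (ν : G) * c.F.u * (ν : G)⁻¹ = c.F.x := congrArg Subtype.val hνu
  have hνx : (ν : G) * c.F.x * (ν : G)⁻¹ = c.F.x * c.F.u := by
    have h1 := (hQmem _).1 ((hPm _).1 ((mem_normalizer_iff.1 hν x').1
      ((hPm _).2 ((hQmem _).2 (Or.inr (Or.inr (Or.inl rfl)))))))
    rcases h1 with h | h | h | h
    · exact absurd (congrArg Subtype.val (conj_eq_one_iff.1 h)) (Invol.invol_ne_one c.F.order_x)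
    · exfalso
      have h' : (ν : G) * c.F.x * (ν : G)⁻¹ = c.F.u := congrArg Subtype.val h
      exact T.no_swap c.F.u_sq (Invol.invol_mul_self c.F.order_x) c.F.x_u.symm hxne.symm hνu' h'
    · exact absurd (congrArg Subtype.val (mul_left_cancel (mul_right_cancel (h.trans hνu.symm)))) hxne
    · exact congrArg Subtype.val h
  set g := c.τ * (ν : G) with hg
  have hνt : (ν : G) * T.t * (ν : G)⁻¹ = T.t := by
    rw [(T.comm_t _ ν.2).eq, mul_inv_cancel_right]
  have hτx : c.τ * c.F.x * c.τ⁻¹ = c.F.x := by rw [c.τ_x.eq, mul_inv_cancel_right]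
  have g1 : g * T.t * g⁻¹ = c.F.u := by
    rw [hg, show c.τ * (ν : G) * T.t * (c.τ * (ν : G))⁻¹ = c.τ * ((ν : G) * T.t * (ν : G)⁻¹) * c.τ⁻¹ by group,
      hνt, c.τ_t]
  have g2 : g * c.F.u * g⁻¹ = c.F.x := by
    rw [hg, show c.τ * (ν : G) * c.F.u * (c.τ * (ν : G))⁻¹ = c.τ * ((ν : G) * c.F.u * (ν : G)⁻¹) * c.τ⁻¹ by group,
      hνu', hτx]
  have g3 : g * c.F.x * g⁻¹ = c.F.x * (T.t * c.F.u) := by
    rw [hg, show c.τ * (ν : G) * c.F.x * (c.τ * (ν : G))⁻¹ = c.τ * ((ν : G) * c.F.x * (ν : G)⁻¹) * c.τ⁻¹ by group,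
      hνx, ← conj_mul, hτx, c.τ_u]
  have hne : T.t ≠ c.F.x := fun e => T.not_mem (e ▸ hxK)
  refine T.no_swap (g := g * g) T.t_sq (Invol.invol_mul_self c.F.order_x) c.F.x_t.symm hne ?_ ?_
  · rw [show g * g * T.t * (g * g)⁻¹ = g * (g * T.t * g⁻¹) * g⁻¹ by group, g1, g2]
  · rw [show g * g * c.F.x * (g * g)⁻¹ = g * (g * c.F.x * g⁻¹) * g⁻¹ by group, g3, ← conj_mul, ← conj_mul,
      g1, g2, g3,
      show c.F.x * (T.t * c.F.u) * (c.F.u * c.F.x) = c.F.x * T.t * (c.F.u * c.F.u) * c.F.x by group,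
      c.F.u_sq, mul_one, c.F.x_t.eq, mul_assoc, Invol.invol_mul_self c.F.order_x, mul_one]

end Setup

/-- The case `q ≡ 3, 5 (mod 8)`, `p ≠ 3`: the configuration of `Five`. -/
theorem exists_torus {G : Type u} [Group G] [Finite G] {p q m n : ℕ} (T : Setup G p q m n) (hp : p ≠ 3)
    {F : Type} [Field F] [Fintype F] (hF : Fintype.card F = q)
    (φ : T.K ≃* Matrix.ProjectiveSpecialLinearGroup (Fin 2) F) :
    ∃ T5 : ReeType.Five.Setup G q m n, Nonempty (ReeType.Five.Torus T5) := by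
  obtain ⟨c⟩ := T.exists_conf
  have hN : ∀ v ∈ zpowers c.F.a, v ≠ 1 → c.Norm v := by
    rcases c.norm_or_atype with h | ⟨R, hR⟩
    · exact h
    · exact (c.not_atype hR fun e => absurd e hp).elim
  have hfpf := c.tau_fpf hN hp
  have hm3 := c.m_mod_three hfpf
  have hsize : q = 4 * m + 1 ∧ q + 1 = 2 * n := by
    rcases T.kit.size with ⟨e1, e2⟩ | h
    · exfalso
      obtain ⟨f, -, hf⟩ := T.kit.data.q_pow
      have h3 : 3 ∣ q := by omega
      exact hp ((Nat.prime_dvd_prime_iff_eq Nat.prime_three T.kit.data.prime_p).1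
        (Nat.prime_three.dvd_of_dvd_pow (hf ▸ h3))).symm
    · exact h
  have h5 : 5 < q := by have := T.kit.one_lt_m; omega
  let T5 : ReeType.Five.Setup G q m n :=
    { t := T.t, K := T.K, kit := ⟨⟨F, inferInstance, inferInstance, hF, ⟨φ⟩⟩, hsize.1, hsize.2, T.kit.m_odd, h5⟩
      order_t := T.order_t, comm_t := T.comm_t, mem_or := T.mem_or, not_mem := T.not_mem
      odd_index := T.odd_index, conj := T.conj, two_sq := T.not_four_dvd }
  refine ⟨T5, ⟨{
    u := c.F.u, a := c.F.a, x := c.F.x, τ := c.τ, u_mem := c.u_mem, order_u := c.F.order_u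
    a_mem := c.a_mem_K, order_a := c.F.order_a, a_u := c.F.a_u
    x_mem := (T.mem_or _ c.F.x_t).resolve_left c.x_not_mem
    order_x := c.F.order_x, x_u := c.F.x_u
    x_ne := fun e => c.x_not_mem (e ▸ c.u_mem)
    x_a := c.F.x_a
    cent := fun b hb hb1 g hg => ?_
    order_τ := c.order_τ, τ_t := c.τ_t, τ_u := c.τ_u, τ_x := c.τ_x
    τ_a := c.τ_A (mem_zpowers _), τ_fpf := hfpf, one_lt_m := T.kit.one_lt_m }⟩⟩
  have hD : g ∈ c.D := (hN b hb hb1 g hg).resolve_right fun h => hb1 (hfpf b hb h.1)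
  obtain ⟨e, he, i, hi⟩ := c.D_form hD
  exact ⟨e, he, _, zpow_mem (mem_zpowers _) i, hi⟩

/-- The case `q ≡ 3, 5 (mod 8)`, `q > 5`. -/
theorem case_three_five {G : Type u} [Group G] [Finite G] [IsSimpleGroup G]
    (hfive : ∀ (q m n : ℕ) (T5 : ReeType.Five.Setup G q m n), ReeType.Five.Torus T5 → False)
    (hna : ¬ IsMulCommutative G) (t : G) (K : Subgroup G) (ht : orderOf t = 2)
    (comm_t : ∀ c ∈ K, Commute c t) (mem_or : ∀ c : G, Commute c t → c ∈ K ∨ t * c ∈ K) (not_mem : t ∉ K)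
    (odd_index : Odd (centralizer ({t} : Set G)).index) {F : Type} [Field F] [Fintype F]
    (h8 : Fintype.card F % 8 = 3 ∨ Fintype.card F % 8 = 5) (h5 : 5 < Fintype.card F)
    (φ : K ≃* Matrix.ProjectiveSpecialLinearGroup (Fin 2) F) :
    ∃ k : ℕ, 1 ≤ k ∧ Fintype.card F = 3 ^ (2 * k + 1) ∧
      Nat.card G = (3 ^ (2 * k + 1)) ^ 3 * ((3 ^ (2 * k + 1)) ^ 3 + 1) * (3 ^ (2 * k + 1) - 1) := by
  obtain ⟨p, m, n, kit⟩ := Kit.of_equiv rfl h8 h5 φ
  by_cases hp : p = 3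
  · obtain ⟨f, -, hf⟩ := kit.data.q_pow
    rw [hp] at hf
    have hev : ∀ j : ℕ, 3 ^ (2 * j) % 8 = 1 := fun j => by
      rw [pow_mul, Nat.pow_mod]
      norm_num
    rcases Nat.even_or_odd f with ⟨j, hj⟩ | ⟨j, hj⟩
    · exfalso
      rw [hf, hj, ← two_mul, hev] at h8
      omega
    · have hj1 : 1 ≤ j := by
        by_contra h
        rw [hf, hj, show j = 0 by omega] at h5
        norm_num at h5
      exact ⟨j, hj1, by rw [hf, hj],
        ReeType.card_of_psl hna t K hj1 ht comm_t mem_or not_mem odd_index (by rw [hf, hj]) φ⟩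
  · exfalso
    obtain ⟨T, hTK⟩ := exists_setup_of_kit hna t K kit ht comm_t mem_or not_mem odd_index
    obtain ⟨T5, ⟨X⟩⟩ := exists_torus T hp rfl ((MulEquiv.subgroupCongr hTK).trans φ)
    exact hfive _ _ _ T5 X

end CfsgLib.JTh
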