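import Cfsg.Agent.Lib.JTh.Kit
import Cfsg.Agent.Lib.Ree.Basic

/-!
# An involution centralizer `2 × PSL(2, q)`, `q ≡ 3, 5 (mod 8)`: basic facts

`Setup G p q m n` holds an involution `t` of odd-index centralizer `⟨t⟩ × K`, `K` like
`PSL(2, q)`, and says that all involutions are conjugate.
-/

set_option autoImplicit false
set_option linter.unusedSectionVars false

namespace CfsgLib.JTh

open Subgroup

universe u

/-- Transport of the kit. -/
theorem Kit.of_mulEquiv {K K' : Type*} [Group K] [Group K'] [Finite K] {p q m n : ℕ}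
    (h : Kit K p q m n) (e : K ≃* K') : Kit K' p q m n := by
  haveI : Finite K' := Finite.of_equiv K e.toEquiv
  refine ⟨{ h.data with
      card := (Nat.card_congr e.toEquiv).symm.trans h.data.card
      orders := fun g => by
        simpa only [MulEquiv.orderOf_eq] using h.data.orders (e.symm g)
      exE := h.data.exE.imp' e fun _ hu => (MulEquiv.orderOf_eq e _).trans hu
      exO := h.data.exO.imp' e fun _ hu => (MulEquiv.orderOf_eq e _).trans hu },
    fun x y hx hy => ?_, h.m_odd, h.one_lt_m, h.size⟩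
  simpa using e.toMonoidHom.map_isConj
    (h.conj (e.symm x) (e.symm y) (by rwa [MulEquiv.orderOf_eq]) (by rwa [MulEquiv.orderOf_eq]))

/-- An involution with centralizer of odd index `⟨t⟩ × K`, `K` like `PSL(2, q)`, in a group with one
class of involutions. -/
structure Setup (G : Type u) [Group G] (p q m n : ℕ) where
  t : G
  K : Subgroup G
  kit : Kit K p q m n
  order_t : orderOf t = 2
  comm_t : ∀ c ∈ K, Commute c t
  mem_or : ∀ c : G, Commute c t → c ∈ K ∨ t * c ∈ K
  not_mem : t ∉ K
  odd_index : Odd (centralizer ({t} : Set G)).index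
  conj : ∀ x : G, orderOf x = 2 → IsConj t x

namespace Setup

variable {G : Type u} [Group G] [Finite G] {p q m n : ℕ} (T : Setup G p q m n)

include T in
theorem exists_setup {s : G} (hs : orderOf s = 2) : ∃ T' : Setup G p q m n, T'.t = s := by
  obtain ⟨g, hg⟩ := isConj_iff.1 (T.conj s hs)
  have hmap : (centralizer ({T.t} : Set G)).map (MulAut.conj g).toMonoidHom =
      centralizer ({s} : Set G) := by
    ext x
    obtain ⟨y, rfl⟩ := (MulAut.conj g).surjective x
    show (MulAut.conj g).toMonoidHom y ∈ _ ↔ _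
    rw [mem_map_iff_mem (MulAut.conj g).injective]
    show y ∈ centralizer ({T.t} : Set G) ↔ MulAut.conj g y ∈ centralizer ({s} : Set G)
    rw [mem_centralizer_singleton_iff, mem_centralizer_singleton_iff, ← hg, ← MulAut.conj_apply g T.t,
      ← map_mul, ← map_mul, (MulAut.conj g).injective.eq_iff]
  refine ⟨
    { t := s
      K := T.K.map (MulAut.conj g).toMonoidHom
      kit := T.kit.of_mulEquiv (T.K.equivMapOfInjective _ (MulAut.conj g).injective)
      order_t := hs
      comm_t := ?_
      mem_or := ?_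
      not_mem := ?_
      odd_index := ?_
      conj := fun x hx => (T.conj s hs).symm.trans (T.conj x hx) }, rfl⟩
  · rintro _ ⟨y, hy, rfl⟩
    rw [← hg, ← MulAut.conj_apply]
    exact (T.comm_t y hy).map (MulAut.conj g)
  · intro c hc
    obtain ⟨y, rfl⟩ := (MulAut.conj g).surjective c
    have hy : Commute y T.t := by
      rw [← hg, ← MulAut.conj_apply] at hc
      show y * T.t = T.t * y
      exact (MulAut.conj g).injective (by rw [map_mul, map_mul]; exact hc.eq)
    rcases T.mem_or y hy with h | h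
    · exact Or.inl ⟨y, h, rfl⟩
    · refine Or.inr ⟨_, h, ?_⟩
      rw [MulEquiv.toMonoidHom_eq_coe, MonoidHom.coe_coe, map_mul, MulAut.conj_apply g T.t, hg]
  · intro hm'
    rw [← hg, ← MulAut.conj_apply] at hm'
    exact T.not_mem ((mem_map_iff_mem (MulAut.conj g).injective).1 hm')
  · rw [← hmap, MulEquiv.toMonoidHom_eq_coe, index_map_equiv]
    exact T.odd_index

theorem t_sq : T.t * T.t = 1 := Invol.invol_mul_self T.order_t

theorem mem_K_of_odd {c : G} (hc : Commute c T.t) (ho : Odd (orderOf c)) : c ∈ T.K := by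
  rcases T.mem_or c hc with h | h
  · exact h
  · exfalso
    obtain ⟨j, hj⟩ := ho
    refine T.not_mem ?_
    have h1 : (T.t * c) ^ orderOf c = T.t := by
      rw [hc.symm.mul_pow, pow_orderOf_eq_one, mul_one, hj, pow_succ, pow_mul, pow_two, T.t_sq,
        one_pow, one_mul]
    exact h1 ▸ pow_mem h _

/-- Every element commuting with `t` is an element of `K`, possibly times `t`. -/
theorem exists_split {c : G} (hc : Commute c T.t) : ∃ x : T.K, c = x ∨ c = T.t * x := by
  rcases T.mem_or c hc with h | h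
  · exact ⟨⟨c, h⟩, Or.inl rfl⟩
  · exact ⟨⟨_, h⟩, Or.inr (by rw [← mul_assoc, T.t_sq, one_mul])⟩

/-- Counting a centralizer in `C(t)`. -/
theorem card_cent_inf (x : T.K) :
    Nat.card ↥(centralizer ({T.t} : Set G) ⊓ centralizer ({(x : G)} : Set G)) =
      2 * Nat.card (centralizer ({x} : Set T.K)) := by
  classical
  set H := centralizer ({T.t} : Set G) ⊓ centralizer ({(x : G)} : Set G)
  set C := centralizer ({x} : Set T.K)
  let f : Bool × C → H := fun p => ⟨(if p.1 then T.t else 1) * ((p.2 : T.K) : G), by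
    have h1 : Commute ((p.2 : T.K) : G) T.t := T.comm_t _ (p.2 : T.K).2
    have h2 : Commute ((p.2 : T.K) : G) x :=
      congrArg Subtype.val (mem_centralizer_singleton_iff.1 p.2.2)
    have h3 : Commute T.t (x : G) := (T.comm_t _ x.2).symm
    rw [mem_inf, mem_centralizer_singleton_iff, mem_centralizer_singleton_iff]
    cases p.1
    · simp only [Bool.false_eq_true, if_false, one_mul]
      exact ⟨h1.eq, h2.eq⟩
    · simp only [if_true]
      exact ⟨((Commute.refl T.t).mul_left h1).eq, (h3.mul_left h2).eq⟩⟩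
  have hf : Function.Bijective f := by
    constructor
    · rintro ⟨a, k⟩ ⟨b, l⟩ e
      have e' : (if a then T.t else 1) * ((k : T.K) : G) = (if b then T.t else 1) * ((l : T.K) : G) :=
        congrArg Subtype.val e
      cases a <;> cases b
      · simp only [Bool.false_eq_true, if_false, one_mul] at e'
        exact Prod.ext rfl (Subtype.ext (Subtype.ext e'))
      · simp only [Bool.false_eq_true, if_false, if_true, one_mul] at e'
        exact absurd (eq_mul_inv_of_mul_eq e'.symm ▸ mul_mem (k : T.K).2 (inv_mem (l : T.K).2))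
          T.not_mem
      · simp only [Bool.false_eq_true, if_false, if_true, one_mul] at e'
        exact absurd (eq_mul_inv_of_mul_eq e' ▸ mul_mem (l : T.K).2 (inv_mem (k : T.K).2)) T.not_mem
      · exact Prod.ext rfl (Subtype.ext (Subtype.ext (mul_left_cancel e')))
    · rintro ⟨c, hc⟩
      rw [mem_inf, mem_centralizer_singleton_iff, mem_centralizer_singleton_iff] at hc
      obtain ⟨hct, hcx⟩ := hc
      obtain ⟨y, hy⟩ := T.exists_split hct
      have hyx : Commute (y : G) x := by
        rcases hy with rfl | rfl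
        · exact hcx
        · have h1 := ((T.comm_t _ x.2).symm : Commute T.t (x : G)).mul_left (show Commute (T.t * y) (x : G) from hcx)
          rwa [← mul_assoc, T.t_sq, one_mul] at h1
      have hyC : y ∈ C := mem_centralizer_singleton_iff.2 (Subtype.ext hyx.eq)
      rcases hy with rfl | rfl
      · exact ⟨(false, ⟨y, hyC⟩), Subtype.ext (by simp [f])⟩
      · exact ⟨(true, ⟨y, hyC⟩), Subtype.ext (by simp [f])⟩
  rw [← Nat.card_congr (Equiv.ofBijective f hf), Nat.card_prod, Nat.card_eq_fintype_card,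
    Fintype.card_bool]

theorem card_C : Nat.card (centralizer ({T.t} : Set G)) = 2 * (q * n * (4 * m)) := by
  have h := T.card_cent_inf 1
  have h1 : centralizer ({((1 : T.K) : G)} : Set G) = ⊤ := by
    rw [eq_top_iff]; intro a _; simp [mem_centralizer_singleton_iff]
  have h2 : centralizer ({(1 : T.K)} : Set T.K) = ⊤ := by
    rw [eq_top_iff]; intro a _; simp [mem_centralizer_singleton_iff]
  rwa [h1, inf_top_eq, h2, card_top, T.kit.card] at h

/-! ### `2`-subgroups -/

theorem sq_of_two {g : G} (hg : Commute g T.t) {j : ℕ} (hj : g ^ 2 ^ j = 1) : g ^ 2 = 1 := by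
  obtain ⟨x, hx⟩ := T.exists_split hg
  have hxt : Commute T.t (x : G) := (T.comm_t _ x.2).symm
  have hx2 : (x : G) ^ 2 ^ (j + 1) = 1 := by
    rcases hx with rfl | rfl
    · rw [pow_succ, pow_mul, hj, one_pow]
    · rw [hxt.mul_pow] at hj
      rw [pow_succ, pow_mul]
      have h1 : T.t ^ 2 ^ j * T.t ^ 2 ^ j = 1 := by rw [← mul_pow', T.t_sq, one_pow]
      calc ((x : G) ^ 2 ^ j) ^ 2
          = T.t ^ 2 ^ j * T.t ^ 2 ^ j * ((x : G) ^ 2 ^ j) ^ 2 := by rw [h1, one_mul]
        _ = (T.t ^ 2 ^ j * (x : G) ^ 2 ^ j) ^ 2 := by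
            rw [(hxt.pow_pow _ _).mul_pow, pow_two (T.t ^ _)]
        _ = 1 := by rw [hj, one_pow]
  have hd : orderOf x ∣ 2 ^ (j + 1) :=
    orderOf_dvd_of_pow_eq_one (Subtype.ext (by push_cast; exact hx2))
  have hx1 : (x : G) ^ 2 = 1 := by
    have h' : orderOf x ∣ 2 := by
      rcases T.kit.data.orders x with ho | ho | ho
      · rw [Nat.eq_one_of_dvd_coprimes (Nat.Coprime.pow_left _ (Nat.coprime_two_left.2 T.kit.p_odd)) hd ho]
        exact one_dvd _
      · exact ((Nat.Coprime.pow_left _ (Nat.coprime_two_left.2 T.kit.m_odd)).coprime_dvd_left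
          hd).dvd_of_dvd_mul_right ho
      · rw [Nat.eq_one_of_dvd_coprimes
          (Nat.Coprime.pow_left _ (Nat.coprime_two_left.2 T.kit.data.mo_odd)) hd ho]
        exact one_dvd _
    exact congrArg Subtype.val (orderOf_dvd_iff_pow_eq_one.1 h')
  rcases hx with rfl | rfl
  · exact hx1
  · rw [hxt.mul_pow, hx1, mul_one, pow_two, T.t_sq]
where
  mul_pow' {a : G} {k : ℕ} : (a * a) ^ k = a ^ k * a ^ k := (Commute.refl a).mul_pow k

theorem exists_conj_commute {H : Subgroup G} (hH : IsPGroup 2 H) :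
    ∃ x : G, ∀ h ∈ H, Commute (x * h * x⁻¹) T.t := by
  haveI : Fact (Nat.Prime 2) := ⟨Nat.prime_two⟩
  set C := centralizer ({T.t} : Set G)
  obtain ⟨S⟩ : Nonempty (Sylow 2 C) := inferInstance
  have hS : Nat.card ((S : Subgroup C).map C.subtype) = 2 ^ (Nat.card G).factorization 2 := by
    have hodd : ¬ 2 ∣ C.index := fun h =>
      Nat.not_even_iff_odd.2 T.odd_index (even_iff_two_dvd.2 h)
    rw [card_map_of_injective C.subtype_injective, S.card_eq_multiplicity, ← card_mul_index C,
      Nat.factorization_mul Nat.card_pos.ne' index_ne_zero_of_finite, Finsupp.add_apply,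
      Nat.factorization_eq_zero_of_not_dvd hodd, add_zero]
  obtain ⟨P, hP⟩ := hH.exists_le_sylow
  obtain ⟨x, hx⟩ := MulAction.exists_smul_eq G P (Sylow.ofCard _ hS)
  refine ⟨x, fun h hh => ?_⟩
  have h1 : x * h * x⁻¹ ∈ ((Sylow.ofCard _ hS : Sylow 2 G) : Subgroup G) := by
    rw [← hx, Sylow.coe_subgroup_smul]
    exact mem_map_of_mem _ (hP hh)
  rw [Sylow.coe_ofCard] at h1
  exact mem_centralizer_singleton_iff.1 (map_subtype_le _ h1)

include T in
theorem sq_of_isPGroup {H : Subgroup G} (hH : IsPGroup 2 H) {h : G} (hh : h ∈ H) : h ^ 2 = 1 := by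
  obtain ⟨x, hx⟩ := T.exists_conj_commute hH
  obtain ⟨j, hj⟩ := hH ⟨h, hh⟩
  have h1 := T.sq_of_two (hx h hh) (j := j) (by
    rw [conj_pow, show h ^ 2 ^ j = 1 from congrArg Subtype.val hj, mul_one, mul_inv_cancel])
  rwa [conj_pow, conj_eq_one_iff] at h1

include T in
theorem comm_of_isPGroup {H : Subgroup G} (hH : IsPGroup 2 H) {a b : G} (ha : a ∈ H) (hb : b ∈ H) :
    Commute a b := by
  have e : ∀ {y : G}, y ∈ H → y⁻¹ = y := fun hy =>
    inv_eq_of_mul_eq_one_right (by rw [← pow_two]; exact T.sq_of_isPGroup hH hy)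
  show a * b = b * a
  calc a * b = (a * b)⁻¹ := (e (mul_mem ha hb)).symm
    _ = b⁻¹ * a⁻¹ := mul_inv_rev _ _
    _ = b * a := by rw [e ha, e hb]

include T in
theorem not_four_dvd (g : G) : ¬ 4 ∣ orderOf g := by
  intro h
  set y := g ^ (orderOf g / 4)
  have hy : orderOf y = 4 := orderOf_pow_orderOf_div (orderOf_pos g).ne' h
  haveI : Fact (Nat.Prime 2) := ⟨Nat.prime_two⟩
  have h1 := T.sq_of_isPGroup (IsPGroup.of_card (G := zpowers y) (p := 2) (n := 2)
    (by rw [Nat.card_zpowers, hy]; norm_num)) (mem_zpowers y)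
  have := orderOf_dvd_of_pow_eq_one h1
  rw [hy] at this
  norm_num at this
theorem odd_orders {c : G} (hc : Commute c T.t) (ho : Odd (orderOf c)) :
    orderOf c ∣ p ∨ orderOf c ∣ m ∨ orderOf c ∣ n := by
  have hcK := T.mem_K_of_odd hc ho
  rcases T.kit.data.orders ⟨c, hcK⟩ with h | h | h <;> rw [Subgroup.orderOf_mk] at h
  · exact Or.inl h
  · exact Or.inr (Or.inl ((Nat.Coprime.dvd_mul_left (Nat.coprime_two_right.2 ho)).1 h))
  · exact Or.inr (Or.inr h)

end Setup

end CfsgLib.JTh
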