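import Cfsg.Agent.Lib.GW.Final
import Cfsg.Agent.Lib.GW.InvolPSL
import Cfsg.Agent.Lib.GW.CaseA.XLayer
import Cfsg.Agent.Lib.Classical.ProjLine
import Cfsg.Agent.Lib.Bender.Consumers.PslFacts

/-!
# Perfect groups with four-group Sylow 2-subgroups and commutative involution centralizers
-/

set_option autoImplicit false
set_option linter.unusedSectionVars false

namespace CfsgLib.JTh

open Subgroup

universe u

/-- A central odd extension of a group of order `60`, if perfect, is trivial. -/
theorem eq_bot_of_central {R : Type u} [Group R] [Finite R] [Group.IsPerfect R] (Z : Subgroup R) [Z.Normal]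
    (hc : Z ≤ center R) (hodd : Odd (Nat.card Z)) (h60 : Nat.card (R ⧸ Z) = 60) : Z = ⊥ := by
  by_contra hne
  have h1 : Nat.card Z ≠ 1 := fun h => hne (Subgroup.card_eq_one.1 h)
  obtain ⟨p, hp, hpd⟩ := Nat.exists_prime_and_dvd h1
  haveI := Fact.mk hp
  have hp2 : p ≠ 2 := fun e => Nat.not_even_iff_odd.2 hodd (even_iff_two_dvd.2 (e ▸ hpd))
  obtain ⟨⟨z, hz⟩, hzo⟩ := exists_prime_orderOf_dvd_card' p hpd
  rw [Subgroup.orderOf_mk] at hzo
  have hW : zpowers z = ⊥ := by
    refine GW.CaseA.perfect_central_split (p := p) (zpowers z) ((zpowers_le.2 hz).trans hc)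
      (IsPGroup.of_card (n := 1) (by rw [Nat.card_zpowers, hzo, pow_one])) fun S => ?_
    let f := (QuotientGroup.mk' Z).subgroupMap (S : Subgroup R)
    haveI : IsCyclic ↥((S : Subgroup R).map (QuotientGroup.mk' Z)) := by
      obtain ⟨j, hj⟩ := IsPGroup.iff_card.1 (S.2.map (QuotientGroup.mk' Z))
      have hd : p ^ j ∣ 60 := by
        rw [← hj, ← h60]
        exact card_subgroup_dvd_card _
      rcases j with _ | _ | j
      · haveI := (Nat.card_eq_one_iff_unique.1 (hj.trans (pow_zero p))).1
        exact isCyclic_of_subsingleton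
      · exact isCyclic_of_prime_card (p := p) (by rw [hj, pow_one])
      · exfalso
        have h2 : p ^ 2 ∣ 60 := (pow_dvd_pow p (by omega)).trans hd
        have h3 : p * p ≤ 60 := by rw [← sq]; exact Nat.le_of_dvd (by norm_num) h2
        have h4 : p ≤ 7 := by nlinarith
        interval_cases p <;> first | omega | (norm_num at hp) | (norm_num at h2)
    refine ⟨⟨fun a b => commutative_of_cyclic_center_quotient f ?_ a b⟩⟩
    intro a ha
    refine mem_center_iff.2 fun g => Subtype.ext (mem_center_iff.1 (hc ?_) g.1)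
    exact (QuotientGroup.eq_one_iff a.1).1 (congrArg Subtype.val ha)
  rw [zpowers_eq_bot] at hW
  rw [hW, orderOf_one] at hzo
  exact hp.one_lt.ne hzo

/-- A perfect group with a four-group as Sylow 2-subgroup, commutative involution centralizers and central
odd core is `PSL₂(5)`. -/
theorem exists_psl_five {R : Type u} [Group R] [Finite R] [Group.IsPerfect R] (S : Sylow 2 R)
    (h4 : IsKleinFour (S : Subgroup R))
    (hcomm : ∀ t : R, orderOf t = 2 → ∀ a b : R, a * t = t * a → b * t = t * b → a * b = b * a)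
    (hcen : Cfsg.oddCore R ≤ center R) :
    Nat.card R = 60 ∧ ∃ (F : Type) (_ : Field F) (_ : Fintype F), Fintype.card F = 5 ∧
      Nonempty (R ≃* Matrix.ProjectiveSpecialLinearGroup (Fin 2) F) := by
  classical
  haveI : Fact (Nat.Prime 2) := ⟨Nat.prime_two⟩
  set O := Cfsg.oddCore R with hO
  haveI : O.Normal := inferInstance
  have hodd : Odd (Nat.card O) := GW.odd_oddCore R
  haveI := h4
  have hSc : Nat.card (S : Subgroup R) = 4 := IsKleinFour.card_four
  have hD : GW.DihTwo R := GW.dihTwo_of_sylow S (n := 2) le_rfl IsKleinFour.nonempty_mulEquiv.some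
  have hfac : ∀ Q : Sylow 2 (R ⧸ O), Nat.card Q = 4 := by
    intro Q
    rw [← hSc, Q.card_eq_multiplicity, S.card_eq_multiplicity,
      card_eq_card_quotient_mul_card_subgroup O, Nat.factorization_mul Nat.card_pos.ne' Nat.card_pos.ne',
      Finsupp.add_apply, Nat.factorization_eq_zero_of_not_dvd (n := Nat.card O)
        (fun h => Nat.not_even_iff_odd.2 hodd (even_iff_two_dvd.2 h)), add_zero]
  rcases GW.gw_perfect R hD with ⟨F, i1, i2, hFo, hF3, ⟨e⟩⟩ | ⟨⟨e⟩⟩
  swap
  · exfalso
    obtain ⟨Q⟩ : Nonempty (Sylow 2 (alternatingGroup (Fin 7))) := inferInstance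
    have h8 : Nat.card Q = 8 := by
      rw [Q.card_eq_multiplicity, show Nat.card (alternatingGroup (Fin 7)) = 2520 by
        rw [Nat.card_eq_fintype_card, card_alternatingGroup, Fintype.card_fin]; rfl,
        show (2520 : ℕ) = 2 ^ 3 * 315 by norm_num, Nat.factorization_mul (by norm_num) (by norm_num),
        Finsupp.add_apply, Nat.factorization_eq_zero_of_not_dvd (by norm_num : ¬ 2 ∣ 315), add_zero,
        Nat.Prime.factorization_pow Nat.prime_two, Finsupp.single_eq_same]
      norm_num
    obtain ⟨Q'⟩ : Nonempty (Sylow 2 (R ⧸ O)) := inferInstance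
    have h := hfac Q'
    rw [Q'.card_eq_multiplicity, Nat.card_congr e.toEquiv, ← Q.card_eq_multiplicity, h8] at h
    norm_num at h
  have hq5 : Fintype.card F = 5 := by
    obtain ⟨Q⟩ : Nonempty (Sylow 2 (Matrix.ProjectiveSpecialLinearGroup (Fin 2) F)) := inferInstance
    have hq1 : Fintype.card F % 2 = 1 := Nat.odd_iff.1 hFo
    have hQ : Nat.card (Q : Subgroup (Matrix.ProjectiveSpecialLinearGroup (Fin 2) F)) = 4 := by
      obtain ⟨Q'⟩ : Nonempty (Sylow 2 (R ⧸ O)) := inferInstance
      have h := hfac Q'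
      rwa [Q'.card_eq_multiplicity, Nat.card_congr e.toEquiv, ← Q.card_eq_multiplicity] at h
    obtain ⟨⟨t, htQ⟩, hto⟩ := exists_prime_orderOf_dvd_card'
      (G := (Q : Subgroup (Matrix.ProjectiveSpecialLinearGroup (Fin 2) F))) 2
      (by rw [hQ]; norm_num)
    rw [Subgroup.orderOf_mk] at hto
    have hcard := GW.card_cent_psl hFo t hto
    have hge : 4 ≤ GW.invCard (Fintype.card F) := by
      unfold GW.invCard; split_ifs <;> omega
    by_contra hne5
    have hgt : 4 < GW.invCard (Fintype.card F) := by
      unfold GW.invCard; split_ifs <;> omega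
    -- the centralizer is commutative
    have hab : ∀ a b : Matrix.ProjectiveSpecialLinearGroup (Fin 2) F,
        a * t = t * a → b * t = t * b → a * b = b * a := by
      obtain ⟨x, hx, hxt⟩ : ∃ x : R, orderOf x = 2 ∧ e (QuotientGroup.mk x) = t := by
        have ht2 : t ^ 2 = 1 := orderOf_dvd_iff_pow_eq_one.1 hto.dvd
        obtain ⟨y, hy⟩ := QuotientGroup.mk_surjective (s := O) (e.symm t)
        have ho : Odd (Nat.card O) := hodd
        have hy2 : y ^ 2 ∈ O := by
          rw [← QuotientGroup.eq_one_iff, QuotientGroup.mk_pow, hy, ← map_pow, ht2, map_one]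
        obtain ⟨j, hj⟩ := ho
        refine ⟨y ^ Nat.card O, ?_, ?_⟩
        · refine orderOf_eq_prime ?_ fun h1 => ?_
          · have h0 := congrArg Subtype.val (pow_card_eq_one' (x := (⟨y ^ 2, hy2⟩ : O)))
            rw [← pow_mul, mul_comm, pow_mul]
            simpa only [SubgroupClass.coe_pow, OneMemClass.coe_one] using h0
          · have h2 : (e.symm t) ^ Nat.card O = 1 := by
              rw [← hy, ← QuotientGroup.mk_pow, h1, QuotientGroup.mk_one]
            have h3 : orderOf t ∣ Nat.card O := orderOf_dvd_of_pow_eq_one (e.symm.injective (by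
              rw [map_pow, h2, map_one]))
            rw [hto] at h3
            exact Nat.not_even_iff_odd.2 hodd (even_iff_two_dvd.2 h3)
        · rw [QuotientGroup.mk_pow, hy, map_pow, e.apply_symm_apply, hj, pow_succ, pow_mul, ht2,
            one_pow, one_mul]
      have hlift : ∀ a : Matrix.ProjectiveSpecialLinearGroup (Fin 2) F, a * t = t * a →
          ∃ c : R, c * x = x * c ∧ e (QuotientGroup.mk c) = a := by
        intro a ha
        obtain ⟨c, hc⟩ := QuotientGroup.mk_surjective (s := O) (e.symm a)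
        refine ⟨c, ?_, by rw [hc, e.apply_symm_apply]⟩
        have hmem : c * x * c⁻¹ * x⁻¹ ∈ O := by
          refine (QuotientGroup.eq_one_iff _).1 (e.injective ?_)
          simp only [QuotientGroup.mk_mul, QuotientGroup.mk_inv, map_mul, map_inv, hc, e.apply_symm_apply,
            map_one]
          rw [show e (QuotientGroup.mk x) = t from hxt, ha]; group
        set o := c * x * c⁻¹ * x⁻¹ with ho'
        have hoc : o * x = x * o := (mem_center_iff.1 (hcen hmem) x).symm
        have hcx : c * x * c⁻¹ = o * x := by rw [ho']; group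
        have hx2 : x * x = 1 := by rw [← pow_two, ← hx, pow_orderOf_eq_one]
        have ho2 : o * o = 1 := by
          have h := congrArg (fun u : R => u * u) hcx
          rw [show c * x * c⁻¹ * (c * x * c⁻¹) = c * (x * x) * c⁻¹ by group, hx2, mul_one, mul_inv_cancel,
            show o * x * (o * x) = o * (x * o) * x by group, ← hoc,
            show o * (o * x) * x = o * o * (x * x) by group, hx2, mul_one] at h
          exact h.symm
        have ho1 : o = 1 := by
          have h1 : orderOf o ∣ 2 := orderOf_dvd_of_pow_eq_one (by rw [pow_two]; exact ho2)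
          exact orderOf_eq_one_iff.1 (Nat.eq_one_of_dvd_coprimes (Nat.coprime_two_left.2 hodd) h1
            (Subgroup.orderOf_dvd_natCard _ hmem))
        rw [ho1, one_mul] at hcx
        exact mul_inv_eq_iff_eq_mul.1 hcx
      intro a b ha hb
      obtain ⟨c, hc, rfl⟩ := hlift a ha
      obtain ⟨d, hd, rfl⟩ := hlift b hb
      rw [← map_mul, ← map_mul, ← QuotientGroup.mk_mul, ← QuotientGroup.mk_mul, hcomm x hx c d hc hd]
    set C : Subgroup (Matrix.ProjectiveSpecialLinearGroup (Fin 2) F) := centralizer {t} with hC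
    have hQc : ∀ a ∈ (Q : Subgroup (Matrix.ProjectiveSpecialLinearGroup (Fin 2) F)),
        ∀ b ∈ (Q : Subgroup (Matrix.ProjectiveSpecialLinearGroup (Fin 2) F)), a * b = b * a :=
      fun a ha b hb => congrArg Subtype.val
        ((IsPGroup.isMulCommutative_of_card_eq_prime_sq (p := 2) (hQ.trans (by norm_num))).is_comm.comm
          (⟨a, ha⟩ : (Q : Subgroup (Matrix.ProjectiveSpecialLinearGroup (Fin 2) F))) ⟨b, hb⟩)
    obtain ⟨a, b, haQ, hbQ, ha, hb, hne, hcab⟩ := PslMax.exists_four_mem hFo Q
    have hsq : ∀ x ∈ C, x * x = 1 := fun x hx => EqConj.psl_cent_four hFo ha hb hne hcab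
      (hab x a (mem_centralizer_singleton_iff.1 hx) (hQc a haQ t htQ))
      (hab x b (mem_centralizer_singleton_iff.1 hx) (hQc b hbQ t htQ))
    have hC2 : IsPGroup 2 C := fun x => ⟨1, Subtype.ext (by
      rw [pow_one, pow_two]; exact hsq x.1 x.2)⟩
    obtain ⟨k, hk⟩ := IsPGroup.iff_card.1 hC2
    have hk2 := EqConj.card_le_four_of_elementary hFo C hk hsq
    rw [hk] at hcard
    have : 2 ^ k ≤ 2 ^ 2 := Nat.pow_le_pow_right (by norm_num) hk2
    omega
  have hcardq : Nat.card (R ⧸ O) = 60 := by
    have h := CfsgLib.Classical.card_psl2 (F := F)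
    rw [hq5, ← Nat.card_congr e.toEquiv] at h
    have h' : 2 * Nat.card (R ⧸ O) = 120 := by
      rwa [show Nat.gcd 2 (5 - 1) = 2 by decide] at h
    omega
  have hbot : O = ⊥ := eq_bot_of_central O hcen hodd hcardq
  refine ⟨?_, F, i1, i2, hq5, ⟨((QuotientGroup.quotientMulEquivOfEq hbot).trans QuotientGroup.quotientBot).symm.trans e⟩⟩
  rw [card_eq_card_quotient_mul_card_subgroup O, hcardq, hbot, card_bot]

end CfsgLib.JTh
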