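import Mathlib
import Cfsg.Agent.Lib.Fusion.Transfer

/-!
# Subgroups isomorphic to the icosahedral group

`Icos R` says that `R` is simple of order `60` with centralizers of involutions of order four. An element
normalizing `R` and centralizing a four-group of `R` centralizes `R` up to an element of that four-group.
-/

set_option autoImplicit false
set_option linter.unusedSectionVars false

namespace CfsgLib.JTh

open Subgroup

variable {G : Type*} [Group G] [Finite G]

/-- A simple subgroup of order `60` whose involutions have centralizers of order four. -/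
structure Icos (R : Subgroup G) : Prop where
  card : Nat.card R = 60
  simple : ∀ N : Subgroup R, N.Normal → N = ⊥ ∨ N = ⊤
  cent : ∀ s ∈ R, orderOf s = 2 → Nat.card ↥(R ⊓ centralizer ({s} : Set G)) = 4

namespace Icos

variable {R : Subgroup G} (h : Icos R)
include h

theorem comm_cent {s a b : G} (hs : s ∈ R) (hs2 : orderOf s = 2) (ha : a ∈ R) (has : Commute a s)
    (hb : b ∈ R) (hbs : Commute b s) : Commute a b := by
  haveI : Fact (Nat.Prime 2) := ⟨Nat.prime_two⟩
  exact congrArg Subtype.val ((IsPGroup.isMulCommutative_of_card_eq_prime_sq (p := 2)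
    ((h.cent s hs hs2).trans rfl : Nat.card ↥(R ⊓ centralizer ({s} : Set G)) = 2 ^ 2)).is_comm.comm
    (⟨a, ha, mem_centralizer_singleton_iff.2 has.eq⟩ : ↥(R ⊓ centralizer ({s} : Set G)))
    ⟨b, hb, mem_centralizer_singleton_iff.2 hbs.eq⟩)

theorem trans {s a b : G} (hs : s ∈ R) (hs2 : orderOf s = 2) (ha : a ∈ R) (hb : b ∈ R)
    (has : Commute a s) (hsb : Commute s b) : Commute a b :=
  h.comm_cent hs hs2 ha has hb hsb.symm

/-- The centralizer of an involution of a four-group. -/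
theorem mem_four {t u : G} (ht : t ∈ R) (hu : u ∈ R) (ht2 : orderOf t = 2) (hu2 : orderOf u = 2)
    (hc : Commute t u) (hne : t ≠ u) {r : G} (hr : r ∈ R) (hrt : Commute r t) :
    r = 1 ∨ r = t ∨ r = u ∨ r = t * u := by
  classical
  have ht1 : t * t = 1 := by rw [← pow_two, ← ht2, pow_orderOf_eq_one]
  have hu1 : u * u = 1 := by rw [← pow_two, ← hu2, pow_orderOf_eq_one]
  have ht0 : t ≠ 1 := fun e => by rw [e, orderOf_one] at ht2; norm_num at ht2
  have hu0 : u ≠ 1 := fun e => by rw [e, orderOf_one] at hu2; norm_num at hu2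
  set Q := R ⊓ centralizer ({t} : Set G) with hQ
  have htQ : t ∈ Q := mem_inf.2 ⟨ht, mem_centralizer_singleton_iff.2 rfl⟩
  have huQ : u ∈ Q := mem_inf.2 ⟨hu, mem_centralizer_singleton_iff.2 hc.symm.eq⟩
  let f : Fin 4 → Q := ![1, ⟨t, htQ⟩, ⟨u, huQ⟩, ⟨t * u, mul_mem htQ huQ⟩]
  have h3 : t * u ≠ 1 := fun e => hne ((eq_inv_of_mul_eq_one_left e).trans
    (inv_eq_of_mul_eq_one_right hu1))
  have hf : Function.Injective f := by
    intro i j e
    have e' := congrArg Subtype.val e
    fin_cases i <;> fin_cases j <;> simp [f] at e' ⊢ <;>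
      first | exact (ht0 e').elim | exact (ht0 e'.symm).elim | exact (hu0 e').elim
            | exact (hu0 e'.symm).elim | exact (h3 e').elim | exact (h3 e'.symm).elim
            | exact (hne e').elim | exact (hne e'.symm).elim
  haveI := Fintype.ofFinite Q
  have hb : Function.Bijective f := (Fintype.bijective_iff_injective_and_card f).2
    ⟨hf, by rw [Fintype.card_fin, ← Nat.card_eq_fintype_card, hQ, h.cent t ht ht2]⟩
  obtain ⟨i, hi⟩ := hb.2 ⟨r, mem_inf.2 ⟨hr, mem_centralizer_singleton_iff.2 hrt.eq⟩⟩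
  have hi' := congrArg Subtype.val hi
  fin_cases i <;> simp [f] at hi' <;> simp [← hi']

/-- The Sylow subgroup of an involution. -/
theorem exists_sylow :
    ∃ P : {s : R // orderOf (s : G) = 2} → Sylow 2 R,
      (∀ a b, P a = P b ↔ Commute (a.1 : G) b.1) ∧
      ∀ a, (P a : Subgroup R) = (R ⊓ centralizer ({(a.1 : G)} : Set G)).subgroupOf R := by
  haveI : Fact (Nat.Prime 2) := ⟨Nat.prime_two⟩
  have hc : ∀ a : {s : R // orderOf (s : G) = 2},
      Nat.card ↥((R ⊓ centralizer ({(a.1 : G)} : Set G)).subgroupOf R) =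
        2 ^ (Nat.card R).factorization 2 := by
    intro a
    rw [Nat.card_congr (subgroupOfEquivOfLe inf_le_left).toEquiv, h.cent _ a.1.2 a.2, h.card,
      show (60 : ℕ) = 2 ^ 2 * 15 by norm_num, Nat.factorization_mul (by norm_num) (by norm_num),
      Finsupp.add_apply, Nat.factorization_eq_zero_of_not_dvd (by norm_num : ¬ 2 ∣ 15), add_zero,
      Nat.Prime.factorization_pow Nat.prime_two, Finsupp.single_eq_same]
    norm_num
  refine ⟨fun a => Sylow.ofCard _ (hc a), fun a b => ⟨fun e => ?_, fun e => Sylow.ext ?_⟩, fun a => rfl⟩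
  · have e' := congrArg (fun S : Sylow 2 R => (S : Subgroup R)) e
    simp only [Sylow.coe_ofCard] at e'
    have ha : a.1 ∈ (R ⊓ centralizer ({(a.1 : G)} : Set G)).subgroupOf R :=
      mem_subgroupOf.2 (mem_inf.2 ⟨a.1.2, mem_centralizer_singleton_iff.2 rfl⟩)
    rw [e', mem_subgroupOf, mem_inf, mem_centralizer_singleton_iff] at ha
    exact ha.2
  · rw [Sylow.coe_ofCard, Sylow.coe_ofCard]
    ext r
    simp only [mem_subgroupOf, mem_inf, mem_centralizer_singleton_iff]
    exact ⟨fun hr => ⟨r.2, (h.trans a.1.2 a.2 r.2 b.1.2 hr.2 e).eq⟩,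
      fun hr => ⟨r.2, (h.trans b.1.2 b.2 r.2 a.1.2 hr.2 e.symm).eq⟩⟩

/-- An element of `R` of order three permuting the four-group cyclically. -/
theorem exists_three {t u : G} (ht : t ∈ R) (hu : u ∈ R) (ht2 : orderOf t = 2) (hu2 : orderOf u = 2)
    (hc : Commute t u) (hne : t ≠ u) :
    ∃ r ∈ R, orderOf r = 3 ∧ r * t * r⁻¹ = u ∧ r * u * r⁻¹ = t * u := by
  classical
  haveI : Fact (Nat.Prime 2) := ⟨Nat.prime_two⟩
  have ht1 : t * t = 1 := by rw [← pow_two, ← ht2, pow_orderOf_eq_one]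
  have hu1 : u * u = 1 := by rw [← pow_two, ← hu2, pow_orderOf_eq_one]
  have ht0 : t ≠ 1 := fun e => by rw [e, orderOf_one] at ht2; norm_num at ht2
  have htu : orderOf (t * u) = 2 := orderOf_eq_prime
    (by rw [hc.mul_pow, pow_two, pow_two, ht1, hu1, one_mul])
    fun e => hne ((eq_inv_of_mul_eq_one_left e).trans (inv_eq_of_mul_eq_one_right hu1))
  obtain ⟨P, hP, hPe⟩ := h.exists_sylow
  set S := P ⟨⟨t, ht⟩, ht2⟩ with hS
  have hSmem : ∀ r : R, r ∈ (S : Subgroup R) ↔ Commute (r : G) t := fun r => by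
    rw [hS, hPe, mem_subgroupOf, mem_inf, mem_centralizer_singleton_iff]
    exact ⟨fun hh => hh.2, fun hh => ⟨r.2, hh.eq⟩⟩
  obtain ⟨n, hn, y, hy, hny⟩ : ∃ n : R, n ∈ normalizer ((S : Subgroup R) : Set R) ∧
      ∃ y ∈ (S : Subgroup R), n * y ≠ y * n := by
    by_contra hall
    push Not at hall
    obtain ⟨P', N, hN, hcomp⟩ := Fusion.hasNormalPComplement_of_normalizer_le_centralizer S fun x hx =>
      mem_centralizer_iff.2 fun y hy => (hall x hx y hy).symm
    rcases h.simple N hN with e | e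
    · rw [e, isComplement'_bot_left] at hcomp
      have h4 : Nat.card (P' : Subgroup R) = 60 := by rw [hcomp, card_top, h.card]
      have := P'.2.exists_card_eq
      obtain ⟨k, hk⟩ := this
      rw [h4] at hk
      have h15 : 15 ∣ 2 ^ k := hk ▸ by norm_num
      exact absurd (Nat.prime_three.dvd_of_dvd_pow ((by norm_num : 3 ∣ 15).trans h15)) (by norm_num)
    · rw [e, isComplement'_top_left] at hcomp
      exact P'.ne_bot_of_dvd_card (by rw [h.card]; norm_num) hcomp
  have hfour : ∀ {r : G}, r ∈ R → Commute r t → r = 1 ∨ r = t ∨ r = u ∨ r = t * u := fun hr =>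
    h.mem_four ht hu ht2 hu2 hc hne hr
  have hcomm : ∀ {r s : G}, r ∈ R → s ∈ R → Commute r t → Commute s t → Commute r s :=
    fun hr hs hrt hst => h.comm_cent ht ht2 hr hrt hs hst
  have hnt : ¬ Commute (n : G) t := fun e =>
    hny (Subtype.ext (hcomm n.2 y.2 e ((hSmem y).1 hy)).eq)
  have him : ∀ v : G, v ∈ R → Commute v t → Commute ((n : G) * v * (n : G)⁻¹) t := fun v hv hvt =>
    (hSmem (n * ⟨v, hv⟩ * n⁻¹)).1 ((mem_normalizer_iff.1 hn ⟨v, hv⟩).1 ((hSmem ⟨v, hv⟩).2 hvt))
  have key : ∀ a b : G, a ∈ R → b ∈ R → orderOf a = 2 → orderOf b = 2 → a ≠ b → Commute a b →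
      Commute a t → Commute b t → (n : G) * a * (n : G)⁻¹ = b → (n : G) * b * (n : G)⁻¹ ≠ a := by
    intro a b ha hb ha2 hb2 hab habc hat hbt e1 e2
    have hb1 : b * b = 1 := by rw [← pow_two, ← hb2, pow_orderOf_eq_one]
    have hab2 : orderOf (a * b) = 2 := orderOf_eq_prime
      (by rw [habc.mul_pow, ← ha2, pow_orderOf_eq_one, ha2, pow_two, hb1, one_mul])
      fun e => hab ((eq_inv_of_mul_eq_one_left e).trans (inv_eq_of_mul_eq_one_right hb1))
    have h1 : Commute (n : G) (a * b) := mul_inv_eq_iff_eq_mul.1 (by rw [← conj_mul, e1, e2, habc.eq])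
    exact hnt (h.trans (mul_mem ha hb) hab2 n.2 ht h1 (hat.mul_left hbt))
  have hnu : ¬ Commute (n : G) u := fun e => hnt (h.trans hu hu2 n.2 ht e hc.symm)
  have hntu : ¬ Commute (n : G) (t * u) := fun e =>
    hnt (h.trans (mul_mem ht hu) htu n.2 ht e ((Commute.refl t).mul_left hc.symm))
  have hcyc : ((n : G) * t * (n : G)⁻¹ = u ∧ (n : G) * u * (n : G)⁻¹ = t * u) ∨
      ((n : G) * t * (n : G)⁻¹ = t * u ∧ (n : G) * u * (n : G)⁻¹ = t) := by
    have hf : ∀ v : G, v ∈ R → orderOf v = 2 → Commute v t →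
        (n : G) * v * (n : G)⁻¹ = t ∨ (n : G) * v * (n : G)⁻¹ = u ∨ (n : G) * v * (n : G)⁻¹ = t * u := by
      intro v hv hv2 hvt
      refine (hfour (mul_mem (mul_mem n.2 hv) (inv_mem n.2)) (him v hv hvt)).resolve_left fun e => ?_
      rw [conj_eq_one_iff.1 e, orderOf_one] at hv2
      norm_num at hv2
    rcases hf t ht ht2 (Commute.refl t) with e | e | e
    · exact absurd (mul_inv_eq_iff_eq_mul.1 e) hnt
    · refine Or.inl ⟨e, ?_⟩
      rcases hf u hu hu2 hc.symm with e' | e' | e'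
      · exact absurd e' (key t u ht hu ht2 hu2 hne hc (Commute.refl t) hc.symm e)
      · exact absurd (mul_inv_eq_iff_eq_mul.1 e') hnu
      · exact e'
    · refine Or.inr ⟨e, ?_⟩
      rcases hf u hu hu2 hc.symm with e' | e' | e'
      · exact e'
      · exact absurd (mul_inv_eq_iff_eq_mul.1 e') hnu
      · exact absurd (mul_left_cancel (mul_right_cancel (e.trans e'.symm))) hne
  have hutu : u * (t * u) = t := by rw [← mul_assoc, hc.symm.eq, mul_assoc, hu1, mul_one]
  obtain ⟨z, hzR, z1, z2⟩ : ∃ z ∈ R, z * t * z⁻¹ = u ∧ z * u * z⁻¹ = t * u := by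
    rcases hcyc with ⟨e1, e2⟩ | ⟨e1, e2⟩
    · exact ⟨n, n.2, e1, e2⟩
    · have e3 : (n : G) * (t * u) * (n : G)⁻¹ = u := by
        rw [← conj_mul, e1, e2, mul_assoc, hc.symm.eq, ← mul_assoc, ht1, one_mul]
      refine ⟨n * n, mul_mem n.2 n.2, ?_, ?_⟩
      · rw [show (n : G) * n * t * ((n : G) * n)⁻¹ = n * ((n : G) * t * (n : G)⁻¹) * (n : G)⁻¹ by group, e1, e3]
      · rw [show (n : G) * n * u * ((n : G) * n)⁻¹ = n * ((n : G) * u * (n : G)⁻¹) * (n : G)⁻¹ by group, e2, e1]
  have z3 : z * (t * u) * z⁻¹ = t := by rw [← conj_mul, z1, z2, hutu]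
  have hz3 : Commute (z ^ 3) t := mul_inv_eq_iff_eq_mul.1 (by
    rw [show z ^ 3 * t * (z ^ 3)⁻¹ = z * (z * (z * t * z⁻¹) * z⁻¹) * z⁻¹ by rw [pow_three]; group,
      z1, z2, z3])
  have hz6 : z ^ 3 * z ^ 3 = 1 := by
    rcases hfour (pow_mem hzR 3) hz3 with e | e | e | e <;> rw [e]
    · exact one_mul 1
    · exact ht1
    · exact hu1
    · rw [← pow_two, ← htu, pow_orderOf_eq_one]
  have hz4 : ∀ v : G, Commute (z ^ 3) v → z ^ 4 * v * (z ^ 4)⁻¹ = z * v * z⁻¹ := fun v hv => by
    rw [pow_succ' z 3, show z * z ^ 3 * v * (z * z ^ 3)⁻¹ = z * (z ^ 3 * v * (z ^ 3)⁻¹) * z⁻¹ by group,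
      hv.eq, mul_inv_cancel_right]
  have hz3u : Commute (z ^ 3) u := hcomm (pow_mem hzR 3) hu hz3 hc.symm
  have r1 : z ^ 4 * t * (z ^ 4)⁻¹ = u := (hz4 t hz3).trans z1
  have hr3 : (z ^ 4) ^ 3 = 1 := by
    rw [show (z ^ 4) ^ 3 = (z ^ 3 * z ^ 3) ^ 2 by rw [← pow_add, ← pow_mul, ← pow_mul], hz6, one_pow]
  refine ⟨z ^ 4, pow_mem hzR 4, orderOf_eq_prime hr3 fun e => ?_, r1, (hz4 u hz3u).trans z2⟩
  rw [e, one_mul, inv_one, mul_one] at r1
  exact hne r1

/-- An involution inverting an element of order three. -/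
theorem exists_inverter {r : G} (hr : r ∈ R) (hr3 : orderOf r = 3) :
    ∃ s ∈ R, orderOf s = 2 ∧ s * r * s⁻¹ = r⁻¹ := by
  classical
  haveI : Fact (Nat.Prime 2) := ⟨Nat.prime_two⟩
  haveI : Fact (Nat.Prime 3) := ⟨Nat.prime_three⟩
  set x : R := ⟨r, hr⟩ with hx
  have hxo : orderOf x = 3 := by rw [hx, Subgroup.orderOf_mk, hr3]
  have hc : Nat.card (zpowers x) = 3 ^ (Nat.card R).factorization 3 := by
    rw [Nat.card_zpowers, hxo, h.card, show (60 : ℕ) = 3 ^ 1 * 20 by norm_num,
      Nat.factorization_mul (by norm_num) (by norm_num), Finsupp.add_apply,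
      Nat.factorization_eq_zero_of_not_dvd (by norm_num : ¬ 3 ∣ 20), add_zero,
      Nat.Prime.factorization_pow Nat.prime_three, Finsupp.single_eq_same, pow_one]
  set S : Sylow 3 R := Sylow.ofCard _ hc with hS
  have hSe : (S : Subgroup R) = zpowers x := rfl
  have hmul := card_mul_index (normalizer ((S : Subgroup R) : Set R))
  rw [← show Nat.card (Sylow 3 R) = (normalizer ((S : Subgroup R) : Set R)).index from
    Sylow.card_eq_index_normalizer S, h.card] at hmul
  have hmod : Nat.card (Sylow 3 R) % 3 = 1 := card_sylow_modEq_one 3 R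
  have h3N : 3 ∣ Nat.card (normalizer ((S : Subgroup R) : Set R)) := by
    have := card_dvd_of_le (le_normalizer (H := (S : Subgroup R)))
    rwa [hSe, Nat.card_zpowers, hxo] at this
  have heven : 2 ∣ Nat.card (normalizer ((S : Subgroup R) : Set R)) := by
    obtain ⟨a, ha⟩ := h3N
    set k := Nat.card (Sylow 3 R) with hk
    rw [ha] at hmul
    have hk20 : k * a = 20 := by linarith
    have hkle : k ≤ 20 := Nat.le_of_dvd (by norm_num) (hk20 ▸ dvd_mul_right k a)
    have hk14 : k = 1 ∨ k = 4 ∨ k = 10 := by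
      have hd : k ∣ 20 := hk20 ▸ dvd_mul_right k a
      interval_cases k <;> first | omega | (norm_num at hd)
    rcases hk14 with e | e | e
    · exfalso
      rw [e, one_mul] at hk20
      have hN : normalizer ((S : Subgroup R) : Set R) = ⊤ :=
        eq_top_of_card_eq _ (by rw [ha, hk20, h.card])
      rcases h.simple _ (normalizer_eq_top_iff.1 hN) with h1 | h1
      · rw [hSe, zpowers_eq_bot] at h1
        rw [h1, orderOf_one] at hxo
        norm_num at hxo
      · have := congrArg (fun H : Subgroup R => Nat.card H) h1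
        simp only [hSe, Nat.card_zpowers, hxo, card_top, h.card] at this
        norm_num at this
    · exfalso
      have hker : (MulAction.toPermHom R (Sylow 3 R)).ker = ⊥ := by
        rcases h.simple _ (MonoidHom.normal_ker (MulAction.toPermHom R (Sylow 3 R))) with h1 | h1
        · exact h1
        · exfalso
          have hN : normalizer ((S : Subgroup R) : Set R) = ⊤ := by
            rw [eq_top_iff]
            intro g _
            have hg : g ∈ (MulAction.toPermHom R (Sylow 3 R)).ker := h1 ▸ mem_top g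
            exact Sylow.smul_eq_iff_mem_normalizer.1 (Equiv.Perm.ext_iff.1 hg S)
          have h5 : Nat.card (normalizer ((S : Subgroup R) : Set R)) = 60 := by rw [hN, card_top, h.card]
          rw [e] at hk20
          omega
      have hd := Subgroup.card_dvd_of_injective _ ((MonoidHom.ker_eq_bot_iff _).1 hker)
      rw [h.card, Nat.card_perm, ← hk, e] at hd
      norm_num [Nat.factorial] at hd
    · rw [e] at hk20
      rw [ha]
      exact ⟨3, by omega⟩
  obtain ⟨⟨s, hsN⟩, hso⟩ := exists_prime_orderOf_dvd_card' 2 heven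
  rw [Subgroup.orderOf_mk] at hso
  refine ⟨s, s.2, by rw [Subgroup.orderOf_coe, hso], ?_⟩
  have hm : s * x * s⁻¹ ∈ zpowers x := (mem_normalizer_iff.1 hsN x).1 (hSe ▸ mem_zpowers x)
  obtain ⟨i, hi⟩ := mem_zpowers_iff.1 hm
  have hi' : (s : G) * r * (s : G)⁻¹ = r ^ i := (congrArg Subtype.val hi).symm
  have h3 : r ^ i = r ^ (i % 3) := by
    rw [← zpow_mod_orderOf, hr3]
    norm_num
  rw [h3] at hi'
  rcases (show i % 3 = 0 ∨ i % 3 = 1 ∨ i % 3 = 2 by omega) with e | e | e <;> rw [e] at hi'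
  · exfalso
    rw [zpow_zero] at hi'
    rw [conj_eq_one_iff.1 hi', orderOf_one] at hr3
    norm_num at hr3
  · exfalso
    rw [zpow_one] at hi'
    have hd := Subgroup.orderOf_dvd_natCard (R ⊓ centralizer ({(s : G)} : Set G)) (x := r)
      (mem_inf.2 ⟨hr, mem_centralizer_singleton_iff.2 (mul_inv_eq_iff_eq_mul.1 hi').symm⟩)
    rw [h.cent _ s.2 (by rw [Subgroup.orderOf_coe, hso]), hr3] at hd
    norm_num at hd
  · rw [hi']
    refine eq_inv_of_mul_eq_one_left ?_
    rw [show (2 : ℤ) = ((2 : ℕ) : ℤ) from rfl, zpow_natCast, ← pow_succ, show 2 + 1 = orderOf r by omega, pow_orderOf_eq_one]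

/-- An element normalizing `R` and centralizing a four-group of `R` centralizes `R` up to that
four-group. -/
theorem centralize {t u : G} (ht : t ∈ R) (hu : u ∈ R) (ht2 : orderOf t = 2) (hu2 : orderOf u = 2)
    (hc : Commute t u) (hne : t ≠ u) {g : G} (hg : g ∈ normalizer (R : Set G)) (hgt : Commute g t)
    (hgu : Commute g u) :
    ∃ e : G, (e = 1 ∨ e = t ∨ e = u ∨ e = t * u) ∧ ∀ r ∈ R, Commute (e * g) r := by
  classical
  haveI : Fact (Nat.Prime 2) := ⟨Nat.prime_two⟩
  haveI : Fact (Nat.Prime 3) := ⟨Nat.prime_three⟩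
  have ht1 : t * t = 1 := by rw [← pow_two, ← ht2, pow_orderOf_eq_one]
  have hu1 : u * u = 1 := by rw [← pow_two, ← hu2, pow_orderOf_eq_one]
  obtain ⟨P, hP, hPe⟩ := h.exists_sylow
  obtain ⟨ρ, hρR, hρ3, hρt, hρu⟩ := h.exists_three ht hu ht2 hu2 hc hne
  have hfive : Nat.card (Sylow 2 R) ≤ 5 := by
    set S := P ⟨⟨t, ht⟩, ht2⟩ with hS
    have hmul := card_mul_index (normalizer ((S : Subgroup R) : Set R))
    rw [← show Nat.card (Sylow 2 R) = (normalizer ((S : Subgroup R) : Set R)).index from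
      Sylow.card_eq_index_normalizer S, h.card] at hmul
    have h4 : 4 ∣ Nat.card (normalizer ((S : Subgroup R) : Set R)) := by
      have hSc : Nat.card (S : Subgroup R) = 4 := by
        rw [hS, hPe, Nat.card_congr (subgroupOfEquivOfLe inf_le_left).toEquiv, h.cent t ht ht2]
      exact hSc ▸ card_dvd_of_le (le_normalizer (H := (S : Subgroup R)))
    have hρN : (⟨ρ, hρR⟩ : R) ∈ normalizer ((S : Subgroup R) : Set R) := by
      rw [mem_normalizer_iff]
      intro v
      have hv : ∀ w : R, w ∈ (S : Subgroup R) ↔ Commute (w : G) t := fun w => by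
        rw [hS, hPe, mem_subgroupOf, mem_inf, mem_centralizer_singleton_iff]
        exact ⟨fun hh => hh.2, fun hh => ⟨w.2, hh.eq⟩⟩
      rw [hv, hv]
      show Commute (v : G) t ↔ Commute (ρ * (v : G) * ρ⁻¹) t
      constructor
      · intro hh
        have h1 : Commute (ρ * (v : G) * ρ⁻¹) u := hρt ▸ hh.map (MulAut.conj ρ)
        exact h.trans hu hu2 (mul_mem (mul_mem hρR v.2) (inv_mem hρR)) ht h1 hc.symm
      · intro hh
        have h1 := hh.map (MulAut.conj ρ⁻¹)
        simp only [MulAut.conj_apply, inv_inv] at h1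
        rw [show ρ⁻¹ * (ρ * (v : G) * ρ⁻¹) * ρ = v by group] at h1
        have h2 : ρ⁻¹ * t * ρ = t * u := by
          have h5 : ρ * (t * u) * ρ⁻¹ = t := by
            rw [← conj_mul, hρt, hρu, ← mul_assoc, hc.symm.eq, mul_assoc, hu1, mul_one]
          conv_lhs => rw [← h5]
          group
        rw [h2] at h1
        refine h.trans (mul_mem ht hu) (orderOf_eq_prime
          (by rw [hc.mul_pow, pow_two, pow_two, ht1, hu1, one_mul]) fun e => hne
          ((eq_inv_of_mul_eq_one_left e).trans (inv_eq_of_mul_eq_one_right hu1))) v.2 ht h1 ?_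
        exact (Commute.refl t).mul_left hc.symm
    have h3 : 3 ∣ Nat.card (normalizer ((S : Subgroup R) : Set R)) := by
      have := Subgroup.orderOf_dvd_natCard _ hρN
      rwa [Subgroup.orderOf_mk, hρ3] at this
    obtain ⟨c, hc'⟩ := Nat.Coprime.mul_dvd_of_dvd_of_dvd (by norm_num) h4 h3
    rw [hc'] at hmul
    have hcp : 0 < c := by
      rcases c.eq_zero_or_pos with e | e
      · rw [e] at hmul; norm_num at hmul
      · exact e
    nlinarith
  -- an involution outside the four-group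
  obtain ⟨s, hsR, hs2, hst⟩ : ∃ s ∈ R, orderOf s = 2 ∧ ¬ Commute s t := by
    by_contra hall
    push Not at hall
    obtain ⟨z, hz, hz2, hzi⟩ := h.exists_inverter hρR hρ3
    have h1 : Commute (ρ * z * ρ⁻¹) u := hρt ▸ (hall z hz hz2).map (MulAut.conj ρ)
    have h2 : Commute (ρ * z * ρ⁻¹) t :=
      h.trans hu hu2 (mul_mem (mul_mem hρR hz) (inv_mem hρR)) ht h1 hc.symm
    have hz1 : z⁻¹ = z := inv_eq_of_mul_eq_one_right (by rw [← pow_two, ← hz2, pow_orderOf_eq_one])
    have h4 : ρ * z * ρ⁻¹ * z = ρ ^ 2 := by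
      calc ρ * z * ρ⁻¹ * z = ρ * (z * (z * ρ * z⁻¹)) * z := by rw [hzi]; group
        _ = ρ * (z * z) * ρ * (z⁻¹ * z) := by group
        _ = ρ ^ 2 := by
            nth_rw 2 [← hz1]
            rw [mul_inv_cancel, inv_mul_cancel, mul_one, mul_one, pow_two]
    have h5 : Commute (ρ ^ 2) t := h4 ▸ h2.mul_left (hall z hz hz2)
    have h6 : Commute ρ t := by
      have := h5.pow_left 2
      rwa [← pow_mul, show 2 * 2 = 3 + 1 by rfl, pow_succ, ← hρ3, pow_orderOf_eq_one, one_mul] at this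
    rw [h6.eq, mul_inv_cancel_right] at hρt
    exact hne hρt
  have ht0 : t ≠ 1 := fun e => by rw [e, orderOf_one] at ht2; norm_num at ht2
  have hu0 : u ≠ 1 := fun e => by rw [e, orderOf_one] at hu2; norm_num at hu2
  have htu : orderOf (t * u) = 2 := orderOf_eq_prime
    (by rw [hc.mul_pow, pow_two, pow_two, ht1, hu1, one_mul])
    fun e => hne ((eq_inv_of_mul_eq_one_left e).trans (inv_eq_of_mul_eq_one_right hu1))
  let f : Fin 4 → G := ![1, t, u, t * u]
  have hfR : ∀ i, f i ∈ R := fun i => by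
    fin_cases i <;> simp [f, ht, hu, mul_mem ht hu]
  have hfc : ∀ i, Commute (f i) t ∧ f i * f i = 1 ∧ Commute g (f i) := fun i => by
    fin_cases i <;> simp [f]
    · exact ⟨ht1, hgt⟩
    · exact ⟨hc.symm, hu1, hgu⟩
    · exact ⟨(Commute.refl t).mul_left hc.symm, by rw [← pow_two, ← htu, pow_orderOf_eq_one],
        hgt.mul_right hgu⟩
  have hfinv : ∀ i, (f i)⁻¹ = f i := fun i => inv_eq_of_mul_eq_one_right (hfc i).2.1
  have hfcomm : ∀ i j, Commute (f i) (f j) := fun i j =>
    h.comm_cent ht ht2 (hfR i) (hfc i).1 (hfR j) (hfc j).1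
  have hford : ∀ i, f i ≠ 1 → orderOf (f i) = 2 := fun i hi =>
    orderOf_eq_prime (by rw [pow_two, (hfc i).2.1]) hi
  have hfinj : Function.Injective f := by
    have htu0 : t * u ≠ 1 := fun e => by rw [e, orderOf_one] at htu; norm_num at htu
    intro i j e
    fin_cases i <;> fin_cases j <;> simp [f] at e ⊢ <;>
      first | exact (ht0 e).elim | exact (ht0 e.symm).elim | exact (hu0 e).elim
            | exact (hu0 e.symm).elim | exact (htu0 e).elim | exact (htu0 e.symm).elim
            | exact (hne e).elim | exact (hne e.symm).elim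
  have hord : ∀ (a : G) {x : G}, orderOf x = 2 → orderOf (a * x * a⁻¹) = 2 := fun a x hx => by
    rw [← MulAut.conj_apply, MulEquiv.orderOf_eq, hx]
  have hmemC : ∀ (a x : G), a ∈ R → x ∈ R → a * x * a⁻¹ ∈ R := fun a x ha hx =>
    mul_mem (mul_mem ha hx) (inv_mem ha)
  -- moving a class by the four-group
  have hmove : ∀ i, Commute (f i * s * (f i)⁻¹) s → f i = 1 := by
    intro i hi
    by_contra hne1
    have hs' := hord (f i) hs2
    have hsR' := hmemC _ _ (hfR i) hsR
    by_cases he : f i * s * (f i)⁻¹ = s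
    · exact hst (h.trans (hfR i) (hford i hne1) hsR ht (mul_inv_eq_iff_eq_mul.1 he).symm (hfc i).1)
    · set w := f i * s * (f i)⁻¹ * s with hw
      have hw2 : orderOf w = 2 := by
        refine orderOf_eq_prime ?_ fun e1 => he ?_
        · rw [hw, hi.mul_pow, ← hs', pow_orderOf_eq_one, hs', ← hs2, pow_orderOf_eq_one, one_mul]
        · exact (eq_inv_of_mul_eq_one_left e1).trans (inv_eq_of_mul_eq_one_right
            (by rw [← pow_two, ← hs2, pow_orderOf_eq_one]))
      have hfw : Commute (f i) w := by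
        refine mul_inv_eq_iff_eq_mul.1 ?_
        rw [hw, ← conj_mul, show f i * (f i * s * (f i)⁻¹) * (f i)⁻¹ = (f i * f i) * s * (f i * f i)⁻¹ by group,
          (hfc i).2.1, one_mul, inv_one, mul_one, hi.eq]
      have hws : Commute w s := hi.mul_left (Commute.refl s)
      have hwR : w ∈ R := mul_mem hsR' hsR
      exact hst (h.trans (hfR i) (hford i hne1) hsR ht
        (h.trans hwR hw2 (hfR i) hsR hfw hws).symm (hfc i).1)
  let c : Fin 4 → {a : R // orderOf (a : G) = 2} := fun i => ⟨⟨f i * s * (f i)⁻¹, hmemC _ _ (hfR i) hsR⟩, hord _ hs2⟩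
  let a₀ : {a : R // orderOf (a : G) = 2} := ⟨⟨t, ht⟩, ht2⟩
  have hc0 : ∀ i, ¬ Commute (f i * s * (f i)⁻¹) t := fun i hi => hst (by
    have := hi.map (MulAut.conj (f i)⁻¹)
    simp only [MulAut.conj_apply, inv_inv] at this
    rwa [show (f i)⁻¹ * (f i * s * (f i)⁻¹) * f i = s by group,
      show (f i)⁻¹ * t * f i = t by rw [mul_assoc, ← (hfc i).1.eq, inv_mul_cancel_left]] at this)
  let F : Option (Fin 4) → Sylow 2 R := fun o => o.elim (P a₀) fun i => P (c i)
  have hF : Function.Injective F := by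
    rintro (_ | i) (_ | j) e
    · rfl
    · exact absurd ((hP a₀ (c j)).1 e).symm (hc0 j)
    · exact absurd ((hP (c i) a₀).1 e) (hc0 i)
    · have e' : Commute (f i * s * (f i)⁻¹) (f j * s * (f j)⁻¹) :=
        (hP (c i) (c j)).1 e
      have h1 := e'.map (MulAut.conj (f j))
      simp only [MulAut.conj_apply] at h1
      rw [show f j * (f i * s * (f i)⁻¹) * (f j)⁻¹ = (f j * f i) * s * (f j * f i)⁻¹ by group,
        show f j * (f j * s * (f j)⁻¹) * (f j)⁻¹ = (f j * f j) * s * (f j * f j)⁻¹ by group,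
        (hfc j).2.1, one_mul, inv_one, mul_one] at h1
      obtain ⟨k, hk⟩ : ∃ k, f j * f i = f k := by
        rcases h.mem_four ht hu ht2 hu2 hc hne (mul_mem (hfR j) (hfR i))
          ((hfc j).1.mul_left (hfc i).1) with e | e | e | e
        exacts [⟨0, by simp [f, e]⟩, ⟨1, by simp [f, e]⟩, ⟨2, by simp [f, e]⟩, ⟨3, by simp [f, e]⟩]
      rw [hk] at h1
      have h2 := hmove k h1
      rw [← hk] at h2
      rw [hfinj ((eq_inv_of_mul_eq_one_right h2).trans (hfinv j))]
  haveI := Fintype.ofFinite (Sylow 2 R)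
  have hbij : Function.Bijective F := (Fintype.bijective_iff_injective_and_card F).2
    ⟨hF, le_antisymm (Fintype.card_le_of_injective F hF) (by
      rw [← Nat.card_eq_fintype_card]
      simpa using hfive)⟩
  have hclass : ∀ x ∈ R, orderOf x = 2 → ¬ Commute x t →
      ∃ i, Commute x (f i * s * (f i)⁻¹) := by
    intro x hx hx2 hxt
    obtain ⟨o, ho⟩ := hbij.2 (P ⟨⟨x, hx⟩, hx2⟩)
    rcases o with _ | i
    · exact absurd ((hP a₀ ⟨⟨x, hx⟩, hx2⟩).1 ho).symm hxt
    · exact ⟨i, ((hP (c i) ⟨⟨x, hx⟩, hx2⟩).1 ho).symm⟩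
  have hgR : ∀ x, x ∈ R ↔ g * x * g⁻¹ ∈ R := fun x => mem_normalizer_iff.1 hg x
  have hgs : ¬ Commute (g * s * g⁻¹) t := fun hh => hst (by
    have := hh.map (MulAut.conj g⁻¹)
    simp only [MulAut.conj_apply, inv_inv] at this
    rwa [show g⁻¹ * (g * s * g⁻¹) * g = s by group,
      show g⁻¹ * t * g = t by rw [mul_assoc, ← hgt.eq, inv_mul_cancel_left]] at this)
  obtain ⟨i₀, hi₀⟩ := hclass _ ((hgR s).1 hsR) (hord g hs2) hgs
  set e := f i₀ with he
  set k := e * g with hk
  have hkR : ∀ x, x ∈ R → k * x * k⁻¹ ∈ R := fun x hx => by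
    rw [hk, show e * g * x * (e * g)⁻¹ = e * (g * x * g⁻¹) * e⁻¹ by group]
    exact hmemC _ _ (hfR i₀) ((hgR x).1 hx)
  have hkR' : ∀ x, x ∈ R → k⁻¹ * x * k ∈ R := fun x hx => by
    rw [hk, hgR, show g * ((e * g)⁻¹ * x * (e * g)) * g⁻¹ = e⁻¹ * x * e⁻¹⁻¹ by group]
    exact hmemC _ _ (inv_mem (hfR i₀)) hx
  have hkf : ∀ i, k * f i * k⁻¹ = f i := fun i => by
    rw [hk, show e * g * f i * (e * g)⁻¹ = e * (g * f i * g⁻¹) * e⁻¹ by group, (hfc i).2.2.eq,
      mul_inv_cancel_right, (hfcomm i₀ i).eq, mul_inv_cancel_right]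
  have hks : Commute (k * s * k⁻¹) s := by
    have := hi₀.map (MulAut.conj e)
    simp only [MulAut.conj_apply] at this
    rwa [show e * (g * s * g⁻¹) * e⁻¹ = k * s * k⁻¹ by rw [hk]; group,
      show e * (e * s * e⁻¹) * e⁻¹ = (e * e) * s * (e * e)⁻¹ by group, (hfc i₀).2.1, one_mul, inv_one,
      mul_one] at this
  have hfix : ∀ x ∈ R, orderOf x = 2 → Commute (k * x * k⁻¹) x := by
    intro x hx hx2
    by_cases hxt : Commute x t
    · rcases h.mem_four ht hu ht2 hu2 hc hne hx hxt with e1 | e1 | e1 | e1 <;> rw [e1]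
      · simp
      · have := hkf 1; simp [f] at this; rw [this]
      · have := hkf 2; simp [f] at this; rw [this]
      · have := hkf 3; simp [f] at this; rw [this]
    · obtain ⟨i, hi⟩ := hclass x hx hx2 hxt
      set y := f i * s * (f i)⁻¹ with hy
      have hyR := hmemC _ _ (hfR i) hsR
      have hy2 : orderOf y = 2 := hord _ hs2
      have hky : Commute (k * y * k⁻¹) y := by
        have := hks.map (MulAut.conj (f i))
        simp only [MulAut.conj_apply] at this
        rwa [show f i * (k * s * k⁻¹) * (f i)⁻¹ = k * y * k⁻¹ by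
          rw [hy]; conv_lhs => rw [← hkf i]
          group] at this
      exact h.trans hyR hy2 (hkR x hx) hx
        (h.trans (hkR y hyR) (hord k hy2) (hkR x hx) hyR (hi.map (MulAut.conj k)) hky) hi.symm
  -- the kernel of the action on the classes
  let K₀ : Subgroup R :=
    { carrier := {a | ∀ x ∈ R, orderOf x = 2 → Commute ((a : G) * x * (a : G)⁻¹) x}
      one_mem' := fun x _ _ => by simp
      mul_mem' := fun {a b} ha hb x hx hx2 => by
        have h1 := (hb x hx hx2).map (MulAut.conj (a : G))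
        simp only [MulAut.conj_apply] at h1
        rw [show (a : G) * ((b : G) * x * (b : G)⁻¹) * (a : G)⁻¹ = ((a * b : R) : G) * x * ((a * b : R) : G)⁻¹ by
          push_cast; group] at h1
        exact h.trans (hmemC _ _ a.2 hx) (hord _ hx2) (hmemC _ _ (a * b).2 hx) hx h1 (ha x hx hx2)
      inv_mem' := fun {a} ha x hx hx2 => by
        have h1 := (ha ((a : G)⁻¹ * x * a) (mul_mem (mul_mem (inv_mem a.2) hx) a.2)
          (by rw [show (a : G)⁻¹ * x * a = (a : G)⁻¹ * x * ((a : G)⁻¹)⁻¹ by group]; exact hord _ hx2)).symm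
        rw [show (a : G) * ((a : G)⁻¹ * x * a) * (a : G)⁻¹ = x by group] at h1
        simpa using h1 }
  have hK₀n : K₀.Normal := ⟨fun a ha r x hx hx2 => by
    have h1 := (ha ((r : G)⁻¹ * x * r) (mul_mem (mul_mem (inv_mem r.2) hx) r.2)
      (by rw [show (r : G)⁻¹ * x * r = (r : G)⁻¹ * x * ((r : G)⁻¹)⁻¹ by group]; exact hord _ hx2)).map
      (MulAut.conj (r : G))
    simp only [MulAut.conj_apply] at h1
    rw [show (r : G) * ((r : G)⁻¹ * x * r) * (r : G)⁻¹ = x by group] at h1
    rwa [show (r : G) * ((a : G) * ((r : G)⁻¹ * x * r) * (a : G)⁻¹) * (r : G)⁻¹ =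
      ((r * a * r⁻¹ : R) : G) * x * ((r * a * r⁻¹ : R) : G)⁻¹ by push_cast; group] at h1⟩
  have hK₀ : K₀ = ⊥ := (h.simple K₀ hK₀n).resolve_right fun e1 => by
    have h1 : Commute (f 1 * s * (f 1)⁻¹) s := (e1 ▸ mem_top (⟨t, ht⟩ : R) : (⟨t, ht⟩ : R) ∈ K₀) s hsR hs2
    exact ht0 (hmove 1 h1)
  refine ⟨e, ?_, fun r hr => ?_⟩
  · rcases h.mem_four ht hu ht2 hu2 hc hne (hfR i₀) (hfc i₀).1 with e1 | e1 | e1 | e1
    exacts [Or.inl e1, Or.inr (Or.inl e1), Or.inr (Or.inr (Or.inl e1)), Or.inr (Or.inr (Or.inr e1))]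
  have hm : (⟨k * r * k⁻¹ * r⁻¹, mul_mem (hkR r hr) (inv_mem hr)⟩ : R) ∈ K₀ := by
    intro x hx hx2
    -- push the class of `x` through `r⁻¹`, `k⁻¹`, `r` and `k`
    show Commute (k * r * k⁻¹ * r⁻¹ * x * (k * r * k⁻¹ * r⁻¹)⁻¹) x
    set x₁ := r⁻¹ * x * r with hx₁
    have h1R : x₁ ∈ R := mul_mem (mul_mem (inv_mem hr) hx) hr
    have h12 : orderOf x₁ = 2 := by rw [hx₁]; simpa using hord r⁻¹ hx2
    set x₂ := k⁻¹ * x₁ * k with hx₂
    have h2R : x₂ ∈ R := hkR' _ h1R
    have h22 : orderOf x₂ = 2 := by rw [hx₂]; simpa using hord k⁻¹ h12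
    have a1 : Commute x₁ x₂ := by
      have := hfix x₂ h2R h22
      rwa [hx₂, show k * (k⁻¹ * x₁ * k) * k⁻¹ = x₁ by group] at this
    set x₃ := r * x₂ * r⁻¹ with hx₃
    have h3R : x₃ ∈ R := hmemC _ _ hr h2R
    have a2 : Commute x₃ x := by
      have := (a1.symm).map (MulAut.conj r)
      simp only [MulAut.conj_apply] at this
      rwa [hx₁, show r * (r⁻¹ * x * r) * r⁻¹ = x by group] at this
    have a3 : Commute (k * x₃ * k⁻¹) x₃ := hfix x₃ h3R (hord r h22)
    have := h.trans h3R (hord r h22) (hkR _ h3R) hx a3 a2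
    rwa [hx₃, hx₂, hx₁, show k * (r * (k⁻¹ * (r⁻¹ * x * r) * k) * r⁻¹) * k⁻¹ =
      k * r * k⁻¹ * r⁻¹ * x * (k * r * k⁻¹ * r⁻¹)⁻¹ by group] at this
  rw [hK₀, mem_bot] at hm
  have hm' : k * r * k⁻¹ * r⁻¹ = 1 := congrArg Subtype.val hm
  exact mul_inv_eq_iff_eq_mul.1 (mul_inv_eq_one.1 hm')

end Icos

end CfsgLib.JTh
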