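import Cfsg.Agent.Lib.JTh.Four
import Cfsg.Agent.Lib.JTh.Cover
import Cfsg.Agent.Lib.JTh.Icos
import Cfsg.Agent.Lib.Invol.AltEightSubgroups

/-!
# An involution centralizer `2 × PSL(2, q)`, `q ≡ 3, 5 (mod 8)`: centralizers of torus elements

For `v` in the torus `⟨a⟩` centralizing the four-group `V`, either `C(v)` normalizes `V` or there is an
icosahedral subgroup `R ⊇ V` centralizing `⟨a⟩` with `C(v) = R ⟨a⟩` for all such `v`.
-/

set_option autoImplicit false
set_option linter.unusedSectionVars false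

namespace CfsgLib.JTh

open Subgroup
open scoped commutatorElement

universe u

namespace Setup

variable {G : Type u} [Group G] [Finite G] {p q m n : ℕ} (T : Setup G p q m n)

/-- A frame with an element of order three permuting the four-group and fixing `x`. -/
structure Conf (T : Setup G p q m n) where
  F : VFrame T
  τ : G
  u_mem : F.u ∈ T.K
  order_τ : orderOf τ = 3
  τ_t : τ * T.t * τ⁻¹ = F.u
  τ_u : τ * F.u * τ⁻¹ = T.t * F.u
  τ_x : Commute τ F.x

include T in
theorem exists_conf : Nonempty (Conf T) := by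
  obtain ⟨u₀, hu₀⟩ := T.kit.exists_invol
  have hu : orderOf (u₀ : G) = 2 := (Subgroup.orderOf_coe u₀).trans hu₀
  obtain ⟨F, hF⟩ := T.exists_frame hu (T.comm_t _ u₀.2) fun e => T.not_mem (e ▸ u₀.2)
  obtain ⟨τ, h1, h2, h3, e, he, hc⟩ := F.exists_tau
  obtain ⟨x1, x2, x3, x4⟩ := F.mem_outer_mul he
  exact ⟨{ F := { F with x := e * F.x, order_x := x3, x_t := x1, x_u := x2,
                         x_a := F.inverts_of_invol x1 x2 x3 x4 }
           τ := τ, u_mem := hF.symm ▸ u₀.2, order_τ := h1, τ_t := h2, τ_u := h3, τ_x := hc }⟩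

namespace Conf

variable {T} (c : Conf T)

/-- The centralizer `V × ⟨a⟩` of the four-group in the centralizer of `a`. -/
def D : Subgroup G :=
  centralizer ({T.t} : Set G) ⊓ centralizer ({c.F.u} : Set G) ⊓ centralizer ({c.F.a} : Set G)

theorem mem_D {g : G} : g ∈ c.D ↔ Commute g T.t ∧ Commute g c.F.u ∧ Commute g c.F.a := by
  simp only [D, mem_inf, mem_centralizer_singleton_iff, and_assoc]
  rfl

theorem card_D : Nat.card c.D = 4 * m := c.F.card_parts.1

theorem a_mem_K : c.F.a ∈ T.K :=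
  T.mem_K_of_odd c.F.a_t (by rw [c.F.order_a]; exact T.kit.m_odd)

theorem comm_a {g : G} (hg : g = 1 ∨ c.F.InV g) : Commute c.F.a g :=
  hg.elim (fun e => e ▸ Commute.one_right _) c.F.a_comm

theorem inV_mem {g : G} (hg : g = 1 ∨ c.F.InV g) : g ∈ c.D := by
  refine c.mem_D.2 ⟨?_, ?_, (c.comm_a hg).symm⟩ <;> rcases hg with rfl | h
  · exact Commute.one_left _
  · exact h.commute c.F (Or.inl rfl)
  · exact Commute.one_left _
  · exact h.commute c.F (Or.inr (Or.inl rfl))

theorem a_mem_D {v : G} (hv : v ∈ zpowers c.F.a) : v ∈ c.D := by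
  refine (zpowers_le.2 (c.mem_D.2 ⟨c.F.a_t, c.F.a_u, Commute.refl _⟩)) hv

theorem D_form {g : G} (hg : g ∈ c.D) :
    ∃ e : G, (e = 1 ∨ c.F.InV e) ∧ ∃ i : ℤ, g = e * c.F.a ^ i := by
  obtain ⟨ht, hu, ha⟩ := c.mem_D.1 hg
  rcases c.F.struct g ht hu with ⟨e, he, i, h⟩ | ⟨-, h⟩
  · exact ⟨e, he, i, h⟩
  · exact absurd (by rw [← h, ha.eq, mul_inv_cancel_right]) c.F.a_ne_inv

theorem D_comm {g h : G} (hg : g ∈ c.D) (hh : h ∈ c.D) : Commute g h := by
  obtain ⟨e, he, i, rfl⟩ := c.D_form hh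
  obtain ⟨ht, hu, ha⟩ := c.mem_D.1 hg
  refine Commute.mul_right ?_ (ha.zpow_right i)
  rcases he with rfl | rfl | rfl | rfl
  exacts [Commute.one_right _, ht, hu, ht.mul_right hu]

theorem τ_inV {g : G} (hg : c.F.InV g) : c.F.InV (c.τ * g * c.τ⁻¹) :=
  c.F.inV_conj (Or.inr (Or.inl c.τ_t)) (Or.inr (Or.inr c.τ_u)) hg

theorem τ_A {v : G} (hv : v ∈ zpowers c.F.a) : c.τ * v * c.τ⁻¹ ∈ zpowers c.F.a := by
  obtain ⟨i, rfl⟩ := mem_zpowers_iff.1 hv
  rw [← conj_zpow]
  exact zpow_mem (c.F.conj_a_mem (Or.inr (Or.inl c.τ_t)) (Or.inr (Or.inr c.τ_u))) i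

theorem τ_cube (g : G) : c.τ * (c.τ * (c.τ * g * c.τ⁻¹) * c.τ⁻¹) * c.τ⁻¹ = g := by
  calc c.τ * (c.τ * (c.τ * g * c.τ⁻¹) * c.τ⁻¹) * c.τ⁻¹ = c.τ ^ 3 * g * (c.τ ^ 3)⁻¹ := by
        rw [pow_three]; group
    _ = g := by rw [← c.order_τ, pow_orderOf_eq_one, one_mul, inv_one, mul_one]

theorem τ_D {g : G} (hg : g ∈ c.D) : c.τ * g * c.τ⁻¹ ∈ c.D := by
  obtain ⟨e, he, i, rfl⟩ := c.D_form hg
  rw [← conj_mul]
  refine mul_mem (c.inV_mem ?_) (c.a_mem_D (c.τ_A (zpow_mem (mem_zpowers _) i)))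
  rcases he with rfl | he
  · exact Or.inl (by group)
  · exact Or.inr (c.τ_inV he)

theorem τ_tu : c.τ * (T.t * c.F.u) * c.τ⁻¹ = T.t := by
  rw [← conj_mul, c.τ_t, c.τ_u, c.F.u_mul_tu]

/-- The centralizer of an involution of the four-group in the centralizer of `v`. -/
theorem cent_inV {i v g : G} (hi : c.F.InV i) (hv : v ∈ zpowers c.F.a) (hv1 : v ≠ 1)
    (hgi : Commute g i) (hgv : Commute g v) : g ∈ c.D := by
  have base : ∀ v g : G, v ∈ zpowers c.F.a → v ≠ 1 → Commute g T.t → Commute g v → g ∈ c.D := by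
    intro v g hv hv1 hgt hgv
    have hvK : v ∈ T.K := (zpowers_le.2 c.a_mem_K) hv
    have hvm : orderOf v ∣ m := by
      rw [← c.F.order_a, ← Nat.card_zpowers c.F.a]
      exact Subgroup.orderOf_dvd_natCard _ hv
    obtain ⟨w, hw, hC⟩ := T.kit.cent_m (v := (⟨v, hvK⟩ : T.K))
      (fun e => hv1 (congrArg Subtype.val e)) (by rwa [Subgroup.orderOf_mk])
    set H := centralizer ({T.t} : Set G) ⊓ centralizer ({v} : Set G) with hH
    have hcard : Nat.card H = 4 * m := by
      rw [hH, T.card_cent_inf ⟨v, hvK⟩, hC, Nat.card_zpowers, hw]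
      ring
    have hle : c.D ≤ H := fun d hd => mem_inf.2 ⟨mem_centralizer_singleton_iff.2 (c.mem_D.1 hd).1.eq,
      mem_centralizer_singleton_iff.2 (c.D_comm hd (c.a_mem_D hv)).eq⟩
    rw [eq_of_le_of_card_ge hle (by rw [hcard, c.card_D])]
    exact mem_inf.2 ⟨mem_centralizer_singleton_iff.2 hgt.eq, mem_centralizer_singleton_iff.2 hgv.eq⟩
  have step : ∀ j, c.F.InV j → (∀ v g : G, v ∈ zpowers c.F.a → v ≠ 1 →
      Commute g (c.τ * j * c.τ⁻¹) → Commute g v → g ∈ c.D) →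
      ∀ v g : G, v ∈ zpowers c.F.a → v ≠ 1 → Commute g j → Commute g v → g ∈ c.D := by
    intro j _ hj v g hv hv1 hgj hgv
    have h1 := hj _ (c.τ * g * c.τ⁻¹) (c.τ_A hv) (fun e => hv1 (conj_eq_one_iff.1 e))
      (hgj.map (MulAut.conj c.τ)) (hgv.map (MulAut.conj c.τ))
    have h2 := c.τ_D (c.τ_D h1)
    rwa [c.τ_cube] at h2
  have htu := step _ (Or.inr (Or.inr rfl)) (by rw [c.τ_tu]; exact base)
  have hu := step _ (Or.inr (Or.inl rfl)) (by rw [c.τ_u]; exact htu)
  rcases hi with rfl | rfl | rfl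
  exacts [base v g hv hv1 hgi hgv, hu v g hv hv1 hgi hgv, htu v g hv hv1 hgi hgv]

/-- The four-group. -/
def four : Subgroup G where
  carrier := {g | g = 1 ∨ c.F.InV g}
  one_mem' := Or.inl rfl
  mul_mem' := by
    intro a b ha hb
    have k1 : c.F.u * T.t = T.t * c.F.u := c.F.comm_u.eq
    have k2 : c.F.u * (T.t * c.F.u) = T.t := c.F.u_mul_tu
    have k3 : T.t * c.F.u * T.t = c.F.u := by rw [mul_assoc, k1, c.F.t_mul_tu]
    have k4 : T.t * c.F.u * c.F.u = T.t := by rw [mul_assoc, c.F.u_sq, mul_one]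
    have k5 : T.t * c.F.u * (T.t * c.F.u) = 1 := Invol.invol_mul_self c.F.order_tu
    show a * b = 1 ∨ c.F.InV (a * b)
    rcases ha with rfl | rfl | rfl | rfl <;> rcases hb with rfl | rfl | rfl | rfl <;>
      simp [VFrame.InV, T.t_sq, c.F.u_sq, c.F.t_mul_tu, k1, k2, k3, k4, k5]
  inv_mem' := by
    intro a ha
    show a⁻¹ = 1 ∨ c.F.InV a⁻¹
    rcases ha with rfl | ha
    · exact Or.inl inv_one
    · exact Or.inr ((Invol.invol_inv (ha.order c.F)).symm ▸ ha)

theorem mem_four {g : G} : g ∈ c.four ↔ g = 1 ∨ c.F.InV g := Iff.rfl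

theorem four_sq {g : G} (hg : g ∈ c.four) : g * g = 1 := by
  rcases c.mem_four.1 hg with rfl | h
  · exact one_mul 1
  · exact Invol.invol_mul_self (h.order c.F)

theorem four_eq : (c.four : Set G) = {1, T.t, c.F.u, T.t * c.F.u} := rfl

theorem card_four : Nat.card c.four = 4 := by
  classical
  have h0 : T.t ≠ 1 ∧ c.F.u ≠ 1 ∧ T.t * c.F.u ≠ 1 :=
    ⟨Invol.invol_ne_one T.order_t, Invol.invol_ne_one c.F.order_u, Invol.invol_ne_one c.F.order_tu⟩
  show Nat.card ↥(c.four : Set G) = 4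
  rw [c.four_eq, Nat.card_coe_set_eq]
  rw [Set.ncard_insert_of_notMem (by simp [h0.1.symm, h0.2.1.symm, h0.2.2.symm]),
    Set.ncard_insert_of_notMem (by simp [c.F.ne.symm, c.F.tu_ne_t.symm]),
    Set.ncard_insert_of_notMem (by simp [c.F.tu_ne_u.symm]), Set.ncard_singleton]

theorem mem_four_of_D {g : G} (hg : g ∈ c.D) {j : ℕ} (hj : g ^ 2 ^ j = 1) : g ∈ c.four := by
  obtain ⟨e, he, i, rfl⟩ := c.D_form hg
  have hec : Commute e (c.F.a ^ i) := ((c.comm_a he).zpow_left i).symm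
  have he2 : e * e = 1 := c.four_sq he
  have h1 : (c.F.a ^ i) ^ 2 ^ (j + 1) = 1 := by
    have h2 : (e * c.F.a ^ i) ^ 2 ^ (j + 1) = 1 := by rw [pow_succ, pow_mul, hj, one_pow]
    rwa [hec.mul_pow, pow_succ' 2 j, pow_mul e, pow_two e, he2, one_pow, one_mul, ← pow_succ'] at h2
  have h3 : c.F.a ^ i = 1 := orderOf_eq_one_iff.1 (Nat.eq_one_of_dvd_coprimes
    (Nat.Coprime.pow_left _ (Nat.coprime_two_left.2 T.kit.m_odd))
    (orderOf_dvd_of_pow_eq_one h1) (orderOf_dvd_of_pow_eq_one (c.F.a_zpow_pow_m i)))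
  rw [h3, mul_one]
  exact he

section Fixed

variable {v : G} (hv : v ∈ zpowers c.F.a) (hv1 : v ≠ 1)
include hv hv1

theorem four_le_cent : c.four ≤ centralizer ({v} : Set G) := fun _ hg =>
  mem_centralizer_singleton_iff.2 (c.D_comm (c.inV_mem hg) (c.a_mem_D hv)).eq

/-- The four-group is a Sylow subgroup of the centralizer of `v`. -/
theorem exists_sylow_cent : ∃ S : Sylow 2 (centralizer ({v} : Set G)),
    (S : Subgroup (centralizer ({v} : Set G))) = c.four.subgroupOf _ := by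
  haveI : Fact (Nat.Prime 2) := ⟨Nat.prime_two⟩
  set C := centralizer ({v} : Set G)
  refine ⟨{ toSubgroup := c.four.subgroupOf C, isPGroup' := fun g => ⟨1, Subtype.ext (Subtype.ext ?_)⟩,
            is_maximal' := fun {Q} hQ hle => le_antisymm (fun g hg => ?_) hle }, rfl⟩
  · push_cast
    rw [pow_two]
    exact c.four_sq (mem_subgroupOf.1 g.2)
  · have htQ : (⟨T.t, c.four_le_cent hv hv1 (Or.inr (Or.inl rfl))⟩ : C) ∈ Q :=
      hle (mem_subgroupOf.2 (Or.inr (Or.inl rfl)))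
    have h1 := T.comm_of_isPGroup (hQ.map C.subtype) (mem_map_of_mem _ hg) (mem_map_of_mem _ htQ)
    obtain ⟨j, hj⟩ := hQ ⟨g, hg⟩
    exact mem_subgroupOf.2 (c.mem_four_of_D (j := j)
      (c.cent_inV (Or.inl rfl) hv hv1 h1 (mem_centralizer_singleton_iff.1 g.2))
      (congrArg Subtype.val (congrArg Subtype.val hj)))

/-- The odd normal subgroups of the centralizer of `v`. -/
theorem odd_normal_le {M : Subgroup G} (hM : M ≤ centralizer ({v} : Set G))
    (hn : centralizer ({v} : Set G) ≤ normalizer (M : Set G)) (hodd : Odd (Nat.card M)) :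
    M ≤ zpowers c.F.a := by
  haveI : IsMulCommutative c.four :=
    ⟨⟨fun a b => Subtype.ext (c.D_comm (c.inV_mem a.2) (c.inV_mem b.2)).eq⟩⟩
  have hnc : ¬ IsCyclic c.four := by
    intro hcy
    obtain ⟨g, hg⟩ := hcy.exists_generator
    have h1 : orderOf g = 4 := by
      rw [orderOf_eq_card_of_forall_mem_zpowers hg, c.card_four]
    have h2 : orderOf g ∣ 2 := orderOf_dvd_of_pow_eq_one
      (Subtype.ext (by push_cast; rw [pow_two]; exact c.four_sq g.2))
    rw [h1] at h2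
    norm_num at h2
  refine Coprime.le_of_centralizers_le (A := c.four) hnc ((c.four_le_cent hv hv1).trans hn) ?_ ?_
  · rw [c.card_four, show 4 = 2 ^ 2 by norm_num]
    exact Nat.Coprime.pow_left _ (Nat.coprime_two_left.2 hodd)
  · intro b hb hb1 g hg
    obtain ⟨hgM, hgb⟩ := mem_inf.1 hg
    have hgD := c.cent_inV ((c.mem_four.1 hb).resolve_left hb1) hv hv1
      (mem_centralizer_singleton_iff.1 hgb) (mem_centralizer_singleton_iff.1 (hM hgM))
    exact c.F.mem_A_of_odd (c.mem_D.1 hgD).1 (c.mem_D.1 hgD).2.1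
      (hodd.of_dvd_nat (Subgroup.orderOf_dvd_natCard M hgM))

/-- The elements of the centralizer of `v` normalizing the four-group. -/
theorem norm_form {g : G} (hgv : Commute g v) (h1 : c.F.InV (g * T.t * g⁻¹))
    (h2 : c.F.InV (g * c.F.u * g⁻¹)) :
    g ∈ c.D ∨ (Commute c.τ v ∧ ∃ h ∈ c.D, g = c.τ * h ∨ g = c.τ * (c.τ * h)) := by
  have key : ∀ (g : G) (k : G) , Commute g v → (∀ w ∈ zpowers c.F.a, k * w * k⁻¹ ∈ zpowers c.F.a) →
      (k⁻¹ * g) * T.t * (k⁻¹ * g)⁻¹ = T.t → (k⁻¹ * g) * c.F.u * (k⁻¹ * g)⁻¹ = c.F.u →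
      (∀ w ∈ zpowers c.F.a, k * (k * (k * w * k⁻¹) * k⁻¹) * k⁻¹ = w) →
      Commute k v ∧ k⁻¹ * g ∈ c.D := by
    intro g k hg _ ht hu hcube
    set h := k⁻¹ * g with hh
    have hct : Commute h T.t := mul_inv_eq_iff_eq_mul.1 ht
    have hcu : Commute h c.F.u := mul_inv_eq_iff_eq_mul.1 hu
    have hgv' : g * v * g⁻¹ = v := by rw [hg.eq, mul_inv_cancel_right]
    have hkv : k * (h * v * h⁻¹) * k⁻¹ = v := by
      conv_rhs => rw [← hgv']
      rw [hh]; group
    have hh2 : h * v * h⁻¹ = v := by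
      rcases c.F.struct h hct hcu with ⟨e, he, i, hi⟩ | ⟨-, hinv⟩
      · have : Commute h v := c.D_comm (hi ▸ mul_mem (c.inV_mem he) (zpow_mem (c.a_mem_D (mem_zpowers _)) i))
          (c.a_mem_D hv)
        rw [this.eq, mul_inv_cancel_right]
      · exfalso
        obtain ⟨i, rfl⟩ := mem_zpowers_iff.1 hv
        have h1 : h * c.F.a ^ i * h⁻¹ = (c.F.a ^ i)⁻¹ := by rw [← conj_zpow, hinv, inv_zpow]
        rw [h1] at hkv
        have h2 : k * c.F.a ^ i * k⁻¹ = (c.F.a ^ i)⁻¹ := by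
          have := congrArg (·⁻¹) hkv
          simpa [mul_assoc] using this
        have h3 := hcube _ (zpow_mem (mem_zpowers c.F.a) i)
        rw [h2, hkv, h2] at h3
        have h4 : (c.F.a ^ i) ^ 2 = 1 := by
          rw [pow_two]; conv_lhs => arg 1; rw [← h3]
          exact inv_mul_cancel _
        exact hv1 (orderOf_eq_one_iff.1 (Nat.eq_one_of_dvd_coprimes (Nat.coprime_two_left.2 T.kit.m_odd)
          (orderOf_dvd_of_pow_eq_one h4) (orderOf_dvd_of_pow_eq_one (c.F.a_zpow_pow_m i))))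
    rw [hh2] at hkv
    exact ⟨mul_inv_eq_iff_eq_mul.1 hkv, c.cent_inV (Or.inl rfl) hv hv1 hct (mul_inv_eq_iff_eq_mul.1 hh2)⟩
  rcases c.F.perm_cases h1 h2 with ⟨e1, e2⟩ | ⟨e1, e2⟩ | ⟨e1, e2⟩
  · exact Or.inl (c.cent_inV (Or.inl rfl) hv hv1 (mul_inv_eq_iff_eq_mul.1 e1) hgv)
  · obtain ⟨k1, k2⟩ := key g c.τ hgv (fun w hw => c.τ_A hw)
      (by rw [show c.τ⁻¹ * g * T.t * (c.τ⁻¹ * g)⁻¹ = c.τ⁻¹ * (g * T.t * g⁻¹) * c.τ by group, e1, ← c.τ_t]; group)
      (by rw [show c.τ⁻¹ * g * c.F.u * (c.τ⁻¹ * g)⁻¹ = c.τ⁻¹ * (g * c.F.u * g⁻¹) * c.τ by group, e2, ← c.τ_u]; group)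
      fun w _ => c.τ_cube w
    exact Or.inr ⟨k1, _, k2, Or.inl (by group)⟩
  · have ht : c.τ * c.τ * T.t * (c.τ * c.τ)⁻¹ = T.t * c.F.u := by
      rw [show c.τ * c.τ * T.t * (c.τ * c.τ)⁻¹ = c.τ * (c.τ * T.t * c.τ⁻¹) * c.τ⁻¹ by group, c.τ_t, c.τ_u]
    have hu : c.τ * c.τ * c.F.u * (c.τ * c.τ)⁻¹ = T.t := by
      rw [show c.τ * c.τ * c.F.u * (c.τ * c.τ)⁻¹ = c.τ * (c.τ * c.F.u * c.τ⁻¹) * c.τ⁻¹ by group, c.τ_u, c.τ_tu]
    obtain ⟨k1, k2⟩ := key g (c.τ * c.τ) hgv
      (fun w hw => by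
        rw [show c.τ * c.τ * w * (c.τ * c.τ)⁻¹ = c.τ * (c.τ * w * c.τ⁻¹) * c.τ⁻¹ by group]
        exact c.τ_A (c.τ_A hw))
      (by rw [show (c.τ * c.τ)⁻¹ * g * T.t * ((c.τ * c.τ)⁻¹ * g)⁻¹ =
            (c.τ * c.τ)⁻¹ * (g * T.t * g⁻¹) * (c.τ * c.τ) by simp [mul_assoc], e1, ← ht]; group)
      (by rw [show (c.τ * c.τ)⁻¹ * g * c.F.u * ((c.τ * c.τ)⁻¹ * g)⁻¹ =
            (c.τ * c.τ)⁻¹ * (g * c.F.u * g⁻¹) * (c.τ * c.τ) by simp [mul_assoc], e2]
          conv_rhs => rw [← mul_one c.F.u]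
          rw [← hu]; group)
      (fun w _ => by
        calc c.τ * c.τ * (c.τ * c.τ * (c.τ * c.τ * w * (c.τ * c.τ)⁻¹) * (c.τ * c.τ)⁻¹) * (c.τ * c.τ)⁻¹
            = c.τ * (c.τ * (c.τ * (c.τ * (c.τ * (c.τ * w * c.τ⁻¹) * c.τ⁻¹) * c.τ⁻¹) * c.τ⁻¹) * c.τ⁻¹) * c.τ⁻¹ := by
              group
          _ = w := by rw [c.τ_cube, c.τ_cube])
    refine Or.inr ⟨?_, _, k2, Or.inr (by group)⟩
    have h5 := k1.mul_left k1
    have h6 : c.τ * c.τ * (c.τ * c.τ) = c.τ := by
      rw [← pow_two, ← pow_two, ← pow_mul, show 2 * 2 = 3 + 1 by rfl, pow_succ, ← c.order_τ,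
        pow_orderOf_eq_one, one_mul]
    rwa [h6] at h5

end Fixed

/-- The centralizer of `v` normalizes the four-group. -/
def Norm (v : G) : Prop :=
  ∀ g : G, Commute g v → g ∈ c.D ∨ (Commute c.τ v ∧ ∃ h ∈ c.D, g = c.τ * h ∨ g = c.τ * (c.τ * h))

/-- An icosahedral subgroup containing the four-group and centralizing the torus. -/
structure AType (R : Subgroup G) : Prop where
  icos : Icos R
  four_le : c.four ≤ R
  comm_a : ∀ r ∈ R, Commute r c.F.a
  τ_a : Commute c.τ c.F.a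
  cent : ∀ v ∈ zpowers c.F.a, v ≠ 1 → ∀ g : G, Commute g v → ∃ r ∈ R, r * g ∈ c.D

theorem exists_icos {v : G} (hv : v ∈ zpowers c.F.a) (hv1 : v ≠ 1) (hτ : Commute c.τ v)
    (hnn : ¬ c.Norm v) : ∃ R : Subgroup G, Icos R ∧ c.four ≤ R ∧ R ≤ centralizer ({v} : Set G) ∧
      centralizer ({v} : Set G) ≤ normalizer (R : Set G) := by
  classical
  haveI : Fact (Nat.Prime 2) := ⟨Nat.prime_two⟩
  set C := centralizer ({v} : Set G) with hC
  obtain ⟨S, hS⟩ := c.exists_sylow_cent hv hv1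
  have hτC : c.τ ∈ C := mem_centralizer_singleton_iff.2 hτ.eq
  have hnorm : ∀ M : Subgroup C, M.Normal → C ≤ normalizer ((M.map C.subtype : Subgroup G) : Set G) := by
    intro M hM g hg
    rw [mem_normalizer_iff]
    intro y
    constructor
    · rintro ⟨z, hz, rfl⟩
      exact ⟨⟨g, hg⟩ * z * ⟨g, hg⟩⁻¹, hM.conj_mem z hz _, rfl⟩
    · rintro ⟨z, hz, he⟩
      refine ⟨⟨g, hg⟩⁻¹ * z * ⟨g, hg⟩, hM.conj_mem' z hz _, ?_⟩
      rw [Subgroup.coe_subtype] at he ⊢
      push_cast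
      rw [he]; group
  -- a normal subgroup not inside `⟨a⟩` contains the four-group
  have hbig : ∀ M : Subgroup C, M.Normal → ¬ M.map C.subtype ≤ zpowers c.F.a →
      c.four ≤ M.map C.subtype := by
    intro M hM hnle
    have hev : 2 ∣ Nat.card M := by
      by_contra hodd
      exact hnle (c.odd_normal_le hv hv1 (map_subtype_le _) (hnorm M hM) (by
        rw [card_map_of_injective C.subtype_injective]
        exact Nat.odd_iff.2 (Nat.two_dvd_ne_zero.1 hodd)))
    obtain ⟨⟨j, hjM⟩, hjo⟩ := exists_prime_orderOf_dvd_card' 2 hev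
    rw [Subgroup.orderOf_mk] at hjo
    obtain ⟨P, hP⟩ := (IsPGroup.of_card (G := zpowers j) (p := 2) (n := 1)
      (by rw [Nat.card_zpowers, hjo, pow_one])).exists_le_sylow
    obtain ⟨g, hg⟩ := MulAction.exists_smul_eq C P S
    have h1 : g * j * g⁻¹ ∈ (S : Subgroup C) := by
      rw [← hg, Sylow.coe_subgroup_smul]
      exact mem_map_of_mem _ (hP (mem_zpowers j))
    rw [hS, mem_subgroupOf] at h1
    set M' := M.map C.subtype with hM'
    have hiM : ((g * j * g⁻¹ : C) : G) ∈ M' := ⟨_, hM.conj_mem j hjM g, rfl⟩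
    have hiV : c.F.InV ((g * j * g⁻¹ : C) : G) := by
      refine (c.mem_four.1 h1).resolve_left fun e => ?_
      have : g * j * g⁻¹ = 1 := Subtype.ext e
      rw [conj_eq_one_iff.1 this, orderOf_one] at hjo
      norm_num at hjo
    have hτM : ∀ y ∈ M', c.τ * y * c.τ⁻¹ ∈ M' := fun y hy =>
      (mem_normalizer_iff.1 (hnorm M hM hτC) y).1 hy
    rintro y (rfl | hy)
    · exact one_mem _
    · rcases hiV with e | e | e <;> rw [e] at hiM <;>
        have h2 := hτM _ hiM <;> have h3 := hτM _ h2 <;>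
        simp only [c.τ_t, c.τ_u, c.τ_tu] at h2 h3 <;> rcases hy with rfl | rfl | rfl <;> assumption
  -- the last term of the derived series
  obtain ⟨k, hk⟩ : ∃ k, ∀ j, Nat.card (derivedSeries C k) ≤ Nat.card (derivedSeries C j) := by
    have hex : ∃ i, ∃ k, Nat.card (derivedSeries C k) = i := ⟨_, 0, rfl⟩
    obtain ⟨k, hk⟩ := Nat.find_spec hex
    exact ⟨k, fun j => hk.symm ▸ Nat.find_min' hex ⟨j, rfl⟩⟩
  set K := derivedSeries C k with hK
  haveI hKn : K.Normal := derivedSeries_normal C k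
  have he : ⁅K, K⁆ = K := by
    rw [hK, ← derivedSeries_succ]
    exact eq_of_le_of_card_ge (derivedSeries_antitone C (Nat.le_succ k)) (hk (k + 1))
  have hKbig : ¬ K.map C.subtype ≤ zpowers c.F.a := by
    intro hle
    refine hnn fun g hgv => ?_
    -- some term lies in the torus
    have hex : ∃ j, (derivedSeries C j).map C.subtype ≤ zpowers c.F.a := ⟨k, hle⟩
    have hj0 : Nat.find hex ≠ 0 := fun e => by
      have h1 := Nat.find_spec hex
      rw [e, derivedSeries_zero] at h1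
      have h2 : T.t ∈ zpowers c.F.a :=
        h1 ⟨⟨T.t, c.four_le_cent hv hv1 (Or.inr (Or.inl rfl))⟩, mem_top _, rfl⟩
      have h3 : orderOf T.t ∣ m := by
        have := Subgroup.orderOf_dvd_natCard _ h2
        rwa [Nat.card_zpowers, c.F.order_a] at this
      rw [T.order_t] at h3
      exact T.kit.two_not_m h3
    obtain ⟨j, hj⟩ := Nat.exists_eq_succ_of_ne_zero hj0
    have h1 := Nat.find_spec hex
    rw [hj, derivedSeries_succ] at h1
    set M := derivedSeries C j with hM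
    have hMn : M.Normal := derivedSeries_normal C j
    have hV := hbig M hMn (Nat.find_min hex (show j < Nat.find hex by omega))
    have hperm : ∀ i, c.F.InV i → c.F.InV (g * i * g⁻¹) := by
      intro i hi
      obtain ⟨zi, hzi, hzie⟩ := hV (Or.inr hi)
      have hzi2 : orderOf zi = 2 := by
        rw [← Subgroup.orderOf_coe, show (zi : G) = i from hzie, hi.order c.F]
      have hgC : g ∈ C := mem_centralizer_singleton_iff.2 hgv.eq
      set s : C := ⟨g, hgC⟩ * zi * ⟨g, hgC⟩⁻¹ with hs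
      have hsM : s ∈ M := hMn.conj_mem zi hzi _
      have hs2 : orderOf s = 2 := by rw [hs, ← MulAut.conj_apply, MulEquiv.orderOf_eq, hzi2]
      -- the four-group is Sylow in `M`
      have hSM : (S : Subgroup C) ≤ M := by
        intro y hy
        rw [hS, mem_subgroupOf] at hy
        obtain ⟨z, hz, hze⟩ := hV hy
        rwa [show y = z from Subtype.ext hze.symm]
      obtain ⟨P, hP⟩ := (IsPGroup.of_card (G := zpowers (⟨s, hsM⟩ : M)) (p := 2) (n := 1)
        (by rw [Nat.card_zpowers, Subgroup.orderOf_mk, hs2, pow_one])).exists_le_sylow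
      obtain ⟨d, hd⟩ := MulAction.exists_smul_eq M P (S.subtype hSM)
      have hd1 : d * ⟨s, hsM⟩ * d⁻¹ ∈ ((S.subtype hSM : Sylow 2 M) : Subgroup M) := by
        rw [← hd, Sylow.coe_subgroup_smul]
        exact mem_map_of_mem _ (hP (mem_zpowers _))
      rw [Sylow.coe_subtype, mem_subgroupOf, hS, mem_subgroupOf] at hd1
      push_cast at hd1
      have hcomm : ((d : C) : G) * (s : G) * ((d : C) : G)⁻¹ * (s : G)⁻¹ ∈ zpowers c.F.a :=
        h1 ⟨(d : C) * s * (d : C)⁻¹ * s⁻¹, commutator_mem_commutator d.2 hsM, rfl⟩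
      obtain ⟨l, hl⟩ := mem_zpowers_iff.1 hcomm
      have hsD : (s : G) ∈ c.D := by
        have : (s : G) = (c.F.a ^ l)⁻¹ * (((d : C) : G) * (s : G) * ((d : C) : G)⁻¹) := by
          rw [hl]; group
        rw [this]
        exact mul_mem (inv_mem (c.a_mem_D (zpow_mem (mem_zpowers _) l))) (c.inV_mem hd1)
      have hs3 : orderOf (s : G) = 2 := by rw [Subgroup.orderOf_coe, hs2]
      have h4 := c.mem_four_of_D hsD (j := 1) (by rw [pow_one, ← hs3, pow_orderOf_eq_one])
      have hse : (s : G) = g * i * g⁻¹ := by rw [hs, ← show (zi : G) = i from hzie]; push_cast; rfl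
      exact hse ▸ (c.mem_four.1 h4).resolve_left (Invol.invol_ne_one hs3)
    exact c.norm_form hv hv1 hgv (hperm _ (Or.inl rfl)) (hperm _ (Or.inr (Or.inl rfl)))
  set R := K.map C.subtype with hR
  have hVR := hbig K hKn hKbig
  haveI : Group.IsPerfect K := by
    rw [Group.isPerfect_def]
    refine Subgroup.map_injective K.subtype_injective ?_
    rw [← MonoidHom.range_eq_map, range_subtype, Subgroup.map_subtype_commutator]
    exact he
  -- the odd core is central
  set O := (Cfsg.oddCore K).map K.subtype with hO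
  haveI : (Cfsg.oddCore K).Characteristic := CfsgLib.Coprime.pPrimeCore_characteristic 2
  haveI hOn : O.Normal := ConjAct.normal_of_characteristic_of_normal
  have hOA : O.map C.subtype ≤ zpowers c.F.a := c.odd_normal_le hv hv1 (map_subtype_le _) (hnorm O hOn)
    (by rw [card_map_of_injective C.subtype_injective, hO, card_map_of_injective K.subtype_injective]
        exact GW.odd_oddCore K)
  haveI : IsCyclic O := by
    haveI : IsCyclic (O.map C.subtype) := isCyclic_of_injective (inclusion hOA) (inclusion_injective hOA)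
    exact isCyclic_of_injective (O.equivMapOfInjective C.subtype C.subtype_injective).toMonoidHom
      (MulEquiv.injective _)
  have hKO : K ≤ centralizer (O : Set C) := by
    rw [← he, commutator_le]
    intro g _ h _
    rw [mem_centralizer_iff]
    intro o ho
    obtain ⟨o₀, hgen⟩ := IsCyclic.exists_generator (α := O)
    have hact : ∀ x : C, ∃ i : ℤ, ∀ y ∈ O, x * y * x⁻¹ = y ^ i := by
      intro x
      obtain ⟨i, hi⟩ := mem_zpowers_iff.1 (hgen ⟨x * o₀ * x⁻¹, hOn.conj_mem _ o₀.2 x⟩)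
      refine ⟨i, fun y hy => ?_⟩
      obtain ⟨l, hl⟩ := mem_zpowers_iff.1 (hgen ⟨y, hy⟩)
      have hl' : (o₀ : C) ^ l = y := congrArg Subtype.val hl
      have hi' : (o₀ : C) ^ i = x * o₀ * x⁻¹ := congrArg Subtype.val hi
      rw [← hl', ← conj_zpow, ← hi', ← zpow_mul, ← zpow_mul, mul_comm]
    obtain ⟨i, hi⟩ := hact g
    obtain ⟨l, hl⟩ := hact h
    set y := (h * g)⁻¹ * o * (h * g) with hy
    have hyO : y ∈ O := hOn.conj_mem' o ho (h * g)
    have h5 : g * h * y * (g * h)⁻¹ = h * g * y * (h * g)⁻¹ := by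
      rw [show g * h * y * (g * h)⁻¹ = g * (h * y * h⁻¹) * g⁻¹ by group, hl y hyO,
        hi _ (zpow_mem hyO l), show h * g * y * (h * g)⁻¹ = h * (g * y * g⁻¹) * h⁻¹ by group, hi y hyO,
        hl _ (zpow_mem hyO i), ← zpow_mul, ← zpow_mul, mul_comm]
    rw [hy, show g * h * ((h * g)⁻¹ * o * (h * g)) * (g * h)⁻¹ = ⁅g, h⁆ * o * ⁅g, h⁆⁻¹ by
      rw [commutatorElement_def]; group,
      show h * g * ((h * g)⁻¹ * o * (h * g)) * (h * g)⁻¹ = o by group] at h5
    exact (mul_inv_eq_iff_eq_mul.1 h5).symm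
  have hcen : Cfsg.oddCore K ≤ center K := fun o ho => mem_center_iff.2 fun g => Subtype.ext
    (mem_centralizer_iff.1 (hKO g.2) _ (mem_map_of_mem K.subtype ho)).symm
  have hVC := c.four_le_cent hv hv1
  have hSK : (S : Subgroup C) ≤ K := by
    intro y hy
    rw [hS, mem_subgroupOf] at hy
    obtain ⟨z, hz, hze⟩ := hVR hy
    rwa [show y = z from Subtype.ext hze.symm]
  have hSc : Nat.card (S : Subgroup C) = 4 := by
    rw [hS, Nat.card_congr (subgroupOfEquivOfLe hVC).toEquiv, c.card_four]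
  have h4 : IsKleinFour ((S.subtype hSK : Sylow 2 K) : Subgroup K) := by
    have hc4 : Nat.card ((S.subtype hSK : Sylow 2 K) : Subgroup K) = 4 := by
      rw [Sylow.coe_subtype, Nat.card_congr (subgroupOfEquivOfLe hSK).toEquiv, hSc]
    refine ⟨hc4, ?_⟩
    haveI : Nontrivial ((S.subtype hSK : Sylow 2 K) : Subgroup K) :=
      Finite.one_lt_card_iff_nontrivial.1 (by omega)
    rw [Monoid.exponent_eq_prime_iff Nat.prime_two]
    intro g hg
    obtain ⟨g, hgm⟩ := g
    refine orderOf_eq_prime (Subtype.ext (Subtype.ext (Subtype.ext ?_))) hg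
    have h1 : (g : C) ∈ (S : Subgroup C) := by
      have := hgm
      rwa [Sylow.coe_subtype, mem_subgroupOf] at this
    rw [hS, mem_subgroupOf] at h1
    push_cast
    rw [pow_two]
    exact c.four_sq h1
  have hcomm : ∀ i : K, orderOf i = 2 → ∀ a b : K, a * i = i * a → b * i = i * b → a * b = b * a := by
    intro i hi a b ha hb
    obtain ⟨P, hP⟩ := (IsPGroup.of_card (G := zpowers (i : C)) (p := 2) (n := 1)
      (by rw [Nat.card_zpowers, Subgroup.orderOf_coe, hi, pow_one])).exists_le_sylow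
    obtain ⟨g, hg⟩ := MulAction.exists_smul_eq C P S
    have h1 : g * (i : C) * g⁻¹ ∈ (S : Subgroup C) := by
      rw [← hg, Sylow.coe_subgroup_smul]
      exact mem_map_of_mem _ (hP (mem_zpowers _))
    rw [hS, mem_subgroupOf] at h1
    have hV1 : c.F.InV ((g * (i : C) * g⁻¹ : C) : G) := by
      refine (c.mem_four.1 h1).resolve_left fun e => ?_
      have h7 : g * (i : C) * g⁻¹ = 1 := Subtype.ext e
      have h8 : i = 1 := Subtype.ext (conj_eq_one_iff.1 h7)
      rw [h8, orderOf_one] at hi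
      norm_num at hi
    have hD : ∀ y : K, y * i = i * y → ((g * (y : C) * g⁻¹ : C) : G) ∈ c.D := fun y hy =>
      c.cent_inV hV1 hv hv1
        (congrArg Subtype.val ((show Commute (y : C) (i : C) from congrArg Subtype.val hy).map
          (MulAut.conj g)).eq)
        (mem_centralizer_singleton_iff.1 (g * (y : C) * g⁻¹).2)
    have h9 : Commute (g * (a : C) * g⁻¹) (g * (b : C) * g⁻¹) :=
      Subtype.ext (c.D_comm (hD a ha) (hD b hb)).eq
    have h10 := h9.map (MulAut.conj g⁻¹)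
    simp only [MulAut.conj_apply, inv_inv] at h10
    rw [show g⁻¹ * (g * (a : C) * g⁻¹) * g = (a : C) by group,
      show g⁻¹ * (g * (b : C) * g⁻¹) * g = (b : C) by group] at h10
    exact Subtype.ext h10.eq
  obtain ⟨hcard, F, i1, i2, hF5, ⟨e⟩⟩ := exists_psl_five (S.subtype hSK) h4 hcomm hcen
  let f := K.equivMapOfInjective C.subtype C.subtype_injective
  have hRc : Nat.card R = 60 := by rw [hR, card_map_of_injective C.subtype_injective, hcard]
  refine ⟨R, ⟨hRc, ?_, ?_⟩, hVR, map_subtype_le _, hnorm K hKn⟩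
  · haveI : Group.IsPerfect R := Group.IsPerfect.ofSurjective (f := f.toMonoidHom) f.surjective
    have hns : ¬ Group.IsSolvable R := fun hs => by
      haveI := hs
      haveI : Nontrivial R := Finite.one_lt_card_iff_nontrivial.1 (by omega)
      exact (Group.IsSolvable.commutator_lt_top_of_nontrivial R).ne (Group.isPerfect_def.1 inferInstance)
    obtain ⟨e5⟩ := Invol.AltEightSubgroups.alt_five_of_card_sixty hns hRc
    haveI : IsSimpleGroup (alternatingGroup (Fin 5)) := alternatingGroup.isSimpleGroup_five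
    haveI : Nontrivial R := Finite.one_lt_card_iff_nontrivial.1 (by omega)
    haveI := IsSimpleGroup.isSimpleGroup_of_surjective e5.symm.toMonoidHom e5.symm.surjective
    exact fun N hN => hN.eq_bot_or_eq_top
  · intro s hs hs2
    let w := e (f.symm ⟨s, hs⟩)
    have hw : orderOf w = 2 := by rw [MulEquiv.orderOf_eq, MulEquiv.orderOf_eq, Subgroup.orderOf_mk, hs2]
    have h := GW.card_cent_psl (F := F) (by rw [hF5]; decide) w hw
    rw [hF5, show GW.invCard 5 = 4 by decide] at h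
    rw [← h]
    refine Nat.card_congr
      { toFun := fun y => ⟨e (f.symm ⟨y.1, y.2.1⟩), ?_⟩
        invFun := fun y => ⟨(f (e.symm y.1) : G), (f (e.symm y.1)).2, ?_⟩
        left_inv := fun y => Subtype.ext (by simp)
        right_inv := fun y => Subtype.ext (by simp) }
    · rw [mem_centralizer_singleton_iff, ← map_mul, ← map_mul, ← map_mul, ← map_mul]
      congr 2
      exact Subtype.ext (mem_centralizer_singleton_iff.1 y.2.2)
    · refine mem_centralizer_singleton_iff.2 ?_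
      have h2 := congrArg (fun z => ((f (e.symm z)) : G)) (mem_centralizer_singleton_iff.1 y.2)
      simpa [w] using h2

include c in
/-- The two shapes of the centralizers of the torus elements. -/
theorem norm_or_atype :
    (∀ v ∈ zpowers c.F.a, v ≠ 1 → c.Norm v) ∨ ∃ R : Subgroup G, c.AType R := by
  classical
  haveI : Fact (Nat.Prime 2) := ⟨Nat.prime_two⟩
  by_cases hall : ∀ v ∈ zpowers c.F.a, v ≠ 1 → c.Norm v
  · exact Or.inl hall
  push Not at hall
  obtain ⟨v, hv, hv1, hnn⟩ := hall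
  -- first the element `τ` centralizes `v`
  have hτof : ∀ w ∈ zpowers c.F.a, w ≠ 1 → ¬ c.Norm w → Commute c.τ w := by
    intro w hw hw1 hnw
    by_contra hτ
    refine hnw fun g hg => Or.inl ?_
    set C := centralizer ({w} : Set G) with hC
    obtain ⟨S, hS⟩ := c.exists_sylow_cent hw hw1
    obtain ⟨P', N, hN, hcomp⟩ := Fusion.hasNormalPComplement_of_normalizer_le_centralizer S (by
      intro x hx
      rw [mem_centralizer_iff]
      intro y hy
      have hperm : ∀ i, c.F.InV i → c.F.InV ((x : G) * i * (x : G)⁻¹) := by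
        intro i hi
        have hiC : i ∈ C := c.four_le_cent hw hw1 (Or.inr hi)
        have h1 := (mem_normalizer_iff.1 hx ⟨i, hiC⟩).1 (by rw [hS, mem_subgroupOf]; exact Or.inr hi)
        rw [hS, mem_subgroupOf] at h1
        refine (c.mem_four.1 h1).resolve_left fun e => ?_
        push_cast at e
        exact Invol.invol_ne_one (hi.order c.F) (conj_eq_one_iff.1 e)
      have hxD := (c.norm_form hw hw1 (mem_centralizer_singleton_iff.1 x.2) (hperm _ (Or.inl rfl))
        (hperm _ (Or.inr (Or.inl rfl)))).resolve_right fun h => hτ h.1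
      replace hy : y ∈ (S : Subgroup C) := hy
      rw [hS, mem_subgroupOf] at hy
      exact Subtype.ext (c.D_comm (c.inV_mem hy) hxD).eq)
    obtain ⟨⟨⟨n₁, hn₁⟩, ⟨s₁, hs₁⟩⟩, hns⟩ :=
      hcomp.existsUnique (⟨g, mem_centralizer_singleton_iff.2 hg.eq⟩ : C) |>.exists
    haveI := hN
    have hodd : Odd (Nat.card N) := by
      have h1 := hcomp.symm.index_eq_card
      rw [Nat.odd_iff, ← Nat.two_dvd_ne_zero, ← hcomp.index_eq_card]
      exact P'.not_dvd_index
    have hNA : N.map C.subtype ≤ zpowers c.F.a := by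
      refine c.odd_normal_le hw hw1 (map_subtype_le _) ?_
        (by rw [card_map_of_injective C.subtype_injective]; exact hodd)
      intro x hx
      rw [mem_normalizer_iff]
      intro y
      constructor
      · rintro ⟨z, hz, rfl⟩
        exact ⟨⟨x, hx⟩ * z * ⟨x, hx⟩⁻¹, hN.conj_mem z hz _, rfl⟩
      · rintro ⟨z, hz, he⟩
        refine ⟨⟨x, hx⟩⁻¹ * z * ⟨x, hx⟩, hN.conj_mem' z hz _, ?_⟩
        rw [Subgroup.coe_subtype] at he ⊢
        push_cast
        rw [he]; group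
    have hn₁D : (n₁ : G) ∈ c.D := c.a_mem_D (hNA ⟨n₁, hn₁, rfl⟩)
    obtain ⟨d, hd⟩ := MulAction.exists_smul_eq C S P'
    rw [← hd, Sylow.coe_subgroup_smul] at hs₁
    obtain ⟨z, hz, hze⟩ := hs₁
    -- `d` is itself in `N S`
    have hzD : (z : G) ∈ c.D := by
      have : z ∈ (S : Subgroup C) := hz
      rw [hS, mem_subgroupOf] at this
      exact c.inV_mem this
    have hsplit : g = (n₁ : G) * (s₁ : G) := (congrArg Subtype.val hns).symm
    rw [hsplit]
    refine mul_mem hn₁D ?_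
    have hs₁e : (s₁ : G) = (d : G) * (z : G) * (d : G)⁻¹ := by
      rw [← hze]; rfl
    -- conjugation inside `C` fixes the four-group modulo `N`
    have hc : d * z * d⁻¹ * z⁻¹ ∈ N := by
      haveI : IsMulCommutative (P' : Subgroup C) := ⟨⟨fun a b => by
        have key : ∀ y : (P' : Subgroup C), ∃ z' : C, (z' : G) ∈ c.D ∧ (y : C) = d * z' * d⁻¹ := by
          rintro ⟨y, hy0⟩
          have hy := hy0
          rw [← hd, Sylow.coe_subgroup_smul] at hy
          obtain ⟨z', hz', hze'⟩ := hy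
          have : z' ∈ (S : Subgroup C) := hz'
          rw [hS, mem_subgroupOf] at this
          exact ⟨z', c.inV_mem this, hze'.symm⟩
        obtain ⟨za, hza, hea⟩ := key a
        obtain ⟨zb, hzb, heb⟩ := key b
        have hab : za * zb = zb * za := Subtype.ext (c.D_comm hza hzb).eq
        apply Subtype.ext
        push_cast
        rw [hea, heb, conj_mul, conj_mul, hab]⟩⟩
      rw [← QuotientGroup.eq_one_iff, QuotientGroup.mk_mul, QuotientGroup.mk_mul, QuotientGroup.mk_mul,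
        QuotientGroup.mk_inv, QuotientGroup.mk_inv]
      have hcq : IsMulCommutative (C ⧸ N) := by
        obtain e := (hcomp.symm.QuotientMulEquiv)
        exact ⟨⟨fun a b => e.injective (by rw [map_mul, map_mul]; exact mul_comm' _ _)⟩⟩
      rw [hcq.is_comm.comm (d : C ⧸ N) z, mul_inv_cancel_right, mul_inv_cancel]
    have h6 : (d : G) * (z : G) * (d : G)⁻¹ * (z : G)⁻¹ ∈ c.D := c.a_mem_D (hNA ⟨_, hc, rfl⟩)
    rw [hs₁e]
    have := mul_mem h6 hzD
    rwa [inv_mul_cancel_right] at this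
  obtain ⟨R, hR, hVR, hRC, hCR⟩ := c.exists_icos hv hv1 (hτof v hv hv1 hnn) hnn
  have htR : T.t ∈ R := hVR (Or.inr (Or.inl rfl))
  have huR : c.F.u ∈ R := hVR (Or.inr (Or.inr (Or.inl rfl)))
  -- `R` centralizes the torus
  have hRa : ∀ r ∈ R, Commute r c.F.a := by
    have haC : c.F.a ∈ centralizer ({v} : Set G) :=
      mem_centralizer_singleton_iff.2 (c.D_comm (c.a_mem_D (mem_zpowers _)) (c.a_mem_D hv)).eq
    obtain ⟨e, he, hc⟩ := hR.centralize htR huR T.order_t c.F.order_u c.F.comm_u.symm c.F.ne.symm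
      (hCR haC) c.F.a_t c.F.a_u
    intro r hr
    have he' : e ∈ c.four := he
    have h2 : Commute (c.F.a ^ 2) r := by
      have h := (hc r hr).mul_left (hc r hr)
      rwa [show e * c.F.a * (e * c.F.a) = e * (c.F.a * e) * c.F.a by group, (c.comm_a he').eq,
        show e * (e * c.F.a) * c.F.a = e * e * (c.F.a * c.F.a) by group, c.four_sq he', one_mul,
        ← pow_two] at h
    obtain ⟨j, hj⟩ := T.kit.m_odd
    have h3 := h2.pow_left (j + 1)
    rw [← pow_mul, show 2 * (j + 1) = m + 1 by omega, pow_succ, c.F.a_pow_m, one_mul] at h3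
    exact h3.symm
  have hRw : ∀ w ∈ zpowers c.F.a, R ≤ centralizer ({w} : Set G) := fun w hw r hr => by
    obtain ⟨i, rfl⟩ := mem_zpowers_iff.1 hw
    exact mem_centralizer_singleton_iff.2 ((hRa r hr).zpow_right i).eq
  obtain ⟨r₃, hr₃, hr₃o, hr₃t, hr₃u⟩ :=
    hR.exists_three htR huR T.order_t c.F.order_u c.F.comm_u.symm c.F.ne.symm
  obtain ⟨s, hs, hs2, hst⟩ : ∃ s ∈ R, orderOf s = 2 ∧ ¬ Commute s T.t := by
    by_contra hall
    push Not at hall
    obtain ⟨z, hz, hz2, hzi⟩ := hR.exists_inverter hr₃ hr₃o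
    have hz1 : z⁻¹ = z := Invol.invol_inv hz2
    have h1 : Commute (r₃ * z * r₃⁻¹) c.F.u := hr₃t ▸ (hall z hz hz2).map (MulAut.conj r₃)
    have h2 : Commute (r₃ * z * r₃⁻¹) T.t :=
      hR.trans huR c.F.order_u (mul_mem (mul_mem hr₃ hz) (inv_mem hr₃)) htR h1 c.F.comm_u
    have h4 : r₃ * z * r₃⁻¹ * z = r₃ ^ 2 := by
      calc r₃ * z * r₃⁻¹ * z = r₃ * (z * (z * r₃ * z⁻¹)) * z := by rw [hzi]; group
        _ = r₃ * (z * z) * r₃ * (z⁻¹ * z) := by group
        _ = r₃ ^ 2 := by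
            nth_rw 2 [← hz1]
            rw [mul_inv_cancel, inv_mul_cancel, mul_one, mul_one, pow_two]
    have h6 : Commute r₃ T.t := by
      have := (h4 ▸ h2.mul_left (hall z hz hz2) : Commute (r₃ ^ 2) T.t).pow_left 2
      rwa [← pow_mul, show 2 * 2 = 3 + 1 by rfl, pow_succ, ← hr₃o, pow_orderOf_eq_one, one_mul] at this
    rw [h6.eq, mul_inv_cancel_right] at hr₃t
    exact c.F.ne hr₃t.symm
  -- no centralizer of a torus element normalizes the four-group
  have hnnw : ∀ w ∈ zpowers c.F.a, w ≠ 1 → ¬ c.Norm w := by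
    intro w hw hw1 hN
    rcases hN s (mem_centralizer_singleton_iff.1 (hRw w hw hs)) with h | ⟨-, h, hh, hcase⟩
    · exact hst (c.mem_D.1 h).1
    · have hDf : h * T.t * h⁻¹ = T.t := by rw [(c.mem_D.1 hh).1.eq, mul_inv_cancel_right]
      have hne : s * T.t * s⁻¹ = c.F.u ∨ s * T.t * s⁻¹ = T.t * c.F.u := by
        rcases hcase with e | e <;> rw [e]
        · left
          rw [show c.τ * h * T.t * (c.τ * h)⁻¹ = c.τ * (h * T.t * h⁻¹) * c.τ⁻¹ by group, hDf, c.τ_t]
        · right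
          rw [show c.τ * (c.τ * h) * T.t * (c.τ * (c.τ * h))⁻¹ =
            c.τ * (c.τ * (h * T.t * h⁻¹) * c.τ⁻¹) * c.τ⁻¹ by group, hDf, c.τ_t, c.τ_u]
      -- an involution commuting with its image of `t`
      have hcs : Commute (s * T.t * s⁻¹) T.t := by
        rcases hne with e | e <;> rw [e]
        · exact c.F.comm_u
        · exact (Commute.refl T.t).mul_left c.F.comm_u
      have hsinv := Invol.invol_inv hs2
      rw [hsinv] at hcs
      have hord : orderOf (s * T.t) ∣ 4 := by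
        refine orderOf_dvd_of_pow_eq_one ?_
        calc (s * T.t) ^ 4 = (s * T.t * s * T.t) * (s * T.t * s * T.t) := by
              rw [show (4 : ℕ) = 2 + 2 by rfl, pow_add, pow_two]; group
          _ = (T.t * (s * T.t * s)) * (s * T.t * s * T.t) := by rw [hcs.eq]
          _ = T.t * (s * T.t * s * (s * T.t * s)) * T.t := by group
          _ = 1 := by
              rw [show s * T.t * s * (s * T.t * s) = s * T.t * (s * s) * T.t * s by group,
                Invol.invol_mul_self hs2, mul_one, show s * T.t * T.t * s = s * (T.t * T.t) * s by group,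
                T.t_sq, mul_one, Invol.invol_mul_self hs2, mul_one, T.t_sq]
      rcases (Nat.dvd_prime_pow Nat.prime_two).1 (show orderOf (s * T.t) ∣ 2 ^ 2 from hord) with ⟨j, hj, hj'⟩
      interval_cases j
      · exact hst (by rw [eq_inv_of_mul_eq_one_left (orderOf_eq_one_iff.1 hj')]; exact (Commute.refl _).inv_left)
      · rw [pow_one] at hj'
        refine hst (show s * T.t = T.t * s from ?_)
        rw [← Invol.invol_inv hj', mul_inv_rev, Invol.invol_inv T.order_t, hsinv]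
      · exact T.not_four_dvd _ (by rw [hj']; norm_num)
  have hτa : Commute c.τ c.F.a := hτof _ (mem_zpowers _)
    (fun e => by have := c.F.order_a; rw [e, orderOf_one] at this; have := T.kit.one_lt_m; omega)
    (hnnw _ (mem_zpowers _) fun e => by
      have := c.F.order_a; rw [e, orderOf_one] at this; have := T.kit.one_lt_m; omega)
  refine Or.inr ⟨R, hR, hVR, hRa, hτa, fun w hw hw1 g hg => ?_⟩
  obtain ⟨R', hR', hVR', hR'C, hCR'⟩ := c.exists_icos hw hw1 (hτof w hw hw1 (hnnw w hw hw1)) (hnnw w hw hw1)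
  -- `R' = R`
  set C := centralizer ({w} : Set G)
  have htR' : T.t ∈ R' := hVR' (Or.inr (Or.inl rfl))
  have huR' : c.F.u ∈ R' := hVR' (Or.inr (Or.inr (Or.inl rfl)))
  obtain ⟨r', hr', hr'o, hr't, hr'u⟩ :=
    hR'.exists_three htR' huR' T.order_t c.F.order_u c.F.comm_u.symm c.F.ne.symm
  have hsplit : ∀ y ∈ C, ∃ r ∈ R', r * y ∈ c.D := by
    intro y hy
    have hyN := hCR' hy
    obtain ⟨P, hP, hPe⟩ := hR'.exists_sylow
    have hyt : y * T.t * y⁻¹ ∈ R' := (mem_normalizer_iff.1 hyN _).1 htR'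
    obtain ⟨d, hd⟩ := MulAction.exists_smul_eq R' (P ⟨⟨_, hyt⟩, Invol.invol_conj T.order_t y⟩)
      (P ⟨⟨T.t, htR'⟩, T.order_t⟩)
    have hcl : ∀ z ∈ R', Commute z (y * T.t * y⁻¹) → Commute ((d : G) * z * (d : G)⁻¹) T.t := by
      intro z hz hzc
      have h1 : d * ⟨z, hz⟩ * d⁻¹ ∈ ((P ⟨⟨T.t, htR'⟩, T.order_t⟩ : Sylow 2 R') : Subgroup R') := by
        rw [← hd, Sylow.coe_subgroup_smul]
        refine mem_map_of_mem (MulAut.conj d).toMonoidHom ?_
        rw [hPe, mem_subgroupOf, mem_inf, mem_centralizer_singleton_iff]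
        exact ⟨hz, hzc.eq⟩
      rw [hPe, mem_subgroupOf, mem_inf, mem_centralizer_singleton_iff] at h1
      exact h1.2
    have hyu : y * c.F.u * y⁻¹ ∈ R' := (mem_normalizer_iff.1 hyN _).1 huR'
    have hinV : ∀ z : G, z ∈ R' → z ≠ 1 → Commute z T.t → c.F.InV z := fun z hz hz1 hzt =>
      (hR'.mem_four htR' huR' T.order_t c.F.order_u c.F.comm_u.symm c.F.ne.symm hz hzt).resolve_left hz1
    have hV1 : c.F.InV ((d : G) * y * T.t * ((d : G) * y)⁻¹) := by
      rw [show (d : G) * y * T.t * ((d : G) * y)⁻¹ = d * (y * T.t * y⁻¹) * (d : G)⁻¹ by group]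
      exact hinV _ (mul_mem (mul_mem d.2 hyt) (inv_mem d.2))
        (Invol.invol_ne_one (Invol.invol_conj (Invol.invol_conj T.order_t y) _))
        (hcl _ hyt (Commute.refl _))
    have hV2 : c.F.InV ((d : G) * y * c.F.u * ((d : G) * y)⁻¹) := by
      rw [show (d : G) * y * c.F.u * ((d : G) * y)⁻¹ = d * (y * c.F.u * y⁻¹) * (d : G)⁻¹ by group]
      exact hinV _ (mul_mem (mul_mem d.2 hyu) (inv_mem d.2))
        (Invol.invol_ne_one (Invol.invol_conj (Invol.invol_conj c.F.order_u y) _))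
        (hcl _ hyu (c.F.comm_u.map (MulAut.conj y)))
    have hdy : Commute ((d : G) * y) w :=
      (mem_centralizer_singleton_iff.1 (mul_mem (hR'C d.2) hy) : _)
    have hr'w : Commute r' w := mem_centralizer_singleton_iff.1 (hR'C hr')
    have hr'tu : r' * (T.t * c.F.u) * r'⁻¹ = T.t := by rw [← conj_mul, hr't, hr'u, c.F.u_mul_tu]
    rcases c.F.perm_cases hV1 hV2 with ⟨e1, -⟩ | ⟨e1, -⟩ | ⟨e1, -⟩
    · exact ⟨d, d.2, c.cent_inV (Or.inl rfl) hw hw1 (mul_inv_eq_iff_eq_mul.1 e1) hdy⟩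
    · refine ⟨r' * r' * d, mul_mem (mul_mem hr' hr') d.2, ?_⟩
      refine c.cent_inV (Or.inl rfl) hw hw1 (mul_inv_eq_iff_eq_mul.1 ?_) ?_
      · rw [show r' * r' * (d : G) * y * T.t * (r' * r' * (d : G) * y)⁻¹ =
          r' * (r' * ((d : G) * y * T.t * ((d : G) * y)⁻¹) * r'⁻¹) * r'⁻¹ by group, e1, hr'u, hr'tu]
      · rw [mul_assoc _ (d : G)]; exact (hr'w.mul_left hr'w).mul_left hdy
    · refine ⟨r' * d, mul_mem hr' d.2, c.cent_inV (Or.inl rfl) hw hw1 (mul_inv_eq_iff_eq_mul.1 ?_) ?_⟩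
      · rw [show r' * (d : G) * y * T.t * (r' * (d : G) * y)⁻¹ =
          r' * ((d : G) * y * T.t * ((d : G) * y)⁻¹) * r'⁻¹ by group, e1, hr'tu]
      · rw [mul_assoc]; exact hr'w.mul_left hdy
  have hle : R ≤ R' := by
    set H := R'.subgroupOf R
    -- commutators of `R` lie in `R'`
    have hcom : ∀ y ∈ C, ∀ z ∈ C, y * z * y⁻¹ * z⁻¹ ∈ R' := by
      intro y hy z hz
      obtain ⟨r₁, h₁, hd₁⟩ := hsplit y hy
      obtain ⟨r₂, h₂, hd₂⟩ := hsplit z hz
      have hDC : ∀ d ∈ c.D, d ∈ normalizer (R' : Set G) := fun d hd => hCR'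
        (mem_centralizer_singleton_iff.2 (c.D_comm hd (c.a_mem_D hw)).eq)
      set d₁ := r₁ * y
      set d₂ := r₂ * z
      have e1 : y = r₁⁻¹ * d₁ := by simp [d₁]
      have e2 : z = r₂⁻¹ * d₂ := by simp [d₂]
      have n1 := mem_normalizer_iff.1 (hDC d₁ hd₁)
      have n2 := mem_normalizer_iff.1 (hDC d₂ hd₂)
      rw [show y * z * y⁻¹ * z⁻¹ = r₁⁻¹ * (d₁ * r₂⁻¹ * d₁⁻¹) *
          ((d₁ * d₂ * d₁⁻¹) * r₁ * (d₁ * d₂ * d₁⁻¹)⁻¹) * ((d₁ * d₂ * d₁⁻¹) * d₂⁻¹) * r₂ by
        rw [e1, e2]; group]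
      rw [(c.D_comm hd₁ hd₂).eq, mul_inv_cancel_right, mul_inv_cancel, mul_one]
      exact mul_mem (mul_mem (mul_mem (inv_mem h₁) ((n1 _).1 (inv_mem h₂))) ((n2 _).1 h₁)) h₂
    set M := commutator R
    rcases hR.simple M inferInstance with e | e
    · exfalso
      apply hst
      have h7 : (⟨s, hs⟩ : R) * ⟨T.t, htR⟩ * (⟨s, hs⟩ : R)⁻¹ * (⟨T.t, htR⟩ : R)⁻¹ ∈ M :=
        commutator_mem_commutator (mem_top _) (mem_top _)
      rw [e, mem_bot] at h7
      exact mul_inv_eq_iff_eq_mul.1 (mul_inv_eq_one.1 (congrArg Subtype.val h7))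
    · have hM : M ≤ H := by
        show ⁅(⊤ : Subgroup R), ⊤⁆ ≤ H
        rw [commutator_le]
        intro y _ z _
        rw [mem_subgroupOf]
        exact hcom _ (hRw w hw y.2) _ (hRw w hw z.2)
      intro r hr
      have : (⟨r, hr⟩ : R) ∈ H := hM (e ▸ mem_top _)
      exact this
  have heq : R' = R := (eq_of_le_of_card_ge hle (by rw [hR.card, hR'.card])).symm
  exact heq ▸ hsplit g (mem_centralizer_singleton_iff.2 hg.eq)

end Conf

end Setup

end CfsgLib.JTh
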