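import Cfsg.Agent.Lib.PushUpTwo.SLFacts
import Cfsg.Agent.Lib.Ree.Entry
import Cfsg.Agent.S3360
import Cfsg.Agent.S0205

/-!
# An involution centralizer `2 × PSL(2, 2^f)` with abelian Sylow `2`-subgroups forces `f ≤ 2`
-/

set_option autoImplicit false
set_option linter.unusedSectionVars false

namespace CfsgLib.JTh

open Subgroup

universe u

/-- The facts on `PSL(2, 2^f)` used here. -/
theorem psl_even_facts {F : Type} [Field F] [Fintype F] {f : ℕ} (hF : Fintype.card F = 2 ^ f) :
    ∃ E : Subgroup (Matrix.ProjectiveSpecialLinearGroup (Fin 2) F),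
      Nat.card E = 2 ^ f ∧ (∀ a ∈ E, a * a = 1) ∧
      (∀ a ∈ E, a ≠ 1 → ∀ g, Commute g a → g ∈ E) ∧
      ∀ a ∈ E, a ≠ 1 → ∀ b ∈ E, b ≠ 1 → ∃ k, k * a * k⁻¹ = b ∧ ∀ y ∈ E, k * y * k⁻¹ ∈ E := by
  classical
  haveI := (CfsgLib.PushUp.charP_of_card (p := 2) hF).1
  obtain ⟨e, -⟩ : ∃ e : Matrix.SpecialLinearGroup (Fin 2) F ≃* Matrix.ProjectiveSpecialLinearGroup (Fin 2) F,
      ∀ g, e g = PushUpTwo.toPSL g := ⟨MulEquiv.ofBijective _ PushUpTwo.toPSL_bijective, fun _ => rfl⟩
  have hmul : ∀ a b : F, PushUpTwo.up a * PushUpTwo.up b = PushUpTwo.up (a + b) := fun a b => by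
    refine PushUpTwo.slExt ?_ ?_ ?_ ?_ <;> simp [PushUpTwo.up_val, Matrix.mul_apply, Fin.sum_univ_two, add_comm]
  have hup0 : PushUpTwo.up (0 : F) = 1 := by
    refine PushUpTwo.slExt ?_ ?_ ?_ ?_ <;> simp [PushUpTwo.up_val]
  refine ⟨(PushUpTwo.upGroup F).map e.toMonoidHom, ?_, ?_, ?_, ?_⟩
  · rw [card_map_of_injective e.injective, PushUpTwo.card_upGroup, Nat.card_eq_fintype_card, hF]
  · rintro _ ⟨a, ha, rfl⟩
    rw [PushUpTwo.eq_up_of_mem ha, ← map_mul, hmul, CharTwo.add_self_eq_zero, hup0, map_one]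
  · rintro _ ⟨a, ha, rfl⟩ hne g hg
    obtain ⟨g, rfl⟩ := e.surjective g
    have hg' : g * a = a * g := e.injective (by rw [map_mul, map_mul]; exact hg.eq)
    set c := a.1 0 1 with hc
    have ha' : a = PushUpTwo.up c := PushUpTwo.eq_up_of_mem ha
    have hc0 : c ≠ 0 := fun h0 => hne (by rw [ha', h0, hup0, map_one])
    rw [ha'] at hg'
    have e00 := congrArg (fun M : Matrix.SpecialLinearGroup (Fin 2) F => M.1 0 0) hg'
    have e01 := congrArg (fun M : Matrix.SpecialLinearGroup (Fin 2) F => M.1 0 1) hg'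
    simp [PushUpTwo.up_val, Matrix.mul_apply, Fin.sum_univ_two] at e00 e01
    have h10 : g.1 1 0 = 0 := e00.resolve_left hc0
    have h11 : g.1 0 0 = g.1 1 1 := by
      have : g.1 0 0 * c = c * g.1 1 1 := by linear_combination e01
      rw [mul_comm c] at this
      exact mul_right_cancel₀ hc0 this
    have hdet := PushUpTwo.slDet g
    rw [h10, mul_zero, sub_zero, ← h11] at hdet
    have h00 : g.1 0 0 = 1 := by
      have h2 : (g.1 0 0 + 1) * (g.1 0 0 + 1) = 0 := by
        rw [CharTwo.add_mul_self, hdet, one_mul, CharTwo.add_self_eq_zero]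
      exact CharTwo.add_eq_zero.1 (mul_self_eq_zero.1 h2)
    exact mem_map_of_mem _ ⟨h00, h10, h11 ▸ h00⟩
  · rintro _ ⟨a, ha, rfl⟩ hna _ ⟨b, hb, rfl⟩ hnb
    set c := a.1 0 1 with hc
    set c' := b.1 0 1 with hc'
    have ha' : a = PushUpTwo.up c := PushUpTwo.eq_up_of_mem ha
    have hb' : b = PushUpTwo.up c' := PushUpTwo.eq_up_of_mem hb
    have hc0 : c ≠ 0 := fun h0 => hna (by rw [ha', h0, hup0, map_one])
    have hc0' : c' ≠ 0 := fun h0 => hnb (by rw [hb', h0, hup0, map_one])
    obtain ⟨d, hd⟩ := FiniteField.isSquare_of_char_two (ringChar.eq F 2) (c' / c)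
    have hd0 : d ≠ 0 := fun h0 => by
      rw [h0, mul_zero, div_eq_zero_iff] at hd
      exact hd.elim hc0' hc0
    let δ : Matrix.SpecialLinearGroup (Fin 2) F := ⟨!![d, 0; 0, d⁻¹], by simp [Matrix.det_fin_two, hd0]⟩
    have hδ : ∀ z : F, δ * PushUpTwo.up z * δ⁻¹ = PushUpTwo.up (d * d * z) := fun z => by
      rw [mul_inv_eq_iff_eq_mul]
      have hδ1 : δ.1 = !![d, 0; 0, d⁻¹] := rfl
      refine PushUpTwo.slExt ?_ ?_ ?_ ?_ <;>
        simp [hδ1, PushUpTwo.up_val, Matrix.mul_apply, Fin.sum_univ_two]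
      field_simp
    refine ⟨e δ, ?_, ?_⟩
    · show e δ * e a * (e δ)⁻¹ = e b
      rw [← map_inv, ← map_mul, ← map_mul, ha', hδ, ← hd, div_mul_cancel₀ _ hc0, hb']
    · rintro _ ⟨y, hy, rfl⟩
      show e δ * e y * (e δ)⁻¹ ∈ _
      rw [← map_inv, ← map_mul, ← map_mul, PushUpTwo.eq_up_of_mem hy, hδ]
      exact mem_map_of_mem _ (PushUpTwo.up_mem _)

/-- The field automorphisms of a field with `2 ^ r` elements are at most `r`. -/
theorem card_ringAut_le {F : Type} [Field F] [Fintype F] {r : ℕ} (hF : Fintype.card F = 2 ^ r) :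
    Nat.card (F ≃+* F) ≤ r := by
  haveI := (CfsgLib.PushUp.charP_of_card (p := 2) hF).1
  haveI : Fact (Nat.Prime 2) := ⟨Nat.prime_two⟩
  letI := ZMod.algebra F 2
  have hr : Module.finrank (ZMod 2) F = r := by
    have h := Module.card_eq_pow_finrank (K := ZMod 2) (V := F)
    rw [ZMod.card, hF] at h
    exact Nat.pow_right_injective le_rfl h.symm
  rw [← hr, ← IsGalois.card_aut_eq_finrank (ZMod 2) F]
  let ι : (F ≃+* F) → Gal(F/ZMod 2) := fun σ => AlgEquiv.ofRingEquiv (f := σ) fun x => by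
    exact RingHom.congr_fun (Subsingleton.elim (σ.toRingHom.comp (algebraMap (ZMod 2) F)) (algebraMap (ZMod 2) F)) x
  refine Nat.card_le_card_of_injective ι fun σ σ' h => RingEquiv.ext fun x => ?_
  exact DFunLike.congr_fun h x

variable {G : Type u} [Group G] [Finite G]

/-- The case of even `q`. -/
theorem le_two_of_even [IsSimpleGroup G] (hna : ¬ IsMulCommutative G)
    (hab : ∀ P : Sylow 2 G, ∀ a b : P, a * b = b * a) (t : G) (K : Subgroup G) (ht : orderOf t = 2)
    (comm_t : ∀ c ∈ K, Commute c t) (mem_or : ∀ c : G, Commute c t → c ∈ K ∨ t * c ∈ K) (not_mem : t ∉ K)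
    {F : Type} [Field F] [Fintype F] {f : ℕ} (hF : Fintype.card F = 2 ^ f) (hf : 1 ≤ f)
    (φ : K ≃* Matrix.ProjectiveSpecialLinearGroup (Fin 2) F) : f ≤ 2 := by
  classical
  haveI : Fact (Nat.Prime 2) := ⟨Nat.prime_two⟩
  obtain ⟨E₀, hE₀c, hE₀sq, hE₀cent, hE₀tr⟩ := psl_even_facts hF
  have ht2 : t * t = 1 := Invol.invol_mul_self ht
  set E : Subgroup G := (E₀.comap φ.toMonoidHom).map K.subtype with hE
  have hEK : E ≤ K := map_subtype_le _
  have hEmem : ∀ {z : G} (hz : z ∈ K), z ∈ E ↔ φ ⟨z, hz⟩ ∈ E₀ := fun {z} hz => by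
    rw [hE]
    constructor
    · rintro ⟨y, hy, rfl⟩
      exact hy
    · exact fun h => ⟨⟨z, hz⟩, h, rfl⟩
  have hEc : Nat.card E = 2 ^ f := by
    rw [hE, card_map_of_injective K.subtype_injective, ← hE₀c]
    exact Nat.card_congr (φ.toEquiv.subtypeEquiv fun y => Iff.rfl)
  have hEsq : ∀ z ∈ E, z * z = 1 := fun z hz => by
    have := hE₀sq _ ((hEmem (hEK hz)).1 hz)
    rw [← map_mul, EmbeddingLike.map_eq_one_iff] at this
    exact congrArg Subtype.val this
  have hEtr : ∀ a ∈ E, a ≠ 1 → ∀ b ∈ E, b ≠ 1 → ∃ k ∈ K, k * a * k⁻¹ = b ∧ ∀ y ∈ E, k * y * k⁻¹ ∈ E := by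
    intro a ha ha1 b hb hb1
    obtain ⟨k, hk, hkE⟩ := hE₀tr _ ((hEmem (hEK ha)).1 ha)
      (fun e => ha1 (congrArg Subtype.val ((EmbeddingLike.map_eq_one_iff (f := φ)).1 e)))
      _ ((hEmem (hEK hb)).1 hb)
      (fun e => hb1 (congrArg Subtype.val ((EmbeddingLike.map_eq_one_iff (f := φ)).1 e)))
    refine ⟨φ.symm k, (φ.symm k).2, ?_, fun y hy => ?_⟩
    · have h1 : φ.symm k * ⟨a, hEK ha⟩ * (φ.symm k)⁻¹ = ⟨b, hEK hb⟩ :=
        φ.injective (by rw [map_mul, map_mul, map_inv, φ.apply_symm_apply, hk])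
      exact congrArg Subtype.val h1
    · have h1 : ((φ.symm k : K) : G) * y * ((φ.symm k : K) : G)⁻¹ ∈ K :=
        mul_mem (mul_mem (φ.symm k).2 (hEK hy)) (inv_mem (φ.symm k).2)
      rw [hEmem h1, show (⟨_, h1⟩ : K) = φ.symm k * ⟨y, hEK hy⟩ * (φ.symm k)⁻¹ from rfl, map_mul,
        map_mul, map_inv, φ.apply_symm_apply]
      exact hkE _ ((hEmem (hEK hy)).1 hy)
  obtain ⟨⟨e₀, he₀⟩, he₀o⟩ := exists_prime_orderOf_dvd_card' (G := E) 2
    (hEc ▸ dvd_pow_self 2 (by omega))
  rw [Subgroup.orderOf_mk] at he₀o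
  have he₀1 := Invol.invol_ne_one he₀o
  -- the Sylow subgroup
  let S₀ : Subgroup G :=
    { carrier := {g | g ∈ E ∨ t * g ∈ E}
      one_mem' := Or.inl (one_mem _)
      mul_mem' := fun {a b} ha hb => by
        have hta : Commute a t := by
          rcases ha with h | h
          · exact comm_t _ (hEK h)
          · have := (comm_t _ (hEK h)).symm.mul_right (Commute.refl t)
            rcases this with _
            have h1 : Commute (t * a) t := comm_t _ (hEK h)
            have h2 := (Commute.refl t).inv_left.mul_left h1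
            rwa [inv_mul_cancel_left] at h2
        rcases ha with ha | ha <;> rcases hb with hb | hb
        · exact Or.inl (mul_mem ha hb)
        · exact Or.inr (by rw [← mul_assoc, ← hta.eq, mul_assoc]; exact mul_mem ha hb)
        · exact Or.inr (by rw [← mul_assoc]; exact mul_mem ha hb)
        · refine Or.inl ?_
          have h3 := mul_mem ha hb
          rwa [mul_assoc t, ← mul_assoc a, hta.eq, mul_assoc t, ← mul_assoc, ht2, one_mul] at h3
      inv_mem' := fun {a} ha => by
        rcases ha with h | h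
        · exact Or.inl (inv_mem h)
        · refine Or.inr ?_
          have h1 : Commute (t * a) t := comm_t _ (hEK h)
          have h2 : (t * a)⁻¹ = a⁻¹ * t := by rw [mul_inv_rev, Invol.invol_inv ht]
          have h3 : Commute a t := by
            have h4 := (Commute.refl t).inv_left.mul_left h1
            rwa [inv_mul_cancel_left] at h4
          rw [show t * a⁻¹ = a⁻¹ * t from h3.inv_left.eq.symm, ← h2]
          exact inv_mem h }
  have htS₀ : t ∈ S₀ := Or.inr (by rw [ht2]; exact one_mem _)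
  have hES₀ : E ≤ S₀ := fun z hz => Or.inl hz
  have hS₀sq : ∀ g ∈ S₀, g * g = 1 := by
    rintro g (h | h)
    · exact hEsq g h
    · have h1 := hEsq _ h
      have h2 : Commute (t * g) t := comm_t _ (hEK h)
      have h4 : Commute g t := by
        have := (Commute.refl t).inv_left.mul_left h2
        rwa [inv_mul_cancel_left] at this
      rwa [show t * g * (t * g) = t * (g * t) * g by group, h4.eq, ← mul_assoc, ht2, one_mul] at h1
  have hS₀p : IsPGroup 2 S₀ := fun g => ⟨1, Subtype.ext (by push_cast; rw [pow_two]; exact hS₀sq g g.2)⟩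
  obtain ⟨S, hS⟩ := hS₀p.exists_le_sylow
  have hSc : ∀ a ∈ (S : Subgroup G), ∀ b ∈ (S : Subgroup G), Commute a b := fun a ha b hb =>
    congrArg Subtype.val (hab S ⟨a, ha⟩ ⟨b, hb⟩)
  have hSeq : (S : Subgroup G) = S₀ := by
    refine le_antisymm (fun g hg => ?_) hS
    have hgt : Commute g t := hSc g hg t (hS htS₀)
    have hge : Commute g e₀ := hSc g hg e₀ (hS (hES₀ he₀))
    have key : ∀ z ∈ K, Commute z e₀ → z ∈ E := fun z hz hc => by
      rw [hEmem hz]
      refine hE₀cent _ ((hEmem (hEK he₀)).1 he₀) (fun e => he₀1 (congrArg Subtype.val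
        ((EmbeddingLike.map_eq_one_iff (f := φ)).1 e))) _ ?_
      exact (show Commute (⟨z, hz⟩ : K) ⟨e₀, hEK he₀⟩ from Subtype.ext hc.eq).map φ
    rcases mem_or g hgt with h | h
    · exact Or.inl (key g h hge)
    · exact Or.inr (key _ h ((comm_t _ (hEK he₀)).symm.mul_left hge))
  haveI : IsMulCommutative (S : Subgroup G) := ⟨⟨fun a b => hab S a b⟩⟩
  set N := normalizer ((S : Subgroup G) : Set G) with hN
  have hfus : ∀ g : G, g * t * g⁻¹ ∈ (S : Subgroup G) → ∃ k ∈ N, k * t * k⁻¹ = g * t * g⁻¹ := by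
    intro g hg
    obtain ⟨k, hk, hke⟩ := S.conj_eq_normalizer_conj_of_mem (g * t * g⁻¹) g hg
      (by rw [show g⁻¹ * (g * t * g⁻¹) * g = t by group]; exact hS htS₀)
    refine ⟨k, hk, ?_⟩
    rw [show g⁻¹ * (g * t * g⁻¹) * g = t by group] at hke
    conv_lhs => rw [hke]
    group
  have hEN : ∀ k ∈ K, (∀ y ∈ E, k * y * k⁻¹ ∈ E) → k ∈ N := by
    intro k hk hkE
    have hone : ∀ y ∈ S₀, k * y * k⁻¹ ∈ S₀ := by
      rintro y (h | h)
      · exact Or.inl (hkE y h)
      · refine Or.inr ?_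
        have := hkE _ h
        rwa [show k * (t * y) * k⁻¹ = (k * t) * y * k⁻¹ by group, (comm_t k hk).eq,
          show t * k * y * k⁻¹ = t * (k * y * k⁻¹) by group] at this
    have hle : S₀.map (MulAut.conj k).toMonoidHom ≤ S₀ := by
      rintro _ ⟨y, hy, rfl⟩
      exact hone y hy
    have he := eq_of_le_of_card_ge hle (by rw [card_map_of_injective (MulAut.conj k).injective])
    rw [hN, hSeq, mem_normalizer_iff]
    refine fun y => ⟨hone y, fun hy => ?_⟩
    rw [← he] at hy
    obtain ⟨y', hy', e⟩ := hy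
    rwa [← (MulAut.conj k).injective e]
  have hNS : ∀ k ∈ N, ∀ y ∈ (S : Subgroup G), k * y * k⁻¹ ∈ (S : Subgroup G) := fun k hk y hy =>
    (mem_normalizer_iff.1 hk y).1 hy
  -- the orbit of `t`
  set O : Set G := {y | ∃ k ∈ N, k * t * k⁻¹ = y} with hO
  have hOS : ∀ y ∈ O, y ∈ S₀ ∧ y ≠ 1 := by
    rintro y ⟨k, hk, rfl⟩
    refine ⟨hSeq ▸ hNS k hk t (hS htS₀), ?_⟩
    exact Invol.invol_ne_one (Invol.invol_conj ht k)
  have hOodd : Odd (Nat.card O) := by
    letI : MulAction N G :=
      { smul := fun k y => (k : G) * y * (k : G)⁻¹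
        one_smul := fun y => show ((1 : N) : G) * y * ((1 : N) : G)⁻¹ = y by simp
        mul_smul := fun k l y => show ((k * l : N) : G) * y * ((k * l : N) : G)⁻¹ =
          (k : G) * ((l : G) * y * (l : G)⁻¹) * (k : G)⁻¹ by push_cast; group }
    have he : O = MulAction.orbit N t := by
      ext y
      exact ⟨fun ⟨k, hk, h⟩ => ⟨⟨k, hk⟩, h⟩, fun ⟨k, h⟩ => ⟨k, k.2, h⟩⟩
    rw [he, Nat.card_coe_set_eq, ← MulAction.index_stabilizer]
    have hle : (S : Subgroup G).subgroupOf N ≤ MulAction.stabilizer N t := fun k hk => by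
      show (k : G) * t * (k : G)⁻¹ = t
      rw [(hSc _ (mem_subgroupOf.1 hk) t (hS htS₀)).eq, mul_inv_cancel_right]
    have h1 : Odd ((S : Subgroup G).subgroupOf N).index := by
      rw [Nat.odd_iff, ← Nat.two_dvd_ne_zero]
      exact fun h => S.not_dvd_index (h.trans (relIndex_dvd_index_of_le le_normalizer))
    exact h1.of_dvd_nat (index_dvd_of_le hle)
  have hEall : ∀ a ∈ E, a ≠ 1 → (a ∈ O → ∀ b ∈ E, b ≠ 1 → b ∈ O) ∧
      (t * a ∈ O → ∀ b ∈ E, b ≠ 1 → t * b ∈ O) := by
    intro a ha ha1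
    constructor <;> intro hO' b hb hb1 <;> obtain ⟨k, hk, hkab, hkE⟩ := hEtr a ha ha1 b hb hb1 <;>
      obtain ⟨l, hl, hla⟩ := hO' <;> refine ⟨k * l, mul_mem (hEN k hk hkE) hl, ?_⟩
    · rw [show k * l * t * (k * l)⁻¹ = k * (l * t * l⁻¹) * k⁻¹ by group, hla, hkab]
    · rw [show k * l * t * (k * l)⁻¹ = k * (l * t * l⁻¹) * k⁻¹ by group, hla,
        show k * (t * a) * k⁻¹ = (k * t) * a * k⁻¹ by group, (comm_t k hk).eq,
        show t * k * a * k⁻¹ = t * (k * a * k⁻¹) by group, hkab]
  have htO : t ∈ O := ⟨1, one_mem _, by group⟩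
  have h1E : t ∉ E := fun h => not_mem (hEK h)
  have hclass : ∀ y ∈ O, y = t ∨ (y ∈ E ∧ y ≠ 1) ∨ (t * y ∈ E ∧ t * y ≠ 1) := by
    intro y hy
    obtain ⟨h | h, hy1⟩ := hOS y hy
    · exact Or.inr (Or.inl ⟨h, hy1⟩)
    · rcases eq_or_ne (t * y) 1 with e | e
      · exact Or.inl ((eq_inv_of_mul_eq_one_right e).trans (Invol.invol_inv ht))
      · exact Or.inr (Or.inr ⟨h, e⟩)
  -- `t` is conjugate to all involutions of the Sylow subgroup
  have hall : ∀ y ∈ S₀, y ≠ 1 → y ∈ O := by
    have htwo : (∀ b ∈ E, b ≠ 1 → b ∈ O) ∧ (∀ b ∈ E, b ≠ 1 → t * b ∈ O) := by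
      by_cases h1 : ∃ a, a ∈ E ∧ a ≠ 1 ∧ a ∈ O <;> by_cases h2 : ∃ a, a ∈ E ∧ a ≠ 1 ∧ t * a ∈ O
      · obtain ⟨a, ha, ha1, haO⟩ := h1
        obtain ⟨b, hb, hb1, hbO⟩ := h2
        exact ⟨(hEall a ha ha1).1 haO, (hEall b hb hb1).2 hbO⟩
      · exfalso
        obtain ⟨a, ha, ha1, haO⟩ := h1
        push Not at h2
        have hOe : O = insert t ((E : Set G) \ {1}) := by
          ext y
          constructor
          · intro hy
            rcases hclass y hy with h | h | ⟨h, h'⟩
            · exact Set.mem_insert_iff.2 (Or.inl h)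
            · exact Set.mem_insert_iff.2 (Or.inr h)
            · exact absurd (by rwa [← mul_assoc, ht2, one_mul]) (h2 _ h h')
          · rintro (rfl | ⟨h, h'⟩)
            · exact htO
            · exact (hEall a ha ha1).1 haO y h h'
        rw [hOe, Nat.card_coe_set_eq, Set.ncard_insert_of_notMem (fun h => h1E h.1),
          Set.ncard_diff_singleton_of_mem (show (1 : G) ∈ (E : Set G) from one_mem E),
          ← Nat.card_coe_set_eq, show Nat.card (E : Set G) = 2 ^ f from hEc,
          Nat.sub_add_cancel (Nat.one_le_two_pow)] at hOodd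
        exact Nat.not_even_iff_odd.2 hOodd (even_iff_two_dvd.2 (dvd_pow_self 2 (by omega)))
      · exfalso
        obtain ⟨a, ha, ha1, haO⟩ := h2
        push Not at h1
        have hOe : O = (fun z => t * z) '' (E : Set G) := by
          ext y
          constructor
          · intro hy
            rcases hclass y hy with h | ⟨h, h'⟩ | ⟨h, -⟩
            · exact ⟨1, one_mem E, by rw [h]; exact mul_one t⟩
            · exact absurd hy (h1 _ h h')
            · exact ⟨t * y, h, by show t * (t * y) = y; rw [← mul_assoc, ht2, one_mul]⟩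
          · rintro ⟨z, hz, rfl⟩
            rcases eq_or_ne z 1 with rfl | hz1
            · show t * 1 ∈ O
              rw [mul_one]; exact htO
            · exact (hEall a ha ha1).2 haO z hz hz1
        rw [hOe, Nat.card_image_of_injective (mul_right_injective t),
          show Nat.card (E : Set G) = 2 ^ f from hEc] at hOodd
        exact Nat.not_even_iff_odd.2 hOodd (even_iff_two_dvd.2 (dvd_pow_self 2 (by omega)))
      · exfalso
        push Not at h1 h2
        refine ReeType.not_isolated_of_simple hna t ⟨ht, fun g hg => ?_⟩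
        set w := g * t * g⁻¹ with hw
        have hw2 : orderOf w = 2 := Invol.invol_conj ht g
        -- move `w` into the Sylow subgroup inside `C(t)`
        set C := centralizer ({t} : Set G)
        have hSC : (S : Subgroup G) ≤ C := fun y hy =>
          mem_centralizer_singleton_iff.2 (hSc y hy t (hS htS₀)).eq
        have hwC : w ∈ C := mem_centralizer_singleton_iff.2 hg.eq.symm
        obtain ⟨P, hP⟩ := (IsPGroup.of_card (G := zpowers (⟨w, hwC⟩ : C)) (p := 2) (n := 1)
          (by rw [Nat.card_zpowers, Subgroup.orderOf_mk, hw2, pow_one])).exists_le_sylow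
        obtain ⟨k, hk⟩ := MulAction.exists_smul_eq C P (S.subtype hSC)
        have h3 : k * ⟨w, hwC⟩ * k⁻¹ ∈ ((S.subtype hSC : Sylow 2 C) : Subgroup C) := by
          rw [← hk, Sylow.coe_subgroup_smul]
          exact mem_map_of_mem _ (hP (mem_zpowers _))
        rw [Sylow.coe_subtype, mem_subgroupOf] at h3
        push_cast at h3
        have hkw : (k : G) * w * (k : G)⁻¹ = (k : G) * g * t * ((k : G) * g)⁻¹ := by rw [hw]; group
        obtain ⟨l, hl, hle⟩ := hfus ((k : G) * g) (hkw ▸ h3)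
        have hO1 : (k : G) * w * (k : G)⁻¹ ∈ O := ⟨l, hl, hle.trans hkw.symm⟩
        have hkt : (k : G) * t * (k : G)⁻¹ = t := by
          rw [(show Commute (k : G) t from mem_centralizer_singleton_iff.1 k.2).eq, mul_inv_cancel_right]
        rcases hclass _ hO1 with h | ⟨h, h'⟩ | ⟨h, h'⟩
        · exact mul_left_cancel (mul_right_cancel (h.trans hkt.symm))
        · exact absurd hO1 (h1 _ h h')
        · exact absurd (by rwa [← mul_assoc, ht2, one_mul]) (h2 _ h h')
    rintro y (h | h) hy1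
    · exact htwo.1 y h hy1
    · rcases eq_or_ne (t * y) 1 with e | e
      · rw [(eq_inv_of_mul_eq_one_right e).trans (Invol.invol_inv ht)]; exact htO
      · have := htwo.2 _ h e
        rwa [← mul_assoc, ht2, one_mul] at this
  have hS₀c : Nat.card S₀ = 2 * 2 ^ f := by
    show Nat.card ↥(S₀ : Set G) = _
    have hu : (S₀ : Set G) = (E : Set G) ∪ (fun z => t * z) '' (E : Set G) := by
      ext y
      constructor
      · rintro (h | h)
        · exact Or.inl h
        · exact Or.inr ⟨t * y, h, by show t * (t * y) = y; rw [← mul_assoc, ht2, one_mul]⟩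
      · rintro (h | ⟨z, hz, rfl⟩)
        · exact Or.inl h
        · exact Or.inr (by rw [← mul_assoc, ht2, one_mul]; exact hz)
    have hdis : Disjoint (E : Set G) ((fun z => t * z) '' (E : Set G)) := Set.disjoint_left.2 fun y hy h => by
      obtain ⟨z, hz, hzy⟩ := h
      have hzy' : t * z = y := hzy
      have h' : t = y * z⁻¹ := by rw [← hzy']; group
      exact h1E (h' ▸ mul_mem hy (inv_mem hz))
    rw [hu, Nat.card_coe_set_eq, Set.ncard_union_eq hdis (Set.toFinite _) (Set.toFinite _),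
      Set.ncard_image_of_injective _ (mul_right_injective t), ← Nat.card_coe_set_eq,
      show Nat.card (E : Set G) = 2 ^ f from hEc, two_mul]
  -- the linear group
  letI : CommGroup S₀ :=
    { (inferInstance : Group S₀) with
      mul_comm := fun a b => Subtype.ext (hSc a (hS a.2) b (hS b.2)).eq }
  letI : Module (ZMod 2) (Additive S₀) := AddCommGroup.zmodModule (n := 2) fun v => by
    apply Additive.toMul.injective
    rw [toMul_nsmul, toMul_zero, pow_two]
    exact Subtype.ext (hS₀sq _ v.toMul.2)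
  have hNS₀ : ∀ (k : N) (y : S₀), (k : G) * y * (k : G)⁻¹ ∈ S₀ := fun k y =>
    hSeq.le (hNS k k.2 y (hS y.2))
  let lin : N → (Additive S₀ ≃ₗ[ZMod 2] Additive S₀) := fun k =>
    { toFun := fun v => Additive.ofMul ⟨(k : G) * v.toMul * (k : G)⁻¹, hNS₀ k v.toMul⟩
      map_add' := fun v w => by
        apply Additive.toMul.injective
        apply Subtype.ext
        show (k : G) * ((v.toMul : G) * w.toMul) * (k : G)⁻¹ = _
        exact conj_mul.symm
      map_smul' := fun c v => by
        obtain ⟨i, rfl⟩ := ZMod.natCast_zmod_surjective c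
        simp only [RingHom.id_apply, Nat.cast_smul_eq_nsmul]
        apply Additive.toMul.injective
        apply Subtype.ext
        show (k : G) * ((v.toMul ^ i : S₀) : G) * (k : G)⁻¹ = ((⟨_, hNS₀ k v.toMul⟩ : S₀) ^ i : S₀)
        push_cast
        rw [conj_pow]
      invFun := fun v => Additive.ofMul ⟨((k⁻¹ : N) : G) * v.toMul * ((k⁻¹ : N) : G)⁻¹, hNS₀ k⁻¹ v.toMul⟩
      left_inv := fun v => by
        apply Additive.toMul.injective
        apply Subtype.ext
        show ((k⁻¹ : N) : G) * ((k : G) * v.toMul * (k : G)⁻¹) * ((k⁻¹ : N) : G)⁻¹ = _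
        push_cast
        group
      right_inv := fun v => by
        apply Additive.toMul.injective
        apply Subtype.ext
        show (k : G) * (((k⁻¹ : N) : G) * v.toMul * ((k⁻¹ : N) : G)⁻¹) * (k : G)⁻¹ = _
        push_cast
        group }
  let ψ : N →* (Additive S₀ ≃ₗ[ZMod 2] Additive S₀) :=
    { toFun := lin
      map_one' := LinearEquiv.ext fun v => by
        apply Additive.toMul.injective
        apply Subtype.ext
        show ((1 : N) : G) * v.toMul * ((1 : N) : G)⁻¹ = _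
        simp
      map_mul' := fun k l => LinearEquiv.ext fun v => by
        apply Additive.toMul.injective
        apply Subtype.ext
        show ((k * l : N) : G) * v.toMul * ((k * l : N) : G)⁻¹ =
          (k : G) * ((l : G) * v.toMul * (l : G)⁻¹) * (k : G)⁻¹
        push_cast
        group }
  have hval : ∀ (k : N) (v : Additive S₀), (((ψ k v).toMul : S₀) : G) = (k : G) * v.toMul * (k : G)⁻¹ :=
    fun _ _ => rfl
  haveI : Finite ψ.range := Finite.of_surjective _ ψ.rangeRestrict_surjective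
  have hodd : Odd (Nat.card ψ.range) := by
    have hle : (S : Subgroup G).subgroupOf N ≤ ψ.ker := fun k hk => MonoidHom.mem_ker.2 <|
      LinearEquiv.ext fun v => by
        apply Additive.toMul.injective
        apply Subtype.ext
        rw [hval, (hSc _ (mem_subgroupOf.1 hk) _ (hS v.toMul.2)).eq, mul_inv_cancel_right]
        rfl
    have h1 : Odd ((S : Subgroup G).subgroupOf N).index := by
      rw [Nat.odd_iff, ← Nat.two_dvd_ne_zero]
      exact fun h => S.not_dvd_index (h.trans (relIndex_dvd_index_of_le le_normalizer))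
    rw [← Subgroup.index_ker]
    exact h1.of_dvd_nat (index_dvd_of_le hle)
  have hS₀O : ∀ v : Additive S₀, v ≠ 0 → ((v.toMul : S₀) : G) ∈ O := fun v hv =>
    hall _ v.toMul.2 fun e => hv (Additive.toMul.injective (Subtype.ext e))
  haveI : Nontrivial (Additive S₀) :=
    ⟨⟨Additive.ofMul ⟨t, htS₀⟩, 0, fun e =>
      Invol.invol_ne_one ht (congrArg Subtype.val (congrArg Additive.toMul e))⟩⟩
  obtain hsl | hex := Cfsg.Agent.S3360.result 2 (V := Additive S₀)
    (G := ψ.range) (Cfsg.Agent.S0205.result hodd) ψ.range.subtype ψ.range.subtype_injective (fun v w hv hw => by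
      obtain ⟨k, hk, hkv⟩ := hS₀O v hv
      obtain ⟨l, hl, hlw⟩ := hS₀O w hw
      refine ⟨⟨ψ (⟨l, hl⟩ * (⟨k, hk⟩ : N)⁻¹), ⟨_, rfl⟩⟩, ?_⟩
      apply Additive.toMul.injective
      apply Subtype.ext
      show (((ψ (⟨l, hl⟩ * (⟨k, hk⟩ : N)⁻¹) v).toMul : S₀) : G) = _
      rw [hval, ← hkv, ← hlw]
      push_cast
      group)
  swap
  · exfalso
    have hc : Nat.card (Additive S₀) = 2 * 2 ^ f := hS₀c
    rw [hc] at hex
    simp only [Set.mem_insert_iff, Set.mem_singleton_iff] at hex
    omega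
  obtain ⟨L, iL, iL', e, hsem⟩ := hsl
  have hLc : Fintype.card L = 2 ^ (f + 1) := by
    rw [← Nat.card_eq_fintype_card, ← Nat.card_congr e.toEquiv, pow_succ, mul_comm]
    exact hS₀c
  -- elements fixing `t`, one for each nontrivial element of `E`
  choose k hkK hk hkE using fun b : {b : E // b ≠ 1} =>
    hEtr e₀ he₀ he₀1 b.1 b.1.2 fun h => b.2 (Subtype.ext h)
  let g : {b : E // b ≠ 1} → ψ.range := fun b => ⟨ψ ⟨k b, hEN _ (hkK b) (hkE b)⟩, ⟨_, rfl⟩⟩
  choose a σ hσ using fun b => hsem (g b)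
  set v₀ : Additive S₀ := Additive.ofMul ⟨t, htS₀⟩ with hv₀
  have hv₀e : e v₀ ≠ 0 := fun h => Invol.invol_ne_one ht
    (congrArg Subtype.val (congrArg Additive.toMul (e.injective (h.trans (map_zero e).symm))))
  have hfix : ∀ b, ψ.range.subtype (g b) v₀ = v₀ := fun b => by
    apply Additive.toMul.injective
    apply Subtype.ext
    show (((ψ ⟨k b, hEN _ (hkK b) (hkE b)⟩ v₀).toMul : S₀) : G) = t
    rw [hval]
    show k b * t * (k b)⁻¹ = t
    rw [(comm_t _ (hkK b)).eq, mul_inv_cancel_right]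
  have hinj : Function.Injective σ := by
    intro b b' hbb
    have haa : a b = a b' := by
      have h1 := hσ b v₀
      have h2 := hσ b' v₀
      rw [hfix] at h1 h2
      rw [hbb] at h1
      exact mul_right_cancel₀ (fun h => hv₀e ((map_eq_zero_iff _ (σ b').injective).1 h)) (h1.symm.trans h2)
    have h3 : ψ.range.subtype (g b) (Additive.ofMul ⟨e₀, hES₀ he₀⟩) =
        ψ.range.subtype (g b') (Additive.ofMul ⟨e₀, hES₀ he₀⟩) := e.injective (by rw [hσ, hσ, haa, hbb])
    have h4 : k b * e₀ * (k b)⁻¹ = k b' * e₀ * (k b')⁻¹ :=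
      congrArg (fun v : Additive S₀ => ((v.toMul : S₀) : G)) h3
    rw [hk, hk] at h4
    exact Subtype.ext (Subtype.ext h4)
  haveI : Finite (L ≃+* L) := Finite.of_injective (fun s : L ≃+* L => (s : L → L)) DFunLike.coe_injective
  have hle := (Nat.card_le_card_of_injective σ hinj).trans (card_ringAut_le hLc)
  haveI := Fintype.ofFinite E
  rw [Nat.card_eq_fintype_card, Fintype.card_subtype_compl, Fintype.card_subtype_eq,
    ← Nat.card_eq_fintype_card, hEc] at hle
  by_contra hgt
  have h8 : ∀ j : ℕ, j + 6 ≤ 2 ^ (j + 3) := fun j => by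
    induction j with
    | zero => norm_num
    | succ j ih =>
      have h2 : 2 ^ (j + 1 + 3) = 2 ^ (j + 3) * 2 := by rw [← pow_succ]
      omega
  have h9 := h8 (f - 3)
  rw [show f - 3 + 3 = f by omega] at h9
  omega

end CfsgLib.JTh
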