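import Cfsg.Agent.Lib.JTh.Basic

/-!
# An involution centralizer `2 × PSL(2, q)`, `q ≡ 3, 5 (mod 8)`: four-groups
-/

set_option autoImplicit false
set_option linter.unusedSectionVars false

namespace CfsgLib.JTh

open Subgroup
open CfsgLib.ReeType (commute_of_odd)

universe u

namespace Setup

variable {G : Type u} [Group G] [Finite G] {p q m n : ℕ} (T : Setup G p q m n)

include T in
theorem one_lt_m : 1 < m := T.kit.one_lt_m

include T in
/-- No element interchanges two commuting involutions. -/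
theorem no_swap {g j l : G} (hj : j * j = 1) (hl : l * l = 1) (hc : Commute j l) (hne : j ≠ l)
    (h1 : g * j * g⁻¹ = l) (h2 : g * l * g⁻¹ = j) : False := by
  haveI : Fact (Nat.Prime 2) := ⟨Nat.prime_two⟩
  have hsq : Commute (g * g) j := by
    show g * g * j = j * (g * g)
    calc g * g * j = g * (g * j * g⁻¹) * g := by group
      _ = g * l * g⁻¹ * g * g := by rw [h1]; group
      _ = j * (g * g) := by rw [h2, mul_assoc]
  have heven : ¬ Odd (orderOf g) := fun ho => hne (by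
    have := commute_of_odd ho hsq
    rw [← h1, this.eq, mul_inv_cancel_right])
  obtain ⟨o, ho⟩ := (Nat.not_odd_iff_even.1 heven).two_dvd
  have hoo : Odd o := by
    rw [← Nat.not_even_iff_odd, even_iff_two_dvd]
    rintro ⟨c, rfl⟩
    exact T.not_four_dvd g ⟨c, by rw [ho]; ring⟩
  set h := g ^ o with hh
  have hh1 : h * h = 1 := by rw [hh, ← pow_add, ← two_mul, ← ho, pow_orderOf_eq_one]
  have hhj : h * j * h⁻¹ = l := by
    obtain ⟨c, rfl⟩ := hoo
    rw [hh, pow_succ', pow_mul, pow_two]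
    have hp : Commute ((g * g) ^ c) j := hsq.pow_left c
    calc g * (g * g) ^ c * j * (g * (g * g) ^ c)⁻¹
        = g * ((g * g) ^ c * j) * ((g * g) ^ c)⁻¹ * g⁻¹ := by group
      _ = l := by rw [hp.eq, ← h1]; group
  have hh' : h⁻¹ = h := inv_eq_of_mul_eq_one_right hh1
  have hpow : (j * h) * (j * h) = j * l := by
    rw [← hhj, hh']; group
  have hjl : (j * l) * (j * l) = 1 := by
    calc j * l * (j * l) = j * (l * j) * l := by group
      _ = 1 := by rw [← hc.eq, ← mul_assoc, hj, one_mul, hl]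
  have hord : orderOf (j * h) = 2 ^ (1 + 1) := by
    refine orderOf_eq_prime_pow ?_ ?_
    · rw [pow_one, pow_two, hpow]
      exact fun e => hne (by rw [eq_inv_of_mul_eq_one_left e, inv_eq_of_mul_eq_one_right hl])
    · rw [show (2 : ℕ) ^ (1 + 1) = 2 * 2 by norm_num, pow_mul, pow_two (j * h), hpow, pow_two, hjl]
  exact T.not_four_dvd (j * h) (by rw [hord]; norm_num)

/-- A second involution `u` commuting with `t` and the structure of `C(t) ∩ C(u)`. -/
structure VFrame (T : Setup G p q m n) where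
  u : G
  a : G
  x : G
  order_u : orderOf u = 2
  comm_u : Commute u T.t
  ne : u ≠ T.t
  order_a : orderOf a = m
  a_t : Commute a T.t
  a_u : Commute a u
  order_x : orderOf x = 2
  x_t : Commute x T.t
  x_u : Commute x u
  x_a : x * a * x⁻¹ = a⁻¹
  struct : ∀ g : G, Commute g T.t → Commute g u →
    (∃ e : G, (e = 1 ∨ e = T.t ∨ e = u ∨ e = T.t * u) ∧ ∃ i : ℤ, g = e * a ^ i) ∨
      (orderOf g = 2 ∧ g * a * g⁻¹ = a⁻¹)
  card : Nat.card ↥(centralizer ({T.t} : Set G) ⊓ centralizer ({u} : Set G)) = 8 * m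

theorem exists_frame {u : G} (hu : orderOf u = 2) (hc : Commute u T.t) (hne : u ≠ T.t) :
    ∃ F : VFrame T, F.u = u := by
  classical
  obtain ⟨u₀, hu₀K, hu₀⟩ : ∃ u₀ ∈ T.K, u₀ = u ∨ u₀ = T.t * u := by
    rcases T.mem_or u hc with h | h
    · exact ⟨u, h, Or.inl rfl⟩
    · exact ⟨_, h, Or.inr rfl⟩
  have hu2 := Invol.invol_mul_self hu
  have hcomm : ∀ g, Commute g T.t → (Commute g u ↔ Commute g u₀) := by
    intro g hg
    rcases hu₀ with rfl | rfl
    · rfl
    · refine ⟨fun h => hg.mul_right h, fun h => ?_⟩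
      have h1 := hg.mul_right h
      rwa [← mul_assoc, T.t_sq, one_mul] at h1
  have hu₀o : orderOf u₀ = 2 := by
    rcases hu₀ with rfl | rfl
    · exact hu
    · refine orderOf_eq_prime (by rw [hc.symm.mul_pow, pow_two, pow_two, T.t_sq, hu2, one_mul]) ?_
      exact fun e => hne ((eq_inv_of_mul_eq_one_left e).trans (Invol.invol_inv hu)).symm
  obtain ⟨w, hw, hwu, hcard, hwC, hall, x, hx, hxw⟩ :=
    T.kit.invol_torus (u := (⟨u₀, hu₀K⟩ : T.K)) (by rw [Subgroup.orderOf_mk, hu₀o])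
  have hwt : Commute (w : G) T.t := T.comm_t _ w.2
  have hwu₀ : Commute (w : G) u₀ :=
    congrArg Subtype.val (mem_centralizer_singleton_iff.1 (hwC (mem_zpowers w)))
  have hxu₀ : Commute (x : G) u₀ := congrArg Subtype.val (mem_centralizer_singleton_iff.1 hx)
  obtain ⟨hxinv, hxo⟩ := hall x hx hxw
  have ha : orderOf ((w : G) ^ 2) = m := by
    rw [orderOf_pow, Subgroup.orderOf_coe, hw, Nat.gcd_mul_right_left,
      Nat.mul_div_cancel_left _ two_pos]
  have hgw : ∀ y : T.K, y * w * y⁻¹ = w⁻¹ → (y : G) * (w : G) ^ 2 * (y : G)⁻¹ = ((w : G) ^ 2)⁻¹ := by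
    intro y hy
    have h1 : (y : G) * w * (y : G)⁻¹ = (w : G)⁻¹ := congrArg Subtype.val hy
    rw [← conj_pow, h1, inv_pow]
  refine ⟨⟨u, (w : G) ^ 2, x, hu, hc, hne, ha, hwt.pow_left 2,
    ((hcomm _ (hwt.pow_left 2)).2 (hwu₀.pow_left 2)), (Subgroup.orderOf_coe x).trans hxo,
    T.comm_t _ x.2, (hcomm _ (T.comm_t _ x.2)).2 hxu₀, hgw x hxinv, ?_, ?_⟩, rfl⟩
  · intro g hgt hgu
    obtain ⟨y, hy⟩ := T.exists_split hgt
    have hyu : y ∈ centralizer ({(⟨u₀, hu₀K⟩ : T.K)} : Set T.K) := by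
      rw [mem_centralizer_singleton_iff]
      apply Subtype.ext
      have h1 : Commute g u₀ := (hcomm g hgt).1 hgu
      have h2 : Commute T.t u₀ := (T.comm_t _ hu₀K).symm
      rcases hy with rfl | rfl
      · exact h1
      · have h3 := h2.mul_left h1
        rw [← mul_assoc, T.t_sq, one_mul] at h3
        exact h3
    by_cases hyw : y ∈ zpowers w
    · left
      obtain ⟨i, rfl⟩ := mem_zpowers_iff.1 hyw
      obtain ⟨j, hj⟩ := T.kit.m_odd
      have hwd : (w : G) = u₀ * ((w : G) ^ 2) ^ (-(j : ℤ)) := by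
        have h1 : u₀ = (w : G) ^ m := by
          have := congrArg Subtype.val hwu
          simpa using this.symm
        rw [h1, zpow_neg, zpow_natCast, ← pow_mul, eq_mul_inv_iff_mul_eq, ← pow_succ']
        exact (congrArg (fun i => (w : G) ^ i) hj).symm
      have hwi : ∃ e : G, (e = 1 ∨ e = u₀) ∧ ∃ l : ℤ, ((w ^ i : T.K) : G) = e * ((w : G) ^ 2) ^ l := by
        rcases Int.even_or_odd i with ⟨l, rfl⟩ | ⟨l, rfl⟩
        · refine ⟨1, Or.inl rfl, l, ?_⟩
          rw [one_mul, SubgroupClass.coe_zpow, ← two_mul, zpow_mul, zpow_two, pow_two]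
        · refine ⟨u₀, Or.inr rfl, l + -(j : ℤ), ?_⟩
          rw [SubgroupClass.coe_zpow, zpow_add (((w : G)) ^ 2), ← mul_assoc,
            ((hwu₀.symm.pow_right 2).zpow_right l).eq, mul_assoc, ← hwd, zpow_add, zpow_mul,
            zpow_two, pow_two, zpow_one]
      obtain ⟨e, he, l, hl⟩ := hwi
      rcases hy with rfl | rfl <;> rcases he with rfl | rfl
      · exact ⟨1, Or.inl rfl, l, hl⟩
      · refine ⟨e, ?_, l, hl⟩
        rcases hu₀ with rfl | rfl
        · exact Or.inr (Or.inr (Or.inl rfl))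
        · exact Or.inr (Or.inr (Or.inr rfl))
      · exact ⟨T.t, Or.inr (Or.inl rfl), l, by rw [hl, one_mul]⟩
      · refine ⟨T.t * e, ?_, l, by rw [hl, mul_assoc]⟩
        rcases hu₀ with rfl | rfl
        · exact Or.inr (Or.inr (Or.inr rfl))
        · exact Or.inr (Or.inr (Or.inl (by rw [← mul_assoc, T.t_sq, one_mul])))
    · right
      obtain ⟨hinv, hyo⟩ := hall y hyu hyw
      have hyo' : orderOf (y : G) = 2 := (Subgroup.orderOf_coe y).trans hyo
      rcases hy with rfl | rfl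
      · exact ⟨hyo', hgw y hinv⟩
      · refine ⟨orderOf_eq_prime ?_ ?_, ?_⟩
        · rw [(T.comm_t _ y.2).symm.mul_pow, pow_two, pow_two, T.t_sq, Invol.invol_mul_self hyo',
            one_mul]
        · exact fun e => T.not_mem (eq_inv_of_mul_eq_one_left e ▸ inv_mem y.2)
        · calc T.t * y * (w : G) ^ 2 * (T.t * y)⁻¹
              = T.t * ((y : G) * (w : G) ^ 2 * (y : G)⁻¹) * T.t⁻¹ := by group
            _ = ((w : G) ^ 2)⁻¹ := by
                rw [hgw y hinv, ((hwt.pow_left 2).inv_left.symm).eq, mul_inv_cancel_right]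
  · have h1 : centralizer ({T.t} : Set G) ⊓ centralizer ({u} : Set G) =
        centralizer ({T.t} : Set G) ⊓ centralizer ({u₀} : Set G) := by
      ext g
      simp only [mem_inf, mem_centralizer_singleton_iff]
      exact and_congr_right fun hg => hcomm g hg
    rw [h1, T.card_cent_inf ⟨u₀, hu₀K⟩, hcard]
    ring

namespace VFrame

variable {T} (F : VFrame T)

/-- The three involutions of the four-group. -/
def InV (g : G) : Prop := g = T.t ∨ g = F.u ∨ g = T.t * F.u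

theorem u_sq : F.u * F.u = 1 := Invol.invol_mul_self F.order_u

theorem order_tu : orderOf (T.t * F.u) = 2 :=
  orderOf_eq_prime (by rw [F.comm_u.symm.mul_pow, pow_two, pow_two, T.t_sq, F.u_sq, one_mul])
    fun e => F.ne ((eq_inv_of_mul_eq_one_left e).trans (Invol.invol_inv F.order_u)).symm

theorem tu_ne_t : T.t * F.u ≠ T.t := fun e =>
  Invol.invol_ne_one F.order_u (mul_eq_left.1 e)

theorem tu_ne_u : T.t * F.u ≠ F.u := fun e =>
  Invol.invol_ne_one T.order_t (mul_eq_right.1 e)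

theorem t_mul_tu : T.t * (T.t * F.u) = F.u := by rw [← mul_assoc, T.t_sq, one_mul]

theorem u_mul_tu : F.u * (T.t * F.u) = T.t := by
  rw [← mul_assoc, F.comm_u.eq, mul_assoc, F.u_sq, mul_one]

theorem InV.order {g : G} (h : F.InV g) : orderOf g = 2 := by
  rcases h with rfl | rfl | rfl
  exacts [T.order_t, F.order_u, F.order_tu]

theorem InV.commute {g h : G} (hg : F.InV g) (hh : F.InV h) : Commute g h := by
  have h1 : Commute F.u T.t := F.comm_u
  have ht : Commute T.t (T.t * F.u) := (Commute.refl _).mul_right h1.symm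
  have hu : Commute F.u (T.t * F.u) := h1.mul_right (Commute.refl _)
  rcases hg with rfl | rfl | rfl <;> rcases hh with rfl | rfl | rfl
  exacts [Commute.refl _, h1.symm, ht, h1, Commute.refl _, hu, ht.symm, hu.symm, Commute.refl _]

theorem a_comm {g : G} (hg : F.InV g) : Commute F.a g := by
  rcases hg with rfl | rfl | rfl
  exacts [F.a_t, F.a_u, F.a_t.mul_right F.a_u]

theorem a_pow_m : F.a ^ m = 1 := by
  have := pow_orderOf_eq_one F.a
  rwa [F.order_a] at this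

theorem a_zpow_pow_m (i : ℤ) : (F.a ^ i) ^ m = 1 := by
  rw [← zpow_natCast, ← zpow_mul, mul_comm, zpow_mul, zpow_natCast, F.a_pow_m, one_zpow]

/-- Elements of odd order centralizing the four-group lie in `⟨a⟩`. -/
theorem mem_A_of_odd {g : G} (ht : Commute g T.t) (hu : Commute g F.u) (ho : Odd (orderOf g)) :
    g ∈ zpowers F.a := by
  rcases F.struct g ht hu with ⟨e, he, i, rfl⟩ | ⟨h2, -⟩
  · rcases eq_or_ne e 1 with rfl | hne
    · rw [one_mul]; exact zpow_mem (mem_zpowers _) _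
    exfalso
    have heV : F.InV e := he.resolve_left hne
    have hec : Commute e (F.a ^ i) := ((F.a_comm heV).zpow_left i).symm
    have h1 : (F.a ^ i) ^ m = 1 := by
      rw [← zpow_natCast, ← zpow_mul, mul_comm, zpow_mul, zpow_natCast, F.a_pow_m,
        one_zpow]
    have h2 : e ^ (orderOf (e * F.a ^ i) * m) = 1 := by
      have h3 : (e * F.a ^ i) ^ (orderOf (e * F.a ^ i) * m) = 1 := by
        rw [pow_mul, pow_orderOf_eq_one, one_pow]
      rwa [hec.mul_pow, mul_comm _ m, pow_mul (F.a ^ i), h1, one_pow, mul_one, mul_comm m] at h3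
    have h4 := orderOf_dvd_of_pow_eq_one h2
    rw [VFrame.InV.order F heV] at h4
    exact Nat.not_even_iff_odd.2 (ho.mul T.kit.m_odd) (even_iff_two_dvd.2 h4)
  · rw [h2] at ho
    exact absurd ho (by decide)

theorem inverts_of_invol {g : G} (ht : Commute g T.t) (hu : Commute g F.u) (h2 : orderOf g = 2)
    (hV : ¬ F.InV g) : g * F.a * g⁻¹ = F.a⁻¹ := by
  rcases F.struct g ht hu with ⟨e, he, i, rfl⟩ | ⟨-, h⟩
  · exfalso
    have hec : Commute e (F.a ^ i) := by
      rcases eq_or_ne e 1 with rfl | hne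
      · exact Commute.one_left _
      · exact ((F.a_comm (he.resolve_left hne)).zpow_left i).symm
    have he2 : e ^ 2 = 1 := by
      rcases eq_or_ne e 1 with rfl | hne
      · exact one_pow 2
      · rw [← VFrame.InV.order F (he.resolve_left hne), pow_orderOf_eq_one]
    have h3 : (e * F.a ^ i) ^ 2 = 1 := by rw [← h2, pow_orderOf_eq_one]
    rw [hec.mul_pow, he2, one_mul] at h3
    have h4 : (F.a ^ i) ^ m = 1 := by
      rw [← zpow_natCast, ← zpow_mul, mul_comm, zpow_mul, zpow_natCast, F.a_pow_m,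
        one_zpow]
    have h5 : F.a ^ i = 1 := orderOf_eq_one_iff.1 (Nat.eq_one_of_dvd_coprimes
      (Nat.coprime_two_left.2 T.kit.m_odd) (orderOf_dvd_of_pow_eq_one h3)
      (orderOf_dvd_of_pow_eq_one h4))
    rw [h5, mul_one] at hV h2
    refine hV (he.resolve_left fun e1 => ?_)
    rw [e1, orderOf_one] at h2
    norm_num at h2
  · exact h

theorem a_ne_inv : F.a ≠ F.a⁻¹ := fun e => by
  have h : F.a ^ 2 = 1 := by rw [pow_two]; nth_rw 2 [e]; exact mul_inv_cancel _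
  have := Nat.eq_one_of_dvd_coprimes (Nat.coprime_two_left.2 T.kit.m_odd)
    (orderOf_dvd_of_pow_eq_one h) (dvd_of_eq F.order_a)
  have := F.order_a
  have := T.one_lt_m
  omega

/-- The involutions of `C(t) ∩ C(u)` outside the four-group. -/
def outer : Set G := {g | Commute g T.t ∧ Commute g F.u ∧ orderOf g = 2 ∧ ¬ F.InV g}

theorem x_mem_outer : F.x ∈ F.outer := ⟨F.x_t, F.x_u, F.order_x, fun h => F.a_ne_inv (by
  rw [← F.x_a, ← (F.a_comm h).eq, mul_inv_cancel_right])⟩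

theorem card_parts : Nat.card ↥(centralizer ({T.t} : Set G) ⊓ centralizer ({F.u} : Set G) ⊓
    centralizer ({F.a} : Set G)) = 4 * m ∧ Nat.card F.outer = 4 * m := by
  classical
  set H := centralizer ({T.t} : Set G) ⊓ centralizer ({F.u} : Set G) with hH
  have hmem : ∀ {g : G}, g ∈ H ↔ Commute g T.t ∧ Commute g F.u := fun {g} => by
    rw [hH, mem_inf, mem_centralizer_singleton_iff, mem_centralizer_singleton_iff]
    rfl
  let P : H → Prop := fun g => Commute (g : G) F.a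
  have hx : F.x ∈ H := hmem.2 ⟨F.x_t, F.x_u⟩
  have hinv : ∀ g : H, ¬ P g → (g : G) ∈ F.outer := by
    rintro ⟨g, hg⟩ hP
    obtain ⟨ht, hu⟩ := hmem.1 hg
    rcases F.struct g ht hu with ⟨e, he, i, rfl⟩ | ⟨h2, hi⟩
    · refine absurd ?_ hP
      show Commute (e * F.a ^ i) F.a
      refine Commute.mul_left ?_ ((Commute.refl F.a).zpow_left i)
      rcases eq_or_ne e 1 with rfl | hne
      · exact Commute.one_left _
      · exact (F.a_comm (he.resolve_left hne)).symm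
    · exact ⟨ht, hu, h2, fun hV => hP (F.a_comm hV).symm⟩
  have hxa : F.x * F.a⁻¹ * F.x⁻¹ = F.a := by rw [← conj_inv, F.x_a, inv_inv]
  have hswap : ∀ g : H, P g ↔ ¬ P (⟨F.x, hx⟩ * g) := by
    intro g
    have hi : ∀ g' : H, ¬ P g' → (g' : G) * F.a * (g' : G)⁻¹ = F.a⁻¹ := fun g' hg' => by
      obtain ⟨h1, h2, h3, h4⟩ := hinv g' hg'
      exact F.inverts_of_invol h1 h2 h3 h4
    constructor
    · intro hg hxg
      have h1 : F.x * (g : G) * F.a = F.a * (F.x * g) := hxg.eq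
      rw [mul_assoc, hg.eq, ← mul_assoc, ← mul_assoc F.a] at h1
      have h2 := mul_right_cancel h1
      exact F.a_ne_inv (by rw [← F.x_a, h2, mul_inv_cancel_right])
    · intro h
      by_contra hg
      apply h
      show Commute (F.x * (g : G)) F.a
      calc F.x * (g : G) * F.a = F.x * ((g : G) * F.a * (g : G)⁻¹) * g := by group
        _ = (F.x * F.a⁻¹ * F.x⁻¹) * (F.x * g) := by rw [hi g hg]; group
        _ = F.a * (F.x * g) := by rw [hxa]
  have he : {g : H // P g} ≃ {g : H // ¬ P g} :=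
    (Equiv.mulLeft (⟨F.x, hx⟩ : H)).subtypeEquiv fun g => hswap g
  have h8 : Nat.card {g : H // P g} + Nat.card {g : H // ¬ P g} = 8 * m := by
    rw [← Nat.card_sum, Nat.card_congr (Equiv.sumCompl P), F.card]
  have hout : Nat.card F.outer = Nat.card {g : H // ¬ P g} := by
    refine Nat.card_congr ⟨fun g => ⟨⟨g.1, hmem.2 ⟨g.2.1, g.2.2.1⟩⟩, fun hP => ?_⟩,
      fun g => ⟨g.1.1, hinv g.1 g.2⟩, fun g => rfl, fun g => rfl⟩
    have h1 := F.inverts_of_invol g.2.1 g.2.2.1 g.2.2.2.1 g.2.2.2.2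
    rw [show (g : G) * F.a = F.a * g from hP.eq, mul_inv_cancel_right] at h1
    exact F.a_ne_inv h1
  have hD : Nat.card ↥(H ⊓ centralizer ({F.a} : Set G)) = Nat.card {g : H // P g} := by
    refine Nat.card_congr ⟨fun g => ⟨⟨g.1, g.2.1⟩, mem_centralizer_singleton_iff.1 g.2.2⟩,
      fun g => ⟨g.1.1, g.1.2, mem_centralizer_singleton_iff.2 g.2.eq⟩, fun g => rfl, fun g => rfl⟩
  rw [hD, hout]
  rw [Nat.card_congr he] at h8 ⊢
  omega

theorem card_outer : Nat.card F.outer = 4 * m := F.card_parts.2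

/-- The possible actions on the four-group. -/
theorem perm_cases {g : G} (ht : F.InV (g * T.t * g⁻¹)) (hu : F.InV (g * F.u * g⁻¹)) :
    (g * T.t * g⁻¹ = T.t ∧ g * F.u * g⁻¹ = F.u) ∨
      (g * T.t * g⁻¹ = F.u ∧ g * F.u * g⁻¹ = T.t * F.u) ∨
      (g * T.t * g⁻¹ = T.t * F.u ∧ g * F.u * g⁻¹ = T.t) := by
  have hprod : g * (T.t * F.u) * g⁻¹ = (g * T.t * g⁻¹) * (g * F.u * g⁻¹) := conj_mul.symm
  have hne : g * T.t * g⁻¹ ≠ g * F.u * g⁻¹ := fun e => F.ne (mul_left_cancel (mul_right_cancel e)).symm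
  rcases ht with h1 | h1 | h1 <;> rcases hu with h2 | h2 | h2
  · exact absurd (h1.trans h2.symm) hne
  · exact Or.inl ⟨h1, h2⟩
  · exfalso
    refine T.no_swap F.u_sq (Invol.invol_mul_self F.order_tu)
      (F.comm_u.mul_right (Commute.refl _)) F.tu_ne_u.symm h2 ?_
    rw [hprod, h1, h2, F.t_mul_tu]
  · exfalso
    exact T.no_swap T.t_sq F.u_sq F.comm_u.symm F.ne.symm h1 h2
  · exact absurd (h1.trans h2.symm) hne
  · exact Or.inr (Or.inl ⟨h1, h2⟩)
  · exact Or.inr (Or.inr ⟨h1, h2⟩)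
  · exfalso
    refine T.no_swap T.t_sq (Invol.invol_mul_self F.order_tu)
      ((Commute.refl _).mul_right F.comm_u.symm) F.tu_ne_t.symm h1 ?_
    rw [hprod, h1, h2, mul_assoc, F.u_sq, mul_one]
  · exact absurd (h1.trans h2.symm) hne

theorem inV_conj {g : G} (ht : F.InV (g * T.t * g⁻¹)) (hu : F.InV (g * F.u * g⁻¹)) {x : G}
    (hx : F.InV x) : F.InV (g * x * g⁻¹) := by
  have hprod : g * (T.t * F.u) * g⁻¹ = (g * T.t * g⁻¹) * (g * F.u * g⁻¹) := conj_mul.symm
  rcases hx with rfl | rfl | rfl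
  · exact ht
  · exact hu
  · rcases F.perm_cases ht hu with ⟨h1, h2⟩ | ⟨h1, h2⟩ | ⟨h1, h2⟩ <;> rw [hprod, h1, h2]
    · exact Or.inr (Or.inr rfl)
    · exact Or.inl F.u_mul_tu
    · refine Or.inr (Or.inl ?_)
      rw [mul_assoc, F.comm_u.eq, ← mul_assoc, T.t_sq, one_mul]

/-- An element permuting the four-group cyclically. -/
theorem exists_cycle :
    ∃ y : G, y * T.t * y⁻¹ = F.u ∧ y * F.u * y⁻¹ = T.t * F.u := by
  obtain ⟨g, hg⟩ := isConj_iff.1 (T.conj F.u F.order_u)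
  obtain ⟨T', hT'⟩ := T.exists_setup F.order_u
  set x := g * F.u * g⁻¹ with hx
  have hxo : orderOf x = 2 := Invol.invol_conj F.order_u g
  have hxu : Commute x T'.t := by
    rw [hT']
    have := F.comm_u.map (MulAut.conj g)
    simp only [MulAut.conj_apply, hg] at this
    exact this
  have hxne : x ≠ T'.t := fun e => F.ne (mul_left_cancel (mul_right_cancel
    ((hx.symm.trans (e.trans hT')).trans hg.symm)))
  -- representatives in `K'` of `x` and `t`
  have hrep : ∀ y : G, orderOf y = 2 → Commute y T'.t → y ≠ T'.t →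
      ∃ y₀ : T'.K, orderOf y₀ = 2 ∧ ((y₀ : G) = y ∨ (y₀ : G) = T'.t * y) := by
    intro y hy hyc hyne
    rcases T'.mem_or y hyc with h | h
    · exact ⟨⟨y, h⟩, by rw [Subgroup.orderOf_mk, hy], Or.inl rfl⟩
    · refine ⟨⟨_, h⟩, ?_, Or.inr rfl⟩
      rw [Subgroup.orderOf_mk]
      refine orderOf_eq_prime
        (by rw [hyc.symm.mul_pow, pow_two, pow_two, T'.t_sq, Invol.invol_mul_self hy, one_mul]) ?_
      exact fun e => hyne ((eq_inv_of_mul_eq_one_left e).trans (Invol.invol_inv hy)).symm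
  obtain ⟨x₀, hx₀, hx₀x⟩ := hrep x hxo hxu hxne
  obtain ⟨t₀, ht₀, ht₀t⟩ := hrep T.t T.order_t (by rw [hT']; exact F.comm_u.symm)
    (by rw [hT']; exact F.ne.symm)
  obtain ⟨c, hc⟩ := isConj_iff.1 (T'.kit.conj x₀ t₀ hx₀ ht₀)
  have hcu : (c : G) * F.u * (c : G)⁻¹ = F.u := by
    rw [← hT', (T'.comm_t _ c.2).eq, mul_inv_cancel_right]
  have hc' : (c : G) * x₀ * (c : G)⁻¹ = t₀ := congrArg Subtype.val hc
  have htu' : F.u * T.t = T.t * F.u := F.comm_u.eq
  have hcx : F.InV ((c : G) * x * (c : G)⁻¹) := by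
    rw [hT'] at hx₀x ht₀t
    rcases hx₀x with e1 | e1 <;> rcases ht₀t with e2 | e2 <;> rw [e1, e2] at hc'
    · exact Or.inl hc'
    · exact Or.inr (Or.inr (hc'.trans htu'))
    · refine Or.inr (Or.inr ?_)
      rw [← conj_mul, hcu] at hc'
      calc (c : G) * x * (c : G)⁻¹ = F.u * (F.u * ((c : G) * x * (c : G)⁻¹)) := by
            rw [← mul_assoc F.u F.u, F.u_sq, one_mul]
        _ = F.u * T.t := by rw [hc']
        _ = T.t * F.u := htu'
    · rw [← conj_mul, hcu] at hc'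
      exact Or.inl (mul_left_cancel hc')
  set y := (c : G) * g with hy
  have hyt : y * T.t * y⁻¹ = F.u := by
    calc y * T.t * y⁻¹ = (c : G) * (g * T.t * g⁻¹) * (c : G)⁻¹ := by rw [hy]; group
      _ = F.u := by rw [hg, hcu]
  have hyu : y * F.u * y⁻¹ = (c : G) * x * (c : G)⁻¹ := by rw [hy, hx]; group
  have hcyc : y * T.t * y⁻¹ = F.u ∧ y * F.u * y⁻¹ = T.t * F.u := by
    rcases F.perm_cases (hyt ▸ Or.inr (Or.inl rfl)) (hyu ▸ hcx) with ⟨h1, -⟩ | h | ⟨h1, -⟩
    · exact absurd (hyt.symm.trans h1) F.ne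
    · exact h
    · exact absurd (hyt.symm.trans h1).symm F.tu_ne_u
  obtain ⟨h1, h2⟩ := hcyc
  exact ⟨y, h1, h2⟩

/-- The outer involutions are conjugate under `⟨a⟩` to `x` times an element of the four-group. -/
theorem outer_form {g : G} (hg : g ∈ F.outer) :
    ∃ c ∈ zpowers F.a, ∃ e : G, (e = 1 ∨ F.InV e) ∧ c * g * c⁻¹ = e * F.x := by
  obtain ⟨ht, hu, h2, hV⟩ := hg
  have hxt := F.x_t
  have hgi := F.inverts_of_invol ht hu h2 hV
  have hxinv : F.x⁻¹ = F.x := Invol.invol_inv F.order_x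
  rcases F.struct (g * F.x) (ht.mul_left hxt) (hu.mul_left F.x_u) with ⟨e, he, i, hi⟩ | ⟨-, h⟩
  swap
  · exfalso
    apply F.a_ne_inv
    rw [← h, show g * F.x * F.a * (g * F.x)⁻¹ = g * (F.x * F.a * F.x⁻¹) * g⁻¹ by group, F.x_a,
      ← conj_inv, hgi, inv_inv]
  obtain ⟨j, hj⟩ : ∃ j : ℤ, F.a ^ (2 * j) = F.a ^ (-i) := by
    obtain ⟨l, hl⟩ := T.kit.m_odd
    refine ⟨-i * (l + 1), ?_⟩
    have h1 : F.a ^ ((2 * l + 2 : ℕ)) = F.a := by
      rw [show 2 * l + 2 = m + 1 by omega, pow_succ, F.a_pow_m, one_mul]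
    rw [show 2 * (-i * ((l : ℤ) + 1)) = ((2 * l + 2 : ℕ) : ℤ) * (-i) by push_cast; ring, zpow_mul,
      zpow_natCast, h1]
  have hge : g = e * F.a ^ i * F.x := by
    rw [← hi, mul_assoc, Invol.invol_mul_self F.order_x, mul_one]
  refine ⟨F.a ^ j, zpow_mem (mem_zpowers _) _, e, ?_, ?_⟩
  · rcases he with h | h
    · exact Or.inl h
    · exact Or.inr h
  have hec : Commute (F.a ^ j) e := by
    rcases eq_or_ne e 1 with rfl | hne
    · exact Commute.one_right _
    · exact (F.a_comm (he.resolve_left hne)).zpow_left j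
  have hxj : F.x * (F.a ^ j)⁻¹ = F.a ^ j * F.x := by
    have h1 : F.x * F.a ^ (-j) * F.x⁻¹ = F.a ^ j := by
      rw [← conj_zpow, F.x_a, inv_zpow', neg_neg]
    rw [← zpow_neg]
    conv_rhs => rw [← h1, inv_mul_cancel_right]
  calc F.a ^ j * g * (F.a ^ j)⁻¹ = F.a ^ j * e * F.a ^ i * (F.x * (F.a ^ j)⁻¹) := by rw [hge]; group
    _ = e * (F.a ^ (j + i + j)) * F.x := by rw [hec.eq, hxj]; group
    _ = e * F.x := by rw [show j + i + j = 2 * j + i by ring, zpow_add, hj, zpow_neg, inv_mul_cancel, mul_one]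

theorem mem_outer_mul {e : G} (he : e = 1 ∨ F.InV e) : e * F.x ∈ F.outer := by
  obtain ⟨h1, h2, h3, h4⟩ := F.x_mem_outer
  rcases he with rfl | he
  · rw [one_mul]; exact F.x_mem_outer
  have hec : Commute e F.x := by
    rcases he with rfl | rfl | rfl
    exacts [F.x_t.symm, F.x_u.symm, (F.x_t.mul_right F.x_u).symm]
  refine ⟨(he.commute F (Or.inl rfl)).mul_left h1, (he.commute F (Or.inr (Or.inl rfl))).mul_left h2,
    ?_, fun hV => ?_⟩
  · refine orderOf_eq_prime ?_ fun e1 => h4 ?_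
    · rw [hec.mul_pow, pow_two, pow_two, Invol.invol_mul_self (he.order F),
        Invol.invol_mul_self h3, one_mul]
    · rw [eq_inv_of_mul_eq_one_right e1, Invol.invol_inv (he.order F)]
      exact he
  · have ha : Commute F.a (e * F.x) := F.a_comm hV
    have hax : Commute F.a F.x := by
      have := (F.a_comm he).mul_right ha
      rwa [← mul_assoc, Invol.invol_mul_self (he.order F), one_mul] at this
    exact F.a_ne_inv (by rw [← F.x_a, hax.symm.eq, mul_inv_cancel_right])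

/-- An element of order three permuting the four-group cyclically and centralizing an outer
involution. -/
theorem exists_tau :
    ∃ τ : G, orderOf τ = 3 ∧ τ * T.t * τ⁻¹ = F.u ∧ τ * F.u * τ⁻¹ = T.t * F.u ∧
      ∃ e : G, (e = 1 ∨ F.InV e) ∧ Commute τ (e * F.x) := by
  obtain ⟨y, h1, h2⟩ := F.exists_cycle
  have h3 : y * (T.t * F.u) * y⁻¹ = T.t := by rw [← conj_mul, h1, h2, F.u_mul_tu]
  obtain ⟨hxt, hxu, hxo, hxV⟩ := F.x_mem_outer
  have hty : F.InV (y * T.t * y⁻¹) := Or.inr (Or.inl h1)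
  have huy : F.InV (y * F.u * y⁻¹) := Or.inr (Or.inr h2)
  have hback : ∀ x, F.InV x → ∃ x', F.InV x' ∧ y * x' * y⁻¹ = x := by
    rintro x (rfl | rfl | rfl)
    exacts [⟨_, Or.inr (Or.inr rfl), h3⟩, ⟨_, Or.inl rfl, h1⟩, ⟨_, Or.inr (Or.inl rfl), h2⟩]
  have hym : y * F.x * y⁻¹ ∈ F.outer := by
    have hall : ∀ x, F.InV x → Commute (y * F.x * y⁻¹) x := by
      intro x hx
      obtain ⟨x', hx', rfl⟩ := hback x hx
      have hc : Commute F.x x' := by
        rcases hx' with rfl | rfl | rfl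
        exacts [hxt, hxu, hxt.mul_right hxu]
      exact hc.map (MulAut.conj y)
    refine ⟨hall _ (Or.inl rfl), hall _ (Or.inr (Or.inl rfl)), Invol.invol_conj hxo y, fun hV => hxV ?_⟩
    obtain ⟨x', hx', e'⟩ := hback _ hV
    rwa [mul_left_cancel (mul_right_cancel e')] at hx'
  obtain ⟨c, hc, e, he, hce⟩ := F.outer_form hym
  obtain ⟨i, rfl⟩ := mem_zpowers_iff.1 hc
  set z := F.a ^ i * y with hz
  have haV : ∀ x, F.InV x → F.a ^ i * x * (F.a ^ i)⁻¹ = x := fun x hx => by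
    rw [((F.a_comm hx).zpow_left i).eq, mul_inv_cancel_right]
  have hzc : ∀ x, F.InV x → F.InV (y * x * y⁻¹) → z * x * z⁻¹ = y * x * y⁻¹ := by
    intro x _ hyx
    rw [hz, show F.a ^ i * y * x * (F.a ^ i * y)⁻¹ = F.a ^ i * (y * x * y⁻¹) * (F.a ^ i)⁻¹ by group,
      haV _ hyx]
  have z1 : z * T.t * z⁻¹ = F.u := (hzc _ (Or.inl rfl) hty).trans h1
  have z2 : z * F.u * z⁻¹ = T.t * F.u := (hzc _ (Or.inr (Or.inl rfl)) huy).trans h2
  have z3 : z * (T.t * F.u) * z⁻¹ = T.t := by rw [← conj_mul, z1, z2, F.u_mul_tu]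
  have zx : z * F.x * z⁻¹ = e * F.x := by
    rw [← hce, hz]; group
  have p3 : ∀ x, F.InV x → Commute (z ^ 3) x := by
    intro x hx
    refine mul_inv_eq_iff_eq_mul.1 ?_
    rw [show z ^ 3 * x * (z ^ 3)⁻¹ = z * (z * (z * x * z⁻¹) * z⁻¹) * z⁻¹ by rw [pow_three]; group]
    rcases hx with rfl | rfl | rfl
    · rw [z1, z2, z3]
    · rw [z2, z3, z1]
    · rw [z3, z1, z2]
  -- the cube maps `x` to `f x`
  have hV1 : ∀ v, v = 1 ∨ F.InV v → z * v * z⁻¹ = 1 ∨ F.InV (z * v * z⁻¹) := by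
    rintro v (rfl | rfl | rfl | rfl)
    · exact Or.inl (by group)
    · exact Or.inr (Or.inr (Or.inl z1))
    · exact Or.inr (Or.inr (Or.inr z2))
    · exact Or.inr (Or.inl z3)
  have hmul : ∀ v w, (v = 1 ∨ F.InV v) → (w = 1 ∨ F.InV w) → (v * w = 1 ∨ F.InV (v * w)) := by
    intro v w hv hw
    have k1 : F.u * T.t = T.t * F.u := F.comm_u.eq
    have k2 : F.u * (T.t * F.u) = T.t := F.u_mul_tu
    have k3 : T.t * F.u * T.t = F.u := by rw [mul_assoc, k1, F.t_mul_tu]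
    have k4 : T.t * F.u * F.u = T.t := by rw [mul_assoc, F.u_sq, mul_one]
    have k5 : T.t * F.u * (T.t * F.u) = 1 := Invol.invol_mul_self F.order_tu
    rcases hv with rfl | rfl | rfl | rfl <;> rcases hw with rfl | rfl | rfl | rfl <;>
      simp [InV, T.t_sq, F.u_sq, F.t_mul_tu, k1, k2, k3, k4, k5]
  obtain ⟨f, hf, hfx⟩ : ∃ f, (f = 1 ∨ F.InV f) ∧ z ^ 3 * F.x * (z ^ 3)⁻¹ = f * F.x := by
    refine ⟨z * (z * e * z⁻¹) * z⁻¹ * (z * e * z⁻¹) * e, hmul _ _ (hmul _ _ (hV1 _ (hV1 _ he)) (hV1 _ he)) he, ?_⟩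
    rw [show z ^ 3 * F.x * (z ^ 3)⁻¹ = z * (z * (z * F.x * z⁻¹) * z⁻¹) * z⁻¹ by rw [pow_three]; group,
      zx, show z * (e * F.x) * z⁻¹ = z * e * z⁻¹ * (z * F.x * z⁻¹) by group, zx,
      show z * (z * e * z⁻¹ * (e * F.x)) * z⁻¹ =
        z * (z * e * z⁻¹) * z⁻¹ * (z * e * z⁻¹) * (z * F.x * z⁻¹) by group, zx]
    simp only [mul_assoc]
  have hf2 : f * f = 1 := by
    rcases hf with rfl | hf
    · exact one_mul 1
    · exact Invol.invol_mul_self (hf.order F)
  have h6x : Commute (z ^ 6) F.x := by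
    refine mul_inv_eq_iff_eq_mul.1 ?_
    have hfc : z ^ 3 * f * (z ^ 3)⁻¹ = f := by
      rcases hf with rfl | hf
      · group
      · rw [(p3 f hf).eq, mul_inv_cancel_right]
    rw [show z ^ 6 * F.x * (z ^ 6)⁻¹ = z ^ 3 * (z ^ 3 * F.x * (z ^ 3)⁻¹) * (z ^ 3)⁻¹ by group, hfx,
      show z ^ 3 * (f * F.x) * (z ^ 3)⁻¹ = z ^ 3 * f * (z ^ 3)⁻¹ * (z ^ 3 * F.x * (z ^ 3)⁻¹) by group,
      hfc, hfx, ← mul_assoc, hf2, one_mul]
  have h12 : z ^ 12 = 1 := by
    have h6 : ∀ x, F.InV x → Commute (z ^ 6) x := fun x hx => by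
      rw [show z ^ 6 = (z ^ 3) ^ 2 by rw [← pow_mul]]; exact (p3 x hx).pow_left 2
    rw [show z ^ 12 = z ^ 6 * z ^ 6 by rw [← pow_add]]
    rcases F.struct _ (h6 _ (Or.inl rfl)) (h6 _ (Or.inr (Or.inl rfl))) with ⟨v, hv, l, hl⟩ | ⟨h, -⟩
    · have hvc : Commute v F.x ∧ Commute v (F.a ^ l) ∧ v * v = 1 := by
        rcases eq_or_ne v 1 with rfl | hne
        · exact ⟨Commute.one_left _, Commute.one_left _, one_mul 1⟩
        · have hvV : F.InV v := hv.resolve_left hne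
          refine ⟨?_, ((F.a_comm hvV).zpow_left l).symm, Invol.invol_mul_self (hvV.order F)⟩
          rcases hvV with rfl | rfl | rfl
          exacts [hxt.symm, hxu.symm, (hxt.mul_right hxu).symm]
      have hal : F.x * F.a ^ l * F.x⁻¹ = F.a ^ l := by
        have h := hvc.1.inv_left.mul_left h6x
        rw [hl, ← mul_assoc, inv_mul_cancel, one_mul] at h
        rw [h.symm.eq, mul_inv_cancel_right]
      have hl1 : F.a ^ l = 1 := by
        rw [← conj_zpow, F.x_a, inv_zpow] at hal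
        have h2 : (F.a ^ l) ^ 2 = 1 := by
          rw [pow_two]
          conv_lhs => arg 1; rw [← hal]
          exact inv_mul_cancel _
        exact orderOf_eq_one_iff.1 (Nat.eq_one_of_dvd_coprimes (Nat.coprime_two_left.2 T.kit.m_odd)
          (orderOf_dvd_of_pow_eq_one h2) (orderOf_dvd_of_pow_eq_one (F.a_zpow_pow_m l)))
      rw [hl, hl1, mul_one, hvc.2.2]
    · rw [← pow_two, ← h, pow_orderOf_eq_one]
  set τ := z ^ 4 with hτ
  have hconj : ∀ x, F.InV x → τ * x * τ⁻¹ = z * x * z⁻¹ := by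
    intro x hx
    rw [hτ, pow_succ' z 3, show z * z ^ 3 * x * (z * z ^ 3)⁻¹ = z * (z ^ 3 * x * (z ^ 3)⁻¹) * z⁻¹ by group,
      (p3 x hx).eq, mul_inv_cancel_right]
  have t1 : τ * T.t * τ⁻¹ = F.u := (hconj _ (Or.inl rfl)).trans z1
  have t2 : τ * F.u * τ⁻¹ = T.t * F.u := (hconj _ (Or.inr (Or.inl rfl))).trans z2
  have t3 : τ * (T.t * F.u) * τ⁻¹ = T.t := by rw [← conj_mul, t1, t2, F.u_mul_tu]
  obtain ⟨k, hk, hkx⟩ : ∃ k, (k = 1 ∨ F.InV k) ∧ τ * F.x * τ⁻¹ = k * F.x := by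
    have hzf : z * f * z⁻¹ = 1 ∨ F.InV (z * f * z⁻¹) := hV1 f hf
    refine ⟨z * f * z⁻¹ * e, hmul _ _ hzf he, ?_⟩
    rw [hτ, pow_succ' z 3, show z * z ^ 3 * F.x * (z * z ^ 3)⁻¹ = z * (z ^ 3 * F.x * (z ^ 3)⁻¹) * z⁻¹ by group,
      hfx, show z * (f * F.x) * z⁻¹ = z * f * z⁻¹ * (z * F.x * z⁻¹) by group, zx]
    simp only [mul_assoc]
  refine ⟨τ, orderOf_eq_prime ?_ fun e1 => ?_, t1, t2, ?_⟩
  · rw [hτ, ← pow_mul, h12]
  · have := t1
    rw [e1, one_mul, inv_one, mul_one] at this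
    exact F.ne this.symm
  have hk' : ∃ v : G, (v = 1 ∨ F.InV v) ∧ τ * v * τ⁻¹ * k = v := by
    rcases hk with rfl | rfl | rfl | rfl
    · exact ⟨1, Or.inl rfl, by group⟩
    · exact ⟨F.u, Or.inr (Or.inr (Or.inl rfl)), by rw [t2, mul_assoc, F.comm_u.eq, ← mul_assoc, T.t_sq, one_mul]⟩
    · exact ⟨T.t * F.u, Or.inr (Or.inr (Or.inr rfl)), by rw [t3]⟩
    · exact ⟨T.t, Or.inr (Or.inl rfl), by rw [t1, F.u_mul_tu]⟩
  obtain ⟨v, hv, hvk⟩ := hk'
  refine ⟨v, hv, mul_inv_eq_iff_eq_mul.1 ?_⟩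
  rw [show τ * (v * F.x) * τ⁻¹ = τ * v * τ⁻¹ * (τ * F.x * τ⁻¹) by group, hkx, ← mul_assoc, hvk]

/-- The elements normalizing the four-group normalize `⟨a⟩`. -/
theorem conj_a_mem {g : G} (ht : F.InV (g * T.t * g⁻¹)) (hu : F.InV (g * F.u * g⁻¹)) :
    g * F.a * g⁻¹ ∈ zpowers F.a := by
  have hall : ∀ x, F.InV x → Commute (g * F.a * g⁻¹) x := by
    intro x hx
    -- `g` permutes the three involutions
    obtain ⟨y, hy, hyx⟩ : ∃ y, F.InV y ∧ g * y * g⁻¹ = x := by
      have hprod : g * (T.t * F.u) * g⁻¹ = (g * T.t * g⁻¹) * (g * F.u * g⁻¹) := conj_mul.symm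
      rcases F.perm_cases ht hu with ⟨h1, h2⟩ | ⟨h1, h2⟩ | ⟨h1, h2⟩ <;>
        rcases hx with rfl | rfl | rfl
      · exact ⟨_, Or.inl rfl, h1⟩
      · exact ⟨_, Or.inr (Or.inl rfl), h2⟩
      · exact ⟨_, Or.inr (Or.inr rfl), by rw [hprod, h1, h2]⟩
      · exact ⟨_, Or.inr (Or.inr rfl), by rw [hprod, h1, h2, F.u_mul_tu]⟩
      · exact ⟨_, Or.inl rfl, h1⟩
      · exact ⟨_, Or.inr (Or.inl rfl), h2⟩
      · exact ⟨_, Or.inr (Or.inl rfl), h2⟩
      · refine ⟨_, Or.inr (Or.inr rfl), ?_⟩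
        rw [hprod, h1, h2, mul_assoc, F.comm_u.eq, ← mul_assoc, T.t_sq, one_mul]
      · exact ⟨_, Or.inl rfl, h1⟩
    rw [← hyx]
    exact (F.a_comm hy).map (MulAut.conj g)
  refine F.mem_A_of_odd (hall _ (Or.inl rfl)) (hall _ (Or.inr (Or.inl rfl))) ?_
  rw [← MulAut.conj_apply, MulEquiv.orderOf_eq, F.order_a]
  exact T.kit.m_odd

end VFrame

end Setup

end CfsgLib.JTh
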