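import Cfsg.Agent.Lib.Ree.PSLKit

/-!
# The facts about `PSL(2, q)`, `q ≡ 3, 5 (mod 8)`

`2m` is the order of the torus containing involutions, `n` the order of the other one.
-/

set_option autoImplicit false
set_option linter.unusedSectionVars false

namespace CfsgLib.JTh

open Subgroup
open CfsgLib.ReeType (inverts_of_no_fixed commute_of_odd)

/-- What is used of `PSL(2, q)`, `q = p^f ≡ 3, 5 (mod 8)`, `q > 5`. -/
structure Kit (K : Type*) [Group K] (p q m n : ℕ) : Prop where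
  data : PSLSpectrum.Data K p q (2 * m) n
  conj : ∀ x y : K, orderOf x = 2 → orderOf y = 2 → IsConj x y
  m_odd : Odd m
  one_lt_m : 1 < m
  size : (q + 1 = 4 * m ∧ q = 2 * n + 1) ∨ (q = 4 * m + 1 ∧ q + 1 = 2 * n)

namespace Kit

variable {K : Type*} [Group K] [Finite K] {p q m n : ℕ} (h : Kit K p q m n)
include h

theorem two_not_m : ¬ 2 ∣ m := fun hd => Nat.not_even_iff_odd.2 h.m_odd (even_iff_two_dvd.2 hd)

theorem m_pos : 0 < m := by have := h.one_lt_m; omega

theorem card : Nat.card K = q * n * (4 * m) := by rw [h.data.card]; ring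

theorem p_odd : Odd p := h.data.prime_p.odd_of_ne_two h.data.p_ne_two

theorem invol_torus {u : K} (hu : orderOf u = 2) :
    ∃ w : K, orderOf w = 2 * m ∧ w ^ m = u ∧ Nat.card (centralizer ({u} : Set K)) = 4 * m ∧
      zpowers w ≤ centralizer ({u} : Set K) ∧
      (∀ g ∈ centralizer ({u} : Set K), g ∉ zpowers w → g * w * g⁻¹ = w⁻¹ ∧ orderOf g = 2) ∧
      ∃ g ∈ centralizer ({u} : Set K), g ∉ zpowers w := by
  obtain ⟨w₀, hw₀⟩ := h.data.exE
  let F : PSLSpectrum.Frame K p q (2 * m) n :=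
    ⟨h.data, w₀, 1, m, hw₀, le_rfl, h.m_odd, by rw [pow_one]⟩
  have hFt : F.t = w₀ ^ m := by
    show w₀ ^ (2 ^ (1 - 1) * m) = w₀ ^ m
    rw [Nat.sub_self, pow_zero, one_mul]
  obtain ⟨S, hS⟩ := F.exists_sylow
  obtain ⟨s, hsS, hsa, hs2, -⟩ := F.exists_inverting hS
  have hsw : s ∉ zpowers w₀ := fun hm' =>
    hsa ((F.invol_eq (Or.inr rfl) hm' hs2).symm ▸ F.t_mem_a)
  have hsC : s ∈ centralizer ({F.t} : Set K) := F.sylow_le hS hsS
  have hsn : ∀ a ∈ zpowers w₀, s * a * s⁻¹ ∈ zpowers w₀ := fun a ha =>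
    (mem_normalizer_iff.1 (F.cent_le_normalizer hS hsC) a).1 ha
  have hcommw : ∀ a ∈ zpowers w₀, ∀ b ∈ zpowers w₀, a * b = b * a := by
    rintro _ ⟨i, rfl⟩ _ ⟨j, rfl⟩
    exact ((Commute.refl w₀).zpow_zpow i j).eq
  have hs1 : s * s = 1 := by rw [← pow_two, ← hs2, pow_orderOf_eq_one]
  set A := zpowers (w₀ ^ 2) with hA
  have hAw : A ≤ zpowers w₀ := zpowers_le.2 (pow_mem (mem_zpowers _) _)
  have hAm : orderOf (w₀ ^ 2) = m := by
    rw [orderOf_pow, hw₀, Nat.gcd_mul_right_left, Nat.mul_div_cancel_left _ two_pos]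
  have hfix : ∀ a ∈ zpowers w₀, a ^ m = 1 → s * a = a * s → a = 1 := by
    intro a ha ham hsa'
    by_contra hne
    obtain ⟨r, hr, hrd⟩ := Nat.exists_prime_and_dvd (mt orderOf_eq_one_iff.1 hne)
    haveI := Fact.mk hr
    have hrm : r ∣ m := hrd.trans (orderOf_dvd_of_pow_eq_one ham)
    have hr2 : r ≠ 2 := fun e => h.two_not_m (e ▸ hrm)
    set z := a ^ (orderOf a / r) with hz
    have hzo : orderOf z = r := orderOf_pow_orderOf_div (orderOf_pos a).ne' hrd
    obtain ⟨P, hP⟩ := PSLSpectrum.exists_sylow_le (u := w₀) (k := q * n * 2)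
      (by rw [h.card, hw₀]; ring) (h.data.not_dvd_compl_E hr hr2 (dvd_mul_of_dvd_right hrm 2))
    obtain ⟨-, -, -, hyC⟩ := h.data.torus_E hr2 (dvd_mul_of_dvd_right hrm 2) P hw₀ hP
    have hzP : z ∈ (P : Subgroup K) := by
      have hrP : r ∣ Nat.card (P : Subgroup K) :=
        P.dvd_card_of_dvd_card (h.card ▸ dvd_mul_of_dvd_right (dvd_mul_of_dvd_right hrm _) _)
      obtain ⟨⟨y, hy⟩, hyo⟩ := exists_prime_orderOf_dvd_card' (G := (P : Subgroup K)) r hrP
      rw [orderOf_mk] at hyo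
      have := PSLSpectrum.eq_of_le_zpowers (u := w₀) (zpowers_le.2 (hP hy))
        (zpowers_le.2 (pow_mem ha _) : zpowers z ≤ zpowers w₀)
        (by rw [Nat.card_zpowers, Nat.card_zpowers, hyo, hzo])
      exact (zpowers_le.2 hy) (this ▸ mem_zpowers z)
    refine hsw (hyC z hzP hzo ▸ mem_centralizer_singleton_iff.2 ?_)
    exact ((show Commute s a from hsa').pow_right _).eq
  have hinv : ∀ a ∈ A, s * a * s⁻¹ = a⁻¹ := by
    refine inverts_of_no_fixed (fun a ha b hb => hcommw a (hAw ha) b (hAw hb)) (fun a ha => ?_)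
      (fun a _ => by rw [hs1, one_mul, mul_one]) fun a ha hc => hfix a (hAw ha) ?_ hc
    · obtain ⟨i, rfl⟩ := mem_zpowers_iff.1 ha
      obtain ⟨j, hj⟩ := mem_zpowers_iff.1 (hsn _ (mem_zpowers w₀))
      refine mem_zpowers_iff.2 ⟨i * j, ?_⟩
      rw [← conj_zpow, ← zpow_natCast w₀ 2, ← conj_zpow, ← hj, ← zpow_mul, ← zpow_mul, ← zpow_mul]
      congr 1
      push_cast
      ring
    · obtain ⟨i, rfl⟩ := mem_zpowers_iff.1 ha
      rw [← zpow_natCast, ← zpow_mul, mul_comm, zpow_mul, zpow_natCast, ← hAm, pow_orderOf_eq_one,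
        one_zpow]
  have hst : s * F.t * s⁻¹ = F.t⁻¹ := by
    rw [mem_centralizer_singleton_iff.1 hsC, mul_inv_cancel_right, Invol.invol_inv F.order_t]
  have hswinv : s * w₀ * s⁻¹ = w₀⁻¹ := by
    obtain ⟨j, hj⟩ := h.m_odd
    have hw : w₀ = F.t * ((w₀ ^ 2) ^ j)⁻¹ := by
      rw [hFt, ← pow_mul, eq_mul_inv_iff_mul_eq, ← pow_succ', hj]
    have h1 := hinv _ (inv_mem (pow_mem (mem_zpowers (w₀ ^ 2)) j))
    calc s * w₀ * s⁻¹ = (s * F.t * s⁻¹) * (s * ((w₀ ^ 2) ^ j)⁻¹ * s⁻¹) := by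
          conv_lhs => rw [hw]
          group
      _ = F.t⁻¹ * (((w₀ ^ 2) ^ j)⁻¹)⁻¹ := by rw [hst, h1]
      _ = w₀⁻¹ := by
          conv_rhs => rw [hw, mul_inv_rev]
          rw [hcommw _ (inv_mem F.t_mem) _ (by
            rw [inv_inv]; exact pow_mem (pow_mem (mem_zpowers _) _) _)]
  have hcard : Nat.card (centralizer ({F.t} : Set K)) = 4 * m := by
    rw [F.card_cent hS]; ring
  have hwC : zpowers w₀ ≤ centralizer ({F.t} : Set K) := PSLSpectrum.zpowers_le_centralizer F.t_mem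
  have hidx : ((zpowers w₀).subgroupOf (centralizer ({F.t} : Set K))).index = 2 := by
    have h1 := PSLSpectrum.card_mul_relIndex' hwC
    rw [hcard, Nat.card_zpowers, hw₀, show 4 * m = 2 * m * 2 by ring] at h1
    exact mul_left_cancel₀ (by have := h.m_pos; omega) h1
  have hall : ∀ g ∈ centralizer ({F.t} : Set K), g ∉ zpowers w₀ →
      g * w₀ * g⁻¹ = w₀⁻¹ ∧ orderOf g = 2 := by
    intro g hg hgw
    have hgs : s * g ∈ zpowers w₀ := by
      have := (mul_mem_iff_of_index_two hidx (a := ⟨s, hsC⟩) (b := ⟨g, hg⟩)).2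
        (iff_of_false (fun e => hsw (mem_subgroupOf.1 e)) fun e => hgw (mem_subgroupOf.1 e))
      exact mem_subgroupOf.1 this
    obtain ⟨i, hi⟩ := mem_zpowers_iff.1 hgs
    have hge : g = s * w₀ ^ i := by rw [hi, ← mul_assoc, hs1, one_mul]
    have hg1 : g * g = 1 := by
      rw [hge]
      calc s * w₀ ^ i * (s * w₀ ^ i) = s * w₀ ^ i * s⁻¹ * w₀ ^ i := by
            rw [inv_eq_of_mul_eq_one_right hs1]; group
        _ = 1 := by rw [← conj_zpow, hswinv, inv_zpow, inv_mul_cancel]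
    refine ⟨?_, orderOf_eq_prime (by rw [pow_two, hg1]) fun e => hgw (e ▸ one_mem _)⟩
    rw [hge, show s * w₀ ^ i * w₀ * (s * w₀ ^ i)⁻¹ = s * (w₀ ^ i * w₀ * (w₀ ^ i)⁻¹) * s⁻¹ by group,
      ((Commute.refl w₀).zpow_left i).eq, mul_inv_cancel_right, hswinv]
  obtain ⟨x, hx⟩ := isConj_iff.1 (h.conj _ _ F.order_t hu)
  refine ⟨MulAut.conj x w₀, ?_, ?_, ?_, ?_, ?_, ⟨MulAut.conj x s, ?_, ?_⟩⟩
  · rw [MulEquiv.orderOf_eq, hw₀]
  · rw [← map_pow, ← hFt, MulAut.conj_apply, hx]
  · rw [← hcard]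
    refine (Nat.card_congr ((MulAut.conj x).toEquiv.subtypeEquiv fun g => ?_)).symm
    show g ∈ centralizer ({F.t} : Set K) ↔ MulAut.conj x g ∈ centralizer ({u} : Set K)
    rw [mem_centralizer_singleton_iff, mem_centralizer_singleton_iff, ← hx, ← MulAut.conj_apply x F.t,
      ← map_mul, ← map_mul, (MulAut.conj x).injective.eq_iff]
  · rw [zpowers_le, mem_centralizer_singleton_iff, ← hx, ← MulAut.conj_apply, ← map_mul, ← map_mul,
      mem_centralizer_singleton_iff.1 (hwC (mem_zpowers _))]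
  · intro g hg hgw
    obtain ⟨g, rfl⟩ := (MulAut.conj x).surjective g
    have hg' : g ∈ centralizer ({F.t} : Set K) := by
      rw [mem_centralizer_singleton_iff, ← hx, ← MulAut.conj_apply, ← map_mul, ← map_mul] at hg
      exact mem_centralizer_singleton_iff.2 ((MulAut.conj x).injective hg)
    obtain ⟨h1, h2⟩ := hall g hg' fun e => hgw (by
      obtain ⟨i, rfl⟩ := mem_zpowers_iff.1 e
      rw [map_zpow]
      exact zpow_mem (mem_zpowers _) _)
    exact ⟨by rw [← map_inv, ← map_mul, ← map_mul, h1, map_inv],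
      (MulEquiv.orderOf_eq _ _).trans h2⟩
  · rw [mem_centralizer_singleton_iff, ← hx, ← MulAut.conj_apply, ← map_mul, ← map_mul,
      mem_centralizer_singleton_iff.1 hsC]
  · intro e
    obtain ⟨i, hi⟩ := mem_zpowers_iff.1 e
    rw [← map_zpow] at hi
    exact hsw ((MulAut.conj x).injective hi ▸ zpow_mem (mem_zpowers _) _)

theorem exists_commuting_invol {u : K} (hu : orderOf u = 2) :
    ∃ g : K, orderOf g = 2 ∧ g ≠ u ∧ Commute g u := by
  obtain ⟨w, -, hwu, -, -, hall, g, hg, hgw⟩ := h.invol_torus hu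
  exact ⟨g, (hall g hg hgw).2, fun e => hgw (e ▸ hwu ▸ pow_mem (mem_zpowers _) _),
    mem_centralizer_singleton_iff.1 hg⟩

theorem exists_invol : ∃ u : K, orderOf u = 2 := by
  haveI : Fact (Nat.Prime 2) := ⟨Nat.prime_two⟩
  exact exists_prime_orderOf_dvd_card' 2 (h.card ▸ dvd_mul_of_dvd_right (dvd_mul_of_dvd_left
    (by norm_num) m) _)

/-- The centralizer of an element of the torus of order `m`. -/
theorem cent_m {v : K} (hv : v ≠ 1) (hvm : orderOf v ∣ m) :
    ∃ w : K, orderOf w = 2 * m ∧ centralizer ({v} : Set K) = zpowers w := by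
  obtain ⟨r, hr, hrd⟩ := Nat.exists_prime_and_dvd (mt orderOf_eq_one_iff.1 hv)
  haveI := Fact.mk hr
  have hrm : r ∣ m := hrd.trans hvm
  have hr2 : r ≠ 2 := fun e => h.two_not_m (e ▸ hrm)
  set y := v ^ (orderOf v / r) with hy
  have hyo : orderOf y = r := orderOf_pow_orderOf_div (orderOf_pos v).ne' hrd
  obtain ⟨w₀, hw₀⟩ := h.data.exE
  obtain ⟨P, hP⟩ := (IsPGroup.of_card (G := zpowers y) (p := r) (n := 1)
    (by rw [Nat.card_zpowers, hyo, pow_one])).exists_le_sylow
  obtain ⟨w, hw, hPw⟩ := PSLSpectrum.exists_gen (u := w₀) (k := q * n * 2)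
    (by rw [h.card, hw₀]; ring) (h.data.not_dvd_compl_E hr hr2 (dvd_mul_of_dvd_right hrm 2)) P
  rw [hw₀] at hw
  obtain ⟨-, -, -, hyC⟩ := h.data.torus_E hr2 (dvd_mul_of_dvd_right hrm 2) P hw hPw
  have hCy := hyC y (hP (mem_zpowers y)) hyo
  refine ⟨w, hw, le_antisymm (fun a ha => ?_) (PSLSpectrum.zpowers_le_centralizer ?_)⟩
  · rw [← hCy]
    exact mem_centralizer_singleton_iff.2
      (Commute.pow_right (show Commute a v from mem_centralizer_singleton_iff.1 ha) _).eq
  · rw [← hCy, mem_centralizer_singleton_iff]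
    exact ((Commute.refl v).pow_right _).eq

/-- The centralizer of an element of the torus of order `n`. -/
theorem cent_n {v : K} (hv : v ≠ 1) (hvn : orderOf v ∣ n) :
    ∃ w : K, orderOf w = n ∧ centralizer ({v} : Set K) = zpowers w ∧
      Nat.card (normalizer (zpowers v : Set K)) = 2 * n ∧
      ∃ u : K, orderOf u = 2 ∧ ∀ a ∈ zpowers w, u * a * u⁻¹ = a⁻¹ := by
  obtain ⟨r, hr, hrd⟩ := Nat.exists_prime_and_dvd (mt orderOf_eq_one_iff.1 hv)
  haveI := Fact.mk hr
  have hrn : r ∣ n := hrd.trans hvn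
  set y := v ^ (orderOf v / r) with hy
  have hyo : orderOf y = r := orderOf_pow_orderOf_div (orderOf_pos v).ne' hrd
  obtain ⟨w₀, hw₀⟩ := h.data.exO
  obtain ⟨P, hP⟩ := (IsPGroup.of_card (G := zpowers y) (p := r) (n := 1)
    (by rw [Nat.card_zpowers, hyo, pow_one])).exists_le_sylow
  obtain ⟨w, hw, hPw⟩ := PSLSpectrum.exists_gen (u := w₀) (k := q * (2 * (2 * m)))
    (by rw [h.card, hw₀]; ring) (h.data.not_dvd_compl_O hr hrn) P
  rw [hw₀] at hw
  obtain ⟨hCP, hNP, -⟩ := h.data.torus_O hrn P hw hPw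
  have hyw : y ∈ zpowers w := hPw (hP (mem_zpowers y))
  have hCy := h.data.cent_eq_O hr hrn hw hyo hyw
  have hvw : v ∈ zpowers w := by
    rw [← hCy, mem_centralizer_singleton_iff]
    exact ((Commute.refl v).pow_right _).eq
  have hCv : centralizer ({v} : Set K) = zpowers w := by
    refine le_antisymm (fun a ha => ?_) (PSLSpectrum.zpowers_le_centralizer hvw)
    rw [← hCy]
    exact mem_centralizer_singleton_iff.2
      (Commute.pow_right (show Commute a v from mem_centralizer_singleton_iff.1 ha) _).eq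
  have hN : normalizer (zpowers v : Set K) = normalizer ((P : Subgroup K) : Set K) := by
    refine le_antisymm ?_ ?_
    · refine le_trans PSLSpectrum.normalizer_le_normalizer_centralizer ?_
      rw [hCv]
      exact PSLSpectrum.normalizer_zpowers_le hPw
    · refine le_trans (Coprime.normalizer_le_normalizer_centralizer _) ?_
      rw [hCP]
      exact PSLSpectrum.normalizer_zpowers_le (zpowers_le.2 hvw)
  refine ⟨w, hw, hCv, hN ▸ hNP, ?_⟩
  haveI : Fact (Nat.Prime 2) := ⟨Nat.prime_two⟩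
  obtain ⟨⟨u, hu⟩, huo⟩ := exists_prime_orderOf_dvd_card'
    (G := normalizer (zpowers v : Set K)) 2 (by rw [hN, hNP]; exact dvd_mul_right _ _)
  rw [orderOf_mk] at huo
  have hun : ∀ a ∈ zpowers w, u * a * u⁻¹ ∈ zpowers w := fun a ha => by
    have := PSLSpectrum.normalizer_le_normalizer_centralizer hu
    rw [hCv] at this
    exact (mem_normalizer_iff.1 this a).1 ha
  refine ⟨u, huo, inverts_of_no_fixed (fun a ha b hb => ?_) hun (fun a _ => ?_)
    fun a ha hc => ?_⟩
  · obtain ⟨i, rfl⟩ := mem_zpowers_iff.1 ha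
    obtain ⟨j, rfl⟩ := mem_zpowers_iff.1 hb
    exact ((Commute.refl w).zpow_zpow i j).eq
  · rw [show u * u = 1 by rw [← pow_two, ← huo, pow_orderOf_eq_one], one_mul, mul_one]
  · by_contra ha1
    obtain ⟨s, hs, hsd⟩ := Nat.exists_prime_and_dvd (mt orderOf_eq_one_iff.1 ha1)
    have han : orderOf a ∣ n := by
      rw [← hw, ← Nat.card_zpowers w]
      exact Subgroup.orderOf_dvd_natCard _ ha
    have h1 := h.data.cent_eq_O hs (hsd.trans han) hw
      (orderOf_pow_orderOf_div (orderOf_pos a).ne' hsd) (pow_mem ha _)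
    have huw : u ∈ zpowers w :=
      h1 ▸ mem_centralizer_singleton_iff.2 ((show Commute u a from hc).pow_right _).eq
    have h2 : orderOf u ∣ n := by
      rw [← hw, ← Nat.card_zpowers w]
      exact Subgroup.orderOf_dvd_natCard _ huw
    exact h.data.two_not_mo (huo ▸ h2)

/-- Elements of the same prime order dividing `n` generate conjugate subgroups. -/
theorem conj_n {r : ℕ} (hr : r.Prime) (hrn : r ∣ n) {v v' : K} (hv : orderOf v = r)
    (hv' : orderOf v' = r) : ∃ g : K, g * v' * g⁻¹ ∈ zpowers v := by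
  haveI := Fact.mk hr
  obtain ⟨w₀, hw₀⟩ := h.data.exO
  obtain ⟨P, hP⟩ := (IsPGroup.of_card (G := zpowers v) (p := r) (n := 1)
    (by rw [Nat.card_zpowers, hv, pow_one])).exists_le_sylow
  obtain ⟨P', hP'⟩ := (IsPGroup.of_card (G := zpowers v') (p := r) (n := 1)
    (by rw [Nat.card_zpowers, hv', pow_one])).exists_le_sylow
  obtain ⟨w, -, hPw⟩ := PSLSpectrum.exists_gen (u := w₀) (k := q * (2 * (2 * m)))
    (by rw [h.card, hw₀]; ring) (h.data.not_dvd_compl_O hr hrn) P
  obtain ⟨g, hg⟩ := MulAction.exists_smul_eq K P' P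
  refine ⟨g, ?_⟩
  have h1 : g * v' * g⁻¹ ∈ (P : Subgroup K) := by
    rw [← hg, Sylow.coe_subgroup_smul]
    exact mem_map_of_mem _ (hP' (mem_zpowers v'))
  have h2 := PSLSpectrum.eq_of_le_zpowers (u := w) (zpowers_le.2 (hPw h1))
    (zpowers_le.2 (hPw (hP (mem_zpowers v)))) (by
      rw [Nat.card_zpowers, Nat.card_zpowers, hv, ← MulAut.conj_apply, MulEquiv.orderOf_eq, hv'])
  exact h2 ▸ mem_zpowers _

/-- Elements of the same odd prime order dividing `m` generate conjugate subgroups. -/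
theorem conj_m {r : ℕ} (hr : r.Prime) (hrm : r ∣ m) {v v' : K} (hv : orderOf v = r)
    (hv' : orderOf v' = r) : ∃ g : K, g * v' * g⁻¹ ∈ zpowers v := by
  haveI := Fact.mk hr
  have hr2 : r ≠ 2 := fun e => h.two_not_m (e ▸ hrm)
  obtain ⟨w₀, hw₀⟩ := h.data.exE
  obtain ⟨P, hP⟩ := (IsPGroup.of_card (G := zpowers v) (p := r) (n := 1)
    (by rw [Nat.card_zpowers, hv, pow_one])).exists_le_sylow
  obtain ⟨P', hP'⟩ := (IsPGroup.of_card (G := zpowers v') (p := r) (n := 1)
    (by rw [Nat.card_zpowers, hv', pow_one])).exists_le_sylow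
  obtain ⟨w, -, hPw⟩ := PSLSpectrum.exists_gen (u := w₀) (k := q * n * 2)
    (by rw [h.card, hw₀]; ring) (h.data.not_dvd_compl_E hr hr2 (dvd_mul_of_dvd_right hrm 2)) P
  obtain ⟨g, hg⟩ := MulAction.exists_smul_eq K P' P
  refine ⟨g, ?_⟩
  have h1 : g * v' * g⁻¹ ∈ (P : Subgroup K) := by
    rw [← hg, Sylow.coe_subgroup_smul]
    exact mem_map_of_mem _ (hP' (mem_zpowers v'))
  have h2 := PSLSpectrum.eq_of_le_zpowers (u := w) (zpowers_le.2 (hPw h1))
    (zpowers_le.2 (hPw (hP (mem_zpowers v)))) (by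
      rw [Nat.card_zpowers, Nat.card_zpowers, hv, ← MulAut.conj_apply, MulEquiv.orderOf_eq, hv'])
  exact h2 ▸ mem_zpowers _

omit [Finite K] in
theorem three_cases : p = 3 ∨ 3 ∣ m ∨ 3 ∣ n := by
  by_cases hp : p = 3
  · exact Or.inl hp
  refine Or.inr ?_
  obtain ⟨f, hf, hq⟩ := h.data.q_pow
  have h3 : ¬ 3 ∣ q := fun hd => hp ((Nat.prime_dvd_prime_iff_eq Nat.prime_three h.data.prime_p).1
    (Nat.prime_three.dvd_of_dvd_pow (hq ▸ hd))).symm
  rcases h.size with ⟨h1, h2⟩ | ⟨h1, h2⟩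
  · rcases (show q % 3 = 1 ∨ q % 3 = 2 by omega) with e | e
    · exact Or.inr (by omega)
    · exact Or.inl (by omega)
  · rcases (show q % 3 = 1 ∨ q % 3 = 2 by omega) with e | e
    · exact Or.inl (by omega)
    · exact Or.inr (by omega)

end Kit

/-- The kit of `PSL(2, q)`. -/
theorem Kit.of_equiv {K : Type*} [Group K] [Finite K] {F : Type} [Field F] [Fintype F] {q : ℕ}
    (hF : Fintype.card F = q) (h8 : q % 8 = 3 ∨ q % 8 = 5) (h5 : 5 < q)
    (e : K ≃* Matrix.ProjectiveSpecialLinearGroup (Fin 2) F) : ∃ p m n, Kit K p q m n := by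
  classical
  obtain ⟨p, hchar⟩ := CharP.exists F
  haveI := hchar
  obtain ⟨f, hp, hf⟩ := FiniteField.card F p
  haveI := Fact.mk hp
  rw [hF] at hf
  have hp2 : p ≠ 2 := fun e2 => by
    have : 2 ∣ q := hf ▸ e2 ▸ dvd_pow_self p f.pos.ne'
    omega
  have hg : Nat.gcd 2 (Fintype.card F - 1) = 2 := Nat.gcd_eq_left (by rw [hF]; omega)
  have hcard : 2 * Nat.card K = q * ((q - 1) * (q + 1)) := by
    have := CfsgLib.Classical.card_psl2 (F := F)
    rw [hg, hF, ← Nat.card_congr e.toEquiv] at this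
    exact this
  have hspec : ∀ j : ℕ, (∃ g : K, orderOf g = j) ↔ (j ∣ p ∨ j ∣ (q - 1) / 2 ∨ j ∣ (q + 1) / 2) := by
    intro j
    have h1 := CfsgLib.Classical.PSL2Spectrum.mem_range_orderOf (F := F) p (by omega) j
    rw [hg, hF] at h1
    rw [← h1, Set.mem_range]
    exact ⟨fun ⟨g, hg'⟩ => ⟨e g, by rw [MulEquiv.orderOf_eq, hg']⟩,
      fun ⟨g, hg'⟩ => ⟨e.symm g, by rw [MulEquiv.orderOf_eq, hg']⟩⟩
  obtain ⟨me, mo, hd⟩ := PSLSpectrum.data_of_odd (G := K) hp hp2 ⟨f, f.pos, hf⟩ (by omega)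
    (Nat.odd_iff.2 (by omega)) hcard hspec
  obtain ⟨m, n, hsize, hm, hm1, hme, hmo⟩ : ∃ m n : ℕ,
      ((q + 1 = 4 * m ∧ q = 2 * n + 1) ∨ (q = 4 * m + 1 ∧ q + 1 = 2 * n)) ∧ Odd m ∧ 1 < m ∧
        me = 2 * m ∧ mo = n := by
    -- the even one of the two halves
    have hval : ∀ x y : ℕ, ((x = (q - 1) / 2 ∧ y = (q + 1) / 2) ∨ (x = (q + 1) / 2 ∧ y = (q - 1) / 2)) →
        Even x → Odd y → 0 < x → x.Coprime y → me = x ∧ mo = y := by
      intro x y hxy hx hy hx0 hcop
      have hor : ∀ j, (∃ g : K, orderOf g = j) → j ∣ p ∨ j ∣ x ∨ j ∣ y := by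
        intro j hj
        rcases (hspec j).1 hj with h | h | h
        · exact Or.inl h
        · rcases hxy with ⟨e1, e2⟩ | ⟨e1, e2⟩
          · exact Or.inr (Or.inl (e1 ▸ h))
          · exact Or.inr (Or.inr (e2 ▸ h))
        · rcases hxy with ⟨e1, e2⟩ | ⟨e1, e2⟩
          · exact Or.inr (Or.inr (e2 ▸ h))
          · exact Or.inr (Or.inl (e1 ▸ h))
      have hmex : me ∣ x := by
        rcases hor me hd.exE with h | h | h
        · rcases (Nat.dvd_prime hp).1 h with h' | h'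
          · exact h'.symm ▸ one_dvd _
          · exact absurd (h' ▸ dvd_rfl) hd.p_not_me
        · exact h
        · exact absurd ((hy.of_dvd_nat h)) (Nat.not_odd_iff_even.2 hd.me_even)
      have hmoy : mo ∣ y := by
        rcases hor mo hd.exO with h | h | h
        · rcases (Nat.dvd_prime hp).1 h with h' | h'
          · exact h'.symm ▸ one_dvd _
          · exact absurd (h' ▸ dvd_rfl) hd.p_not_mo
        · exfalso
          have hy0 : 0 < y := by rcases hxy with ⟨-, e2⟩ | ⟨-, e2⟩ <;> omega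
          have hprod : q * mo * (2 * me) * 2 = q * ((2 * x) * (2 * y)) := by
            rw [← hd.card, mul_comm, hcard]
            rcases hxy with ⟨e1, e2⟩ | ⟨e1, e2⟩
            · rw [show 2 * x = q - 1 by omega, show 2 * y = q + 1 by omega]
            · rw [show 2 * x = q + 1 by omega, show 2 * y = q - 1 by omega, mul_comm (q - 1)]
          have h4 : mo * me = x * y := by
            refine Nat.eq_of_mul_eq_mul_left (show 0 < q * 4 by omega) ?_
            linarith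
          have hcy : y.Coprime me := (hcop.symm).coprime_dvd_right hmex
          have hcy' : y.Coprime mo := (hcop.symm).coprime_dvd_right h
          have hy1 : y = 1 := Nat.eq_one_of_dvd_coprimes (hcy'.mul_right hcy) dvd_rfl
            (h4 ▸ dvd_mul_left y x)
          rcases hxy with ⟨-, e2⟩ | ⟨-, e2⟩ <;> omega
        · exact h
      have hy0 : 0 < y := by rcases hxy with ⟨-, e2⟩ | ⟨-, e2⟩ <;> omega
      have h4 : mo * me = x * y := by
        have hprod : q * mo * (2 * me) * 2 = q * ((2 * x) * (2 * y)) := by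
          rw [← hd.card, mul_comm, hcard]
          rcases hxy with ⟨e1, e2⟩ | ⟨e1, e2⟩
          · rw [show 2 * x = q - 1 by omega, show 2 * y = q + 1 by omega]
          · rw [show 2 * x = q + 1 by omega, show 2 * y = q - 1 by omega, mul_comm (q - 1)]
        refine Nat.eq_of_mul_eq_mul_left (show 0 < q * 4 by omega) ?_
        linarith
      obtain ⟨a, ha⟩ := hmoy
      obtain ⟨b, hb⟩ := hmex
      have hab : a * b = 1 := by
        refine Nat.eq_of_mul_eq_mul_left (Nat.mul_pos hd.mo_odd.pos hd.me_pos) ?_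
        rw [mul_one]
        conv_rhs => rw [h4, ha, hb]
        ring
      rw [Nat.eq_one_of_mul_eq_one_right hab, mul_one] at ha
      rw [Nat.eq_one_of_mul_eq_one_left hab, mul_one] at hb
      exact ⟨hb.symm, ha.symm⟩
    rcases h8 with h8 | h8
    · obtain ⟨h1, h2⟩ := hval ((q + 1) / 2) ((q - 1) / 2) (Or.inr ⟨rfl, rfl⟩)
        (Nat.even_iff.2 (by omega)) (Nat.odd_iff.2 (by omega)) (by omega) (by
          refine Nat.coprime_of_dvd' fun r hr hr1 hr2 => ?_
          have h3 : r ∣ (q + 1) / 2 - (q - 1) / 2 := Nat.dvd_sub hr1 hr2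
          rwa [show (q + 1) / 2 - (q - 1) / 2 = 1 by omega] at h3)
      exact ⟨(q + 1) / 4, (q - 1) / 2, Or.inl ⟨by omega, by omega⟩, Nat.odd_iff.2 (by omega), by omega,
        by omega, h2⟩
    · obtain ⟨h1, h2⟩ := hval ((q - 1) / 2) ((q + 1) / 2) (Or.inl ⟨rfl, rfl⟩)
        (Nat.even_iff.2 (by omega)) (Nat.odd_iff.2 (by omega)) (by omega) (by
          refine Nat.coprime_of_dvd' fun r hr hr1 hr2 => ?_
          have h3 : r ∣ (q + 1) / 2 - (q - 1) / 2 := Nat.dvd_sub hr2 hr1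
          rwa [show (q + 1) / 2 - (q - 1) / 2 = 1 by omega] at h3)
      exact ⟨(q - 1) / 4, (q + 1) / 2, Or.inr ⟨by omega, by omega⟩, Nat.odd_iff.2 (by omega), by omega,
        by omega, h2⟩
  subst hme hmo
  refine ⟨p, m, mo, hd, fun x y hx hy => ?_, hm, hm1, hsize⟩
  have := OddProdPSL.isConj_of_invol (F := F) (x := e x) (y := e y)
    (by rw [MulEquiv.orderOf_eq, hx]) (by rw [MulEquiv.orderOf_eq, hy])
  simpa using e.symm.toMonoidHom.map_isConj this

end CfsgLib.JTh
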