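import Cfsg.Agent.Lib.JTh.Assemble
import Cfsg.Agent.Lib.JTh.Even
import Cfsg.Agent.Lib.Invol.SimpleSixty
import Cfsg.Agent.Lib.CIT.PslModel
import Cfsg.Agent.Lib.Classical.ExcIso
import Cfsg.Agent.S3188
import Cfsg.Agent.S1244
import Cfsg.Agent.S0448

/-!
# Simple groups with abelian Sylow `2`-subgroups and an involution centralizer `2 × PSL(2, q)`
-/

set_option autoImplicit false
set_option linter.unusedSectionVars false

namespace CfsgLib.JTh

open Subgroup

universe u

variable {G : Type u} [Group G] [Finite G]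

/-- Over a field of odd order, abelian Sylow `2`-subgroups force `q ≡ 3, 5 (mod 8)`. -/
theorem mod_eight_of_abelian {K : Subgroup G} (hab : ∀ P : Sylow 2 G, ∀ a b : P, a * b = b * a)
    {F : Type} [Field F] [Fintype F] (hodd : Odd (Fintype.card F)) (h5 : 5 ≤ Fintype.card F)
    (φ : K ≃* Matrix.ProjectiveSpecialLinearGroup (Fin 2) F) :
    Fintype.card F % 8 = 3 ∨ Fintype.card F % 8 = 5 := by
  classical
  haveI : Fact (Nat.Prime 2) := ⟨Nat.prime_two⟩
  by_contra h8
  set q := Fintype.card F with hq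
  have hq2 : q % 2 = 1 := Nat.odd_iff.1 hodd
  have h17 : q % 8 = 1 ∨ q % 8 = 7 := by omega
  obtain ⟨p, hchar⟩ := CharP.exists F
  haveI := hchar
  obtain ⟨f, hp, hf⟩ := FiniteField.card F p
  haveI := Fact.mk hp
  rw [← hq] at hf
  have hp2 : p ≠ 2 := fun e2 => by
    have : 2 ∣ q := hf ▸ e2 ▸ dvd_pow_self p f.pos.ne'
    omega
  have hg : Nat.gcd 2 (Fintype.card F - 1) = 2 := Nat.gcd_eq_left (by omega)
  have hcard : 2 * Nat.card K = q * ((q - 1) * (q + 1)) := by
    have := CfsgLib.Classical.card_psl2 (F := F)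
    rw [hg, ← hq, ← Nat.card_congr φ.toEquiv] at this
    exact this
  have hspec : ∀ j : ℕ, (∃ g : K, orderOf g = j) ↔ (j ∣ p ∨ j ∣ (q - 1) / 2 ∨ j ∣ (q + 1) / 2) := by
    intro j
    have h1 := CfsgLib.Classical.PSL2Spectrum.mem_range_orderOf (F := F) p (by omega) j
    rw [hg, ← hq] at h1
    rw [← h1, Set.mem_range]
    exact ⟨fun ⟨g, hg'⟩ => ⟨φ g, by rw [MulEquiv.orderOf_eq, hg']⟩,
      fun ⟨g, hg'⟩ => ⟨φ.symm g, by rw [MulEquiv.orderOf_eq, hg']⟩⟩
  obtain ⟨me, mo, hd⟩ := PSLSpectrum.data_of_odd (G := K) hp hp2 ⟨f, f.pos, hf⟩ h5 hodd hcard hspec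
  obtain ⟨x, hx, hx4⟩ : ∃ x : ℕ, (∃ g : K, orderOf g = x) ∧ 4 ∣ x := by
    rcases h17 with h | h
    · exact ⟨(q - 1) / 2, (hspec _).2 (Or.inr (Or.inl dvd_rfl)), by omega⟩
    · exact ⟨(q + 1) / 2, (hspec _).2 (Or.inr (Or.inr dvd_rfl)), by omega⟩
  obtain ⟨g, hgx⟩ := hx
  have hme4 : 4 ∣ me := by
    rcases hd.orders g with h | h | h <;> rw [hgx] at h
    · rcases (Nat.dvd_prime hp).1 (hx4.trans h) with h' | h'
      · omega
      · exact absurd hp (h' ▸ by decide)
    · exact hx4.trans h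
    · exact absurd ((show 2 ∣ 4 by norm_num).trans (hx4.trans h)) hd.two_not_mo
  have hme0 : me ≠ 0 := hd.me_pos.ne'
  obtain ⟨k, m, hm, hmk⟩ := Nat.exists_eq_two_pow_mul_odd hme0
  have hk2 : 2 ≤ k := by
    by_contra hk
    obtain ⟨c, hc⟩ := hm
    interval_cases k <;> omega
  obtain ⟨w, hw⟩ := hd.exE
  let Fr : PSLSpectrum.Frame K p q me mo := ⟨hd, w, k, m, hw, by omega, hm, hmk⟩
  obtain ⟨S, hS⟩ := Fr.exists_sylow
  obtain ⟨s, hsS, -, hs2, hsi⟩ := Fr.exists_inverting hS
  obtain ⟨P, hP⟩ := (S.2.map K.subtype).exists_le_sylow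
  have haS : Fr.a ∈ (S : Subgroup K) := hS (mem_zpowers _)
  have hcG : (s : G) * (Fr.a : G) = (Fr.a : G) * (s : G) := congrArg Subtype.val
    (hab P ⟨(s : G), hP (mem_map_of_mem _ hsS)⟩ ⟨(Fr.a : G), hP (mem_map_of_mem _ haS)⟩)
  have hc : s * Fr.a = Fr.a * s := Subtype.ext hcG
  rw [hc, mul_inv_cancel_right] at hsi
  have h2 : orderOf Fr.a ∣ 2 := orderOf_dvd_of_pow_eq_one (by
    rw [pow_two]; nth_rw 2 [hsi]; exact mul_inv_cancel _)
  rw [Fr.order_a] at h2
  have h4 : 2 ^ 2 ≤ 2 ^ k := Nat.pow_le_pow_right (by norm_num) hk2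
  have := Nat.le_of_dvd two_pos h2
  have h5' : Fr.k = k := rfl
  rw [h5'] at this
  omega

/-- The case `q = 3` does not occur. -/
theorem false_of_three [IsSimpleGroup G] (hna : ¬ IsMulCommutative G)
    (hab : ∀ P : Sylow 2 G, ∀ a b : P, a * b = b * a) (t : G) (K : Subgroup G) (ht : orderOf t = 2)
    (comm_t : ∀ c ∈ K, Commute c t) (mem_or : ∀ c : G, Commute c t → c ∈ K ∨ t * c ∈ K) (not_mem : t ∉ K)
    (hcard : Nat.card (centralizer ({t} : Set G)) = 24)
    {F : Type} [Field F] [Fintype F] (hF : Fintype.card F = 3)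
    (φ : K ≃* Matrix.ProjectiveSpecialLinearGroup (Fin 2) F) : False := by
  classical
  haveI : Fact (Nat.Prime 2) := ⟨Nat.prime_two⟩
  haveI : Fact (Nat.Prime 3) := ⟨Nat.prime_three⟩
  have hKc : Nat.card K = 12 := by
    have h := CfsgLib.Classical.card_psl2 (F := F)
    rw [hF, ← Nat.card_congr φ.toEquiv] at h
    have h' : 2 * Nat.card K = 24 := by
      rwa [show Nat.gcd 2 (3 - 1) = 2 by decide] at h
    omega
  have ht2 : t * t = 1 := Invol.invol_mul_self ht
  set C := centralizer ({t} : Set G) with hC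
  have htC : t ∈ C := mem_centralizer_singleton_iff.2 rfl
  -- a Sylow subgroup of `G` inside `C(t)`
  obtain ⟨S, hS⟩ := (IsPGroup.of_card (G := zpowers t) (p := 2) (n := 1)
    (by rw [Nat.card_zpowers, ht, pow_one])).exists_le_sylow
  have htS : t ∈ (S : Subgroup G) := hS (mem_zpowers t)
  have hScomm : ∀ a ∈ (S : Subgroup G), ∀ b ∈ (S : Subgroup G), Commute a b := fun a ha b hb =>
    congrArg Subtype.val (hab S ⟨a, ha⟩ ⟨b, hb⟩)
  have hSC : (S : Subgroup G) ≤ C := fun a ha => mem_centralizer_singleton_iff.2 (hScomm a ha t htS).eq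
  have hSc : Nat.card (S : Subgroup G) = 8 := by
    have h1 : Nat.card ((S.subtype hSC : Sylow 2 C) : Subgroup C) = 8 := by
      rw [(S.subtype hSC).card_eq_multiplicity, hcard, show (24 : ℕ) = 2 ^ 3 * 3 by norm_num,
        Nat.factorization_mul (by norm_num) (by norm_num), Finsupp.add_apply,
        Nat.factorization_eq_zero_of_not_dvd (by norm_num : ¬ 2 ∣ 3), add_zero,
        Nat.Prime.factorization_pow Nat.prime_two, Finsupp.single_eq_same]
      norm_num
    rwa [Sylow.coe_subtype, Nat.card_congr (subgroupOfEquivOfLe hSC).toEquiv] at h1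
  set R : Subgroup G := (S : Subgroup G) ⊓ K with hR
  have hRS : R ≤ (S : Subgroup G) := inf_le_left
  have htR : t ∉ R := fun h => not_mem (mem_inf.1 h).2
  have hRc : Nat.card R = 4 := by
    let f : Bool × R → (S : Subgroup G) := fun d => ⟨(if d.1 then t else 1) * (d.2 : G),
      mul_mem (by cases d.1 <;> simp [htS]) (hRS d.2.2)⟩
    have hf : Function.Bijective f := by
      constructor
      · rintro ⟨a, x⟩ ⟨b, y⟩ e
        have e' : (if a then t else 1) * (x : G) = (if b then t else 1) * (y : G) := congrArg Subtype.val e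
        cases a <;> cases b <;> simp at e'
        · rw [e']
        · exact absurd (eq_mul_inv_of_mul_eq e'.symm ▸ mul_mem x.2 (inv_mem y.2)) htR
        · exact absurd (eq_mul_inv_of_mul_eq e' ▸ mul_mem y.2 (inv_mem x.2)) htR
        · rw [e']
      · rintro ⟨a, ha⟩
        rcases mem_or a (hScomm a ha t htS) with h | h
        · exact ⟨(false, ⟨a, mem_inf.2 ⟨ha, h⟩⟩), Subtype.ext (by simp [f])⟩
        · exact ⟨(true, ⟨t * a, mem_inf.2 ⟨mul_mem htS ha, h⟩⟩),
            Subtype.ext (by simp [f, ← mul_assoc, ht2])⟩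
    have := Nat.card_congr (Equiv.ofBijective f hf)
    rw [Nat.card_prod, Nat.card_eq_fintype_card (α := Bool), Fintype.card_bool, hSc] at this
    omega
  -- elementary
  have hord : ∀ g : K, orderOf g ≠ 4 := by
    intro g hg
    have hx : orderOf (φ g) = 4 := (MulEquiv.orderOf_eq _ _).trans hg
    have hgc : Nat.card (zpowers (φ g)) =
        2 ^ (Nat.card (Matrix.ProjectiveSpecialLinearGroup (Fin 2) F)).factorization 2 := by
      rw [Nat.card_zpowers, hx, ← Nat.card_congr φ.toEquiv, hKc, show (12 : ℕ) = 2 ^ 2 * 3 by norm_num,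
        Nat.factorization_mul (by norm_num) (by norm_num), Finsupp.add_apply,
        Nat.factorization_eq_zero_of_not_dvd (by norm_num : ¬ 2 ∣ 3), add_zero,
        Nat.Prime.factorization_pow Nat.prime_two, Finsupp.single_eq_same]
      norm_num
    obtain ⟨a, b, haP, hbP, ha, hb, hne, -⟩ :=
      PslMax.exists_four_mem (F := F) (hF ▸ (by decide)) (Sylow.ofCard (zpowers (φ g)) hgc)
    rw [Sylow.coe_ofCard] at haP hbP
    have hcyc : ∀ c ∈ zpowers (φ g), orderOf c = 2 → c = φ g ^ 2 := by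
      intro c hc hc2
      obtain ⟨i, hi, rfl⟩ := Finset.mem_image.1 (mem_zpowers_iff_mem_range_orderOf.1 hc)
      rw [Finset.mem_range, hx] at hi
      interval_cases i
      · rw [pow_zero, orderOf_one] at hc2; norm_num at hc2
      · rw [pow_one, hx] at hc2; norm_num at hc2
      · rfl
      · rw [orderOf_pow, hx] at hc2; norm_num at hc2
    exact hne ((hcyc a haP ha).trans (hcyc b hbP hb).symm)
  have hKsq : ∀ z ∈ K, z ∈ (S : Subgroup G) → z * z = 1 := by
    intro z hz hzS
    have h8 : orderOf (⟨z, hz⟩ : K) ∣ 4 := by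
      rw [Subgroup.orderOf_mk, ← hRc]
      exact Subgroup.orderOf_dvd_natCard R (mem_inf.2 ⟨hzS, hz⟩)
    obtain ⟨i, hi, he⟩ := (Nat.dvd_prime_pow Nat.prime_two).1 (show orderOf (⟨z, hz⟩ : K) ∣ 2 ^ 2 from h8)
    have h2 : orderOf (⟨z, hz⟩ : K) ∣ 2 := by
      interval_cases i
      · rw [he]; norm_num
      · rw [he]; norm_num
      · exact absurd he (hord _)
    have := orderOf_dvd_iff_pow_eq_one.1 h2
    rw [← pow_two]
    exact congrArg Subtype.val this
  have hSsq : ∀ a ∈ (S : Subgroup G), a * a = 1 := by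
    intro a ha
    rcases mem_or a (hScomm a ha t htS) with h | h
    · exact hKsq a h ha
    · have := hKsq _ h (mul_mem htS ha)
      rwa [show t * a * (t * a) = t * (a * t) * a by group, (hScomm a ha t htS).eq, ← mul_assoc, ht2,
        one_mul] at this
  -- the involutions of `R` are conjugate in `K`
  have hKconj : ∀ a ∈ R, a ≠ 1 → ∀ b ∈ R, b ≠ 1 → IsConj a b := by
    intro a ha ha1 b hb hb1
    have key : ∀ (z : G) (hz : z ∈ R), z ≠ 1 → orderOf (φ ⟨z, (mem_inf.1 hz).2⟩) = 2 := fun z hz hz1 => by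
      rw [MulEquiv.orderOf_eq, Subgroup.orderOf_mk]
      exact orderOf_eq_prime (by rw [pow_two]; exact hSsq z (hRS hz)) hz1
    have h := φ.symm.toMonoidHom.map_isConj (OddProdPSL.isConj_of_invol (F := F) (key a ha ha1) (key b hb hb1))
    simpa using K.subtype.map_isConj (by simpa using h :
      IsConj (⟨a, (mem_inf.1 ha).2⟩ : K) ⟨b, (mem_inf.1 hb).2⟩)
  have hG2 : ∀ H : Subgroup G, H.index ≠ 2 := by
    intro H hH
    rcases (H.normal_of_index_eq_two hH).eq_bot_or_eq_top with e | e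
    · rw [e, index_bot] at hH
      exact hna ⟨⟨fun a b => by
        haveI : IsCyclic G := isCyclic_of_prime_card (p := 2) hH
        exact IsCyclic.commGroup.mul_comm a b⟩⟩
    · rw [e, index_top] at hH
      norm_num at hH
  haveI hSC' : IsMulCommutative (S : Subgroup G) := ⟨⟨fun a b => hab S a b⟩⟩
  have hfus : ∀ s ∈ (S : Subgroup G), orderOf s = 2 → ∃ r ∈ R, r ≠ 1 ∧ IsConj s r := by
    intro s hs hs2
    obtain ⟨k, -, hk⟩ := Cfsg.Agent.S1244.result hG2 S hSC' 3 (by norm_num)
      ⟨fun A _ _ => by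
          refine (Nat.le_of_dvd Nat.card_pos (card_subgroup_dvd_card A)).trans ?_
          rw [hSc]; norm_num,
        fun h => by
          have := h ⊤ ⟨⟨fun a b => Subtype.ext (hab S a.1 b.1)⟩⟩ fun a _ =>
            Subtype.ext (by push_cast; rw [pow_two]; exact hSsq a a.2)
          rw [card_top, hSc] at this
          norm_num at this⟩
      R hRS ⟨fun A _ _ => by
          refine (Nat.le_of_dvd Nat.card_pos (card_subgroup_dvd_card A)).trans ?_
          rw [hRc]; norm_num,
        Or.inr fun h => by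
          have := h ⊤ ⟨⟨fun a b => Subtype.ext (Subtype.ext (hScomm _ (hRS a.1.2) _ (hRS b.1.2)).eq)⟩⟩
            fun a _ => Subtype.ext (by push_cast; rw [pow_two]; exact hSsq a (hRS a.2))
          rw [card_top, hRc] at this
          norm_num at this⟩ s hs2 hs
    refine ⟨_, hk, Invol.invol_ne_one (Invol.invol_conj hs2 k), isConj_iff.2 ⟨k, rfl⟩⟩
  obtain ⟨r₀, hr₀, hr₀1, hr₀c⟩ := hfus t htS ht
  have hall : ∀ i : G, orderOf i = 2 → IsConj t i := by
    intro i hi
    obtain ⟨P, hP⟩ := (IsPGroup.of_card (G := zpowers i) (p := 2) (n := 1)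
      (by rw [Nat.card_zpowers, hi, pow_one])).exists_le_sylow
    obtain ⟨g, hg⟩ := MulAction.exists_smul_eq G P S
    have h1 : g * i * g⁻¹ ∈ (S : Subgroup G) := by
      rw [← hg, Sylow.coe_subgroup_smul]
      exact mem_map_of_mem _ (hP (mem_zpowers i))
    obtain ⟨r, hr, hr1, hc⟩ := hfus _ h1 (Invol.invol_conj hi g)
    exact (hr₀c.trans (hKconj r₀ hr₀ hr₀1 r hr hr1)).trans
      ((isConj_iff.2 ⟨g, rfl⟩ : IsConj i _).trans hc).symm
  have hsolv24 : ∀ i : G, orderOf i = 2 → Group.IsSolvable (centralizer ({i} : Set G)) := by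
    intro i hi
    obtain ⟨g, hg⟩ := isConj_iff.1 (hall i hi)
    have hci : Nat.card (centralizer ({i} : Set G)) = 24 := by
      rw [← hcard]
      refine (Nat.card_congr ((MulAut.conj g).toEquiv.subtypeEquiv fun z => ?_)).symm
      show z ∈ centralizer ({t} : Set G) ↔ MulAut.conj g z ∈ centralizer ({i} : Set G)
      rw [mem_centralizer_singleton_iff, mem_centralizer_singleton_iff, ← hg, ← MulAut.conj_apply g t,
        ← map_mul, ← map_mul, (MulAut.conj g).injective.eq_iff]
    exact Invol.AltEightSubgroups.solvable_of_card_lt_sixty _ rfl (by rw [hci]; norm_num)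
  rcases Cfsg.Agent.S3188.result S hSC' hsolv24 with hs | ⟨L, iL, iL', hL, N, hN, ⟨e⟩, -⟩
  · have hlt : ⁅(⊤ : Subgroup G), (⊤ : Subgroup G)⁆ ≠ ⊤ := by
      haveI := hs
      haveI : Nontrivial G := ⟨⟨t, 1, Invol.invol_ne_one ht⟩⟩
      exact (Group.IsSolvable.commutator_lt_top_of_nontrivial G).ne
    rcases (inferInstance : (⁅(⊤ : Subgroup G), (⊤ : Subgroup G)⁆).Normal).eq_bot_or_eq_top with h | h
    · refine hna ⟨⟨fun a b => ?_⟩⟩
      have h1 : a * b * a⁻¹ * b⁻¹ ∈ ⁅(⊤ : Subgroup G), (⊤ : Subgroup G)⁆ :=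
        commutator_mem_commutator (mem_top a) (mem_top b)
      rw [h, mem_bot] at h1
      exact mul_inv_eq_iff_eq_mul.1 (mul_inv_eq_one.1 h1)
    · exact hlt h
  · have hO : Cfsg.oddCore G = ⊥ := (inferInstance : (Cfsg.oddCore G).Normal).eq_bot_or_eq_top.resolve_right
      fun h => by
        have h1 := GW.odd_oddCore G
        rw [h, card_top] at h1
        exact Nat.not_even_iff_odd.2 h1 (even_iff_two_dvd.2 (ht ▸ orderOf_dvd_natCard t))
    let π : G ≃* G ⧸ Cfsg.oddCore G :=
      (((QuotientGroup.quotientMulEquivOfEq hO).trans QuotientGroup.quotientBot)).symm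
    haveI := hN
    haveI hN' : (N.comap π.toMonoidHom).Normal := inferInstance
    have hL4 : 4 ≤ Fintype.card L := by
      rcases hL with ⟨-, h⟩ | ⟨k, hk, h⟩
      · omega
      · rw [h]; exact le_trans (by norm_num) (Nat.pow_le_pow_right (by norm_num) hk)
    have hNtop : N = ⊤ := by
      rcases hN'.eq_bot_or_eq_top with h | h
      · exfalso
        haveI := (Classical.sl_perfect_and_psl_simple (F := L) (le_refl 2) (by omega)).2
        haveI : Nontrivial (Matrix.ProjectiveSpecialLinearGroup (Fin 2) L) := IsSimpleGroup.toNontrivial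
        haveI : Nontrivial N := e.toEquiv.nontrivial
        obtain ⟨⟨z, hz⟩, hz1⟩ := exists_ne (1 : N)
        have : π.symm z ∈ N.comap π.toMonoidHom := by simpa using hz
        rw [h, mem_bot] at this
        exact hz1 (Subtype.ext (by simpa using congrArg π this))
      · rw [eq_top_iff]
        intro z _
        have : π.symm z ∈ N.comap π.toMonoidHom := h ▸ mem_top _
        simpa using this
    let E : G ≃* Matrix.ProjectiveSpecialLinearGroup (Fin 2) L :=
      π.trans ((topEquiv.symm.trans (MulEquiv.subgroupCongr hNtop.symm)).trans e)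
    have hEc : Nat.card (centralizer ({E t} : Set (Matrix.ProjectiveSpecialLinearGroup (Fin 2) L))) = 24 := by
      rw [← hcard]
      refine (Nat.card_congr (E.toEquiv.subtypeEquiv fun z => ?_)).symm
      show z ∈ centralizer ({t} : Set G) ↔ E z ∈ centralizer ({E t} : Set _)
      rw [mem_centralizer_singleton_iff, mem_centralizer_singleton_iff, ← map_mul, ← map_mul,
        E.injective.eq_iff]
    have hEt : orderOf (E t) = 2 := by rw [MulEquiv.orderOf_eq, ht]
    rcases hL with ⟨h8, h5⟩ | ⟨k, hk, hk'⟩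
    · rw [GW.card_cent_psl (Nat.odd_iff.2 (by omega)) _ hEt] at hEc
      unfold GW.invCard at hEc
      split_ifs at hEc <;> omega
    · haveI := (CfsgLib.PushUp.charP_of_card (p := 2) hk').1
      obtain ⟨⟨z, hzC⟩, hzo⟩ := exists_prime_orderOf_dvd_card' 3
        (show 3 ∣ Nat.card (centralizer ({E t} : Set (Matrix.ProjectiveSpecialLinearGroup (Fin 2) L))) by
          rw [hEc]; norm_num)
      rw [Subgroup.orderOf_mk] at hzo
      have h6 : orderOf (E t * z) = 6 := by
        rw [(show Commute z (E t) from mem_centralizer_singleton_iff.1 hzC).symm.orderOf_mul_eq_mul_orderOf_of_coprime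
          (by rw [hEt, hzo]; decide), hEt, hzo]
      have h1 := (CfsgLib.Classical.PSL2Spectrum.mem_range_orderOf (F := L) 2 hL4 6).1 ⟨_, h6⟩
      have hev : 2 ∣ Fintype.card L := hk' ▸ dvd_pow_self 2 (by omega)
      rw [Nat.coprime_iff_gcd_eq_one.1 (Nat.prime_two.coprime_iff_not_dvd.2 (by omega)), Nat.div_one,
        Nat.div_one] at h1
      rcases h1 with h | h | h
      · norm_num at h
      · have := (show 2 ∣ 6 by norm_num).trans h; omega
      · have := (show 2 ∣ 6 by norm_num).trans h; omega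

/-- The cases `q = 4, 5`. -/
theorem isJ1_of_sixty [IsSimpleGroup G] (hab : ∀ P : Sylow 2 G, ∀ a b : P, a * b = b * a) (t : G)
    (ht : orderOf t = 2) {F : Type} [Field F] [Fintype F] (hq : Fintype.card F = 4 ∨ Fintype.card F = 5)
    (e : centralizer ({t} : Set G) ≃* Multiplicative (ZMod 2) × Matrix.ProjectiveSpecialLinearGroup (Fin 2) F) :
    Cfsg.IsJ1 G := by
  haveI : Fact (Nat.Prime 2) := ⟨Nat.prime_two⟩
  haveI := (Classical.sl_perfect_and_psl_simple (F := F) (le_refl 2) (by omega)).2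
  have h60 : Nat.card (Matrix.ProjectiveSpecialLinearGroup (Fin 2) F) = 60 := by
    have h := CfsgLib.Classical.card_psl2 (F := F)
    rcases hq with hq | hq <;> rw [hq] at h
    · rw [show Nat.gcd 2 (4 - 1) = 1 by decide] at h; omega
    · rw [show Nat.gcd 2 (5 - 1) = 2 by decide] at h; omega
  obtain ⟨a⟩ := Invol.mulEquiv_alternating_five h60
  obtain ⟨P, hP⟩ := (IsPGroup.of_card (G := zpowers t) (p := 2) (n := 1)
    (by rw [Nat.card_zpowers, ht, pow_one])).exists_le_sylow
  exact Cfsg.Agent.S0448.result t ⟨ht, P, hP (mem_zpowers t), fun x hx =>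
      congrArg Subtype.val (hab P ⟨x, hx⟩ ⟨t, hP (mem_zpowers t)⟩)⟩
    (e.trans ((MulEquiv.refl _).prodCongr a))

/-- In a group of order two, non-identity elements multiply to the identity. -/
theorem zmodTwo_mul : ∀ a b : Multiplicative (ZMod 2), a ≠ 1 → b ≠ 1 → a * b = 1 := by decide

/-- The theorem of Janko and Thompson, given the exclusion of the configuration `Five`. -/
theorem main [IsSimpleGroup G]
    (hfive : ∀ (q m n : ℕ) (T5 : ReeType.Five.Setup G q m n), ReeType.Five.Torus T5 → False)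
    (hab : ∀ P : Sylow 2 G, ∀ a b : P, a * b = b * a)
    {F : Type} [Field F] [Fintype F] (hq : 3 ≤ Fintype.card F) (t : G) (ht : orderOf t = 2)
    (e : centralizer ({t} : Set G) ≃* Multiplicative (ZMod 2) × Matrix.ProjectiveSpecialLinearGroup (Fin 2) F) :
    (∃ m : ℕ, 1 ≤ m ∧ Fintype.card F = 3 ^ (2 * m + 1) ∧
        Nat.card G = (3 ^ (2 * m + 1)) ^ 3 * ((3 ^ (2 * m + 1)) ^ 3 + 1) * (3 ^ (2 * m + 1) - 1)) ∨
      ((Fintype.card F = 4 ∨ Fintype.card F = 5) ∧ Cfsg.IsJ1 G) := by
  classical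
  haveI : Fact (Nat.Prime 2) := ⟨Nat.prime_two⟩
  set C := centralizer ({t} : Set G) with hC
  have htC : t ∈ C := mem_centralizer_singleton_iff.2 rfl
  let i : Matrix.ProjectiveSpecialLinearGroup (Fin 2) F →* G :=
    C.subtype.comp (e.symm.toMonoidHom.comp (MonoidHom.inr _ _))
  have hi : Function.Injective i := C.subtype_injective.comp
    (e.symm.injective.comp fun a b h => congrArg Prod.snd h)
  set K : Subgroup G := i.range with hK
  let φ : K ≃* Matrix.ProjectiveSpecialLinearGroup (Fin 2) F := (MonoidHom.ofInjective hi).symm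
  have hmemK : ∀ (c : C), (e c).1 = 1 → (c : G) ∈ K := fun c hc =>
    ⟨(e c).2, congrArg Subtype.val (e.injective (by
      show e (e.symm (1, (e c).2)) = e c
      rw [e.apply_symm_apply, ← hc]))⟩
  have hKe : ∀ (c : C), (c : G) ∈ K → (e c).1 = 1 := by
    rintro c ⟨y, hy⟩
    have : c = e.symm (1, y) := Subtype.ext hy.symm
    rw [this, e.apply_symm_apply]
  have hcen : (e ⟨t, htC⟩).2 = 1 := by
    have h : (e ⟨t, htC⟩).2 ∈ center (Matrix.ProjectiveSpecialLinearGroup (Fin 2) F) := by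
      refine mem_center_iff.2 fun y => ?_
      have h1 : e.symm (1, y) * ⟨t, htC⟩ = ⟨t, htC⟩ * e.symm (1, y) :=
        Subtype.ext (mem_centralizer_singleton_iff.1 (e.symm (1, y)).2)
      have h2 := congrArg (fun z => (e z).2) h1
      simpa using h2
    rwa [Classical.ExcIso.center_psl_bot (le_refl 2) (fun _ => hq), mem_bot] at h
  have hne : (e ⟨t, htC⟩).1 ≠ 1 := fun h => Invol.invol_ne_one ht (by
    have : e ⟨t, htC⟩ = 1 := Prod.ext h hcen
    exact congrArg Subtype.val ((EmbeddingLike.map_eq_one_iff (f := e)).1 this))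
  have not_mem : t ∉ K := fun h => hne (hKe ⟨t, htC⟩ h)
  have comm_t : ∀ c ∈ K, Commute c t := by
    rintro _ ⟨y, rfl⟩
    exact mem_centralizer_singleton_iff.1 (e.symm.toMonoidHom (MonoidHom.inr _ _ y)).2
  have htwo := zmodTwo_mul
  have mem_or : ∀ c : G, Commute c t → c ∈ K ∨ t * c ∈ K := by
    intro c hc
    have hcC : c ∈ C := mem_centralizer_singleton_iff.2 hc.eq
    by_cases h : (e ⟨c, hcC⟩).1 = 1
    · exact Or.inl (hmemK _ h)
    · exact Or.inr (hmemK (⟨t, htC⟩ * ⟨c, hcC⟩) (by rw [map_mul, Prod.fst_mul]; exact htwo _ _ hne h))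
  have hna : ¬ IsMulCommutative G := by
    intro hcm
    haveI hKn : K.Normal := ⟨fun z hz g => by rwa [hcm.is_comm.comm g z, mul_inv_cancel_right]⟩
    rcases hKn.eq_bot_or_eq_top with h | h
    · have h1 : Nat.card (Matrix.ProjectiveSpecialLinearGroup (Fin 2) F) = 1 := by
        rw [← Nat.card_congr φ.toEquiv, h, card_bot]
      have h2 := CfsgLib.Classical.card_psl2 (F := F)
      rw [h1, mul_one] at h2
      have h3 : Nat.gcd 2 (Fintype.card F - 1) ≤ 2 := Nat.le_of_dvd two_pos (Nat.gcd_dvd_left _ _)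
      have h4 : 2 * 1 ≤ (Fintype.card F - 1) * (Fintype.card F + 1) := Nat.mul_le_mul (by omega) (by omega)
      have h5 : 3 * (2 * 1) ≤ Fintype.card F * ((Fintype.card F - 1) * (Fintype.card F + 1)) :=
        Nat.mul_le_mul hq h4
      omega
    · exact not_mem (h ▸ mem_top t)
  obtain ⟨P, hP⟩ := (IsPGroup.of_card (G := zpowers t) (p := 2) (n := 1)
    (by rw [Nat.card_zpowers, ht, pow_one])).exists_le_sylow
  have odd_index : Odd C.index := by
    have hPC : (P : Subgroup G) ≤ C := fun x hx => mem_centralizer_singleton_iff.2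
      (congrArg Subtype.val (hab P ⟨x, hx⟩ ⟨t, hP (mem_zpowers t)⟩))
    rw [Nat.odd_iff, ← Nat.two_dvd_ne_zero]
    exact fun h => P.not_dvd_index (h.trans (index_dvd_of_le hPC))
  by_cases hev : 2 ∣ Fintype.card F
  · obtain ⟨p, hchar⟩ := CharP.exists F
    haveI := hchar
    obtain ⟨f, hp, hf⟩ := FiniteField.card F p
    have hp2 : p = 2 := ((Nat.prime_dvd_prime_iff_eq Nat.prime_two hp).1
      (Nat.prime_two.dvd_of_dvd_pow (hf ▸ hev))).symm
    rw [hp2] at hf
    have h2 := le_two_of_even hna hab t K ht comm_t mem_or not_mem hf f.pos φ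
    have h4 : Fintype.card F = 4 := by
      rw [hf] at hq ⊢
      rcases (show (f : ℕ) = 1 ∨ (f : ℕ) = 2 by have := f.pos; omega) with h | h
      · rw [h] at hq; norm_num at hq
      · rw [h]; norm_num
    exact Or.inr ⟨Or.inl h4, isJ1_of_sixty hab t ht (Or.inl h4) e⟩
  by_cases h5 : Fintype.card F = 5
  · exact Or.inr ⟨Or.inr h5, isJ1_of_sixty hab t ht (Or.inr h5) e⟩
  by_cases h3 : Fintype.card F = 3
  · exfalso
    refine false_of_three hna hab t K ht comm_t mem_or not_mem ?_ h3 φ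
    rw [Nat.card_congr e.toEquiv, Nat.card_prod]
    have h := CfsgLib.Classical.card_psl2 (F := F)
    rw [h3, show Nat.gcd 2 (3 - 1) = 2 by decide] at h
    rw [show Nat.card (Multiplicative (ZMod 2)) = 2 from Nat.card_zmod 2]
    omega
  have hodd : Odd (Fintype.card F) := Nat.odd_iff.2 (Nat.two_dvd_ne_zero.1 hev)
  have hgt : 5 < Fintype.card F := by
    have : Fintype.card F % 2 = 1 := Nat.odd_iff.1 hodd
    omega
  exact Or.inl (case_three_five hfive hna t K ht comm_t mem_or not_mem odd_index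
    (mod_eight_of_abelian hab hodd (by omega) φ) hgt φ)

end CfsgLib.JTh
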