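import Cfsg.Agent.Lib.JTh.AKillN

/-!
# An involution centralizer `2 × PSL(2, q)`: the element of order three acts without fixed points on
the torus
-/

set_option autoImplicit false
set_option linter.unusedSectionVars false

namespace CfsgLib.JTh

open Subgroup
open CfsgLib.ReeType (inverts_of_fpf exists_odd_part)

universe u

namespace Setup

variable {G : Type u} [Group G] [Finite G] {p q m n : ℕ} {T : Setup G p q m n}

namespace Conf

variable (c : Conf T)

/-- An element of prime order dividing `m` commuting with an involution is conjugate into the torus. -/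
theorem conj_torus {r : ℕ} (hr : r.Prime) (hrm : r ∣ m) {d i : G} (hi : orderOf i = 2)
    (hdi : Commute d i) (hd : orderOf d = r) : ∃ h : G, h * d * h⁻¹ ∈ zpowers c.F.a := by
  obtain ⟨g, hg⟩ := isConj_iff.1 (T.conj i hi).symm
  have hc : Commute (g * d * g⁻¹) T.t := hg ▸ hdi.map (MulAut.conj g)
  have hyo : orderOf (g * d * g⁻¹) = r := by rw [← MulAut.conj_apply, MulEquiv.orderOf_eq, hd]
  have hrodd : Odd r := T.kit.m_odd.of_dvd_nat hrm
  have hyK := T.mem_K_of_odd hc (by rw [hyo]; exact hrodd)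
  have hbo : orderOf (c.F.a ^ (m / r)) = r := by
    have := orderOf_pow_orderOf_div (orderOf_pos c.F.a).ne' (show r ∣ orderOf c.F.a from c.F.order_a.symm ▸ hrm)
    rwa [c.F.order_a] at this
  have hbK : c.F.a ^ (m / r) ∈ T.K := pow_mem c.a_mem_K _
  obtain ⟨k, hk⟩ := T.kit.conj_m hr hrm (v := (⟨_, hbK⟩ : T.K)) (v' := ⟨_, hyK⟩)
    (by rw [Subgroup.orderOf_mk, hbo]) (by rw [Subgroup.orderOf_mk, hyo])
  obtain ⟨l, hl⟩ := mem_zpowers_iff.1 hk
  have hl' : (c.F.a ^ (m / r)) ^ l = (k : G) * (g * d * g⁻¹) * (k : G)⁻¹ := congrArg Subtype.val hl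
  refine ⟨(k : G) * g, ?_⟩
  rw [show (k : G) * g * d * ((k : G) * g)⁻¹ = (k : G) * (g * d * g⁻¹) * (k : G)⁻¹ by group, ← hl']
  exact zpow_mem (pow_mem (mem_zpowers _) _) _

/-- No element of odd order of a centralizer of normalizer type is inverted by an involution there. -/
theorem inverted_eq_one {v i y : G} (hv : v ∈ zpowers c.F.a) (hN : c.Norm v) (hi : orderOf i = 2)
    (hiv : Commute i v) (hyv : Commute y v) (hinv : i * y * i⁻¹ = y⁻¹) (hy : Odd (orderOf y)) :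
    y = 1 := by
  have hii : i * i = 1 := Invol.invol_mul_self hi
  have hDt : ∀ h ∈ c.D, h * T.t * h⁻¹ = T.t ∧ h * c.F.u * h⁻¹ = c.F.u ∧
      h * (T.t * c.F.u) * h⁻¹ = T.t * c.F.u := fun h hh => by
    obtain ⟨h1, h2, -⟩ := c.mem_D.1 hh
    refine ⟨by rw [h1.eq, mul_inv_cancel_right], by rw [h2.eq, mul_inv_cancel_right], ?_⟩
    rw [(h1.mul_right h2).eq, mul_inv_cancel_right]
  have hform : ∀ g, Commute g v → g ∈ c.D ∨ (g * T.t * g⁻¹ = c.F.u ∧ g * c.F.u * g⁻¹ = T.t * c.F.u) ∨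
      (g * T.t * g⁻¹ = T.t * c.F.u ∧ g * c.F.u * g⁻¹ = T.t) := by
    intro g hg
    rcases hN g hg with h | ⟨-, h, hh, e | e⟩
    · exact Or.inl h
    · obtain ⟨h1, h2, -⟩ := hDt h hh
      refine Or.inr (Or.inl ⟨?_, ?_⟩) <;> rw [e]
      · rw [show c.τ * h * T.t * (c.τ * h)⁻¹ = c.τ * (h * T.t * h⁻¹) * c.τ⁻¹ by group, h1, c.τ_t]
      · rw [show c.τ * h * c.F.u * (c.τ * h)⁻¹ = c.τ * (h * c.F.u * h⁻¹) * c.τ⁻¹ by group, h2, c.τ_u]
    · obtain ⟨h1, h2, -⟩ := hDt h hh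
      refine Or.inr (Or.inr ⟨?_, ?_⟩) <;> rw [e]
      · rw [show c.τ * (c.τ * h) * T.t * (c.τ * (c.τ * h))⁻¹ =
          c.τ * (c.τ * (h * T.t * h⁻¹) * c.τ⁻¹) * c.τ⁻¹ by group, h1, c.τ_t, c.τ_u]
      · rw [show c.τ * (c.τ * h) * c.F.u * (c.τ * (c.τ * h))⁻¹ =
          c.τ * (c.τ * (h * c.F.u * h⁻¹) * c.τ⁻¹) * c.τ⁻¹ by group, h2, c.τ_u, c.τ_tu]
  have hiD : i ∈ c.D := by
    rcases hform i hiv with h | ⟨h1, h2⟩ | ⟨h1, h2⟩
    · exact h
    · exfalso
      refine c.F.tu_ne_t ?_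
      rw [← h2]
      conv_lhs => rw [← h1]
      rw [show i * (i * T.t * i⁻¹) * i⁻¹ = (i * i) * T.t * (i * i)⁻¹ by group, hii, one_mul, inv_one, mul_one]
    · exfalso
      refine c.F.ne ?_
      have h3 : i * (T.t * c.F.u) * i⁻¹ = c.F.u := by
        rw [← conj_mul, h1, h2, mul_assoc, c.F.comm_u.eq, ← mul_assoc, T.t_sq, one_mul]
      rw [← h3]
      conv_lhs => rw [← h1]
      rw [show i * (i * T.t * i⁻¹) * i⁻¹ = (i * i) * T.t * (i * i)⁻¹ by group, hii, one_mul, inv_one, mul_one]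
  obtain ⟨i1, i2, -⟩ := hDt i hiD
  have i0 : i⁻¹ * T.t * i⁻¹⁻¹ = T.t := by
    conv_lhs => rw [← i1]
    group
  rcases hform y hyv with h | ⟨h1, h2⟩ | ⟨h1, h2⟩
  · rw [(c.D_comm hiD h).eq, mul_inv_cancel_right] at hinv
    exact orderOf_eq_one_iff.1 (Nat.eq_one_of_dvd_coprimes (Nat.coprime_two_left.2 hy)
      (orderOf_dvd_of_pow_eq_one (by rw [pow_two]; nth_rw 2 [hinv]; exact mul_inv_cancel _)) dvd_rfl)
  · exfalso
    have h3 : y⁻¹ * T.t * y = c.F.u := by
      rw [show y⁻¹ * T.t * y = y⁻¹ * T.t * y⁻¹⁻¹ by group, ← hinv,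
        show i * y * i⁻¹ * T.t * (i * y * i⁻¹)⁻¹ = i * (y * (i⁻¹ * T.t * i⁻¹⁻¹) * y⁻¹) * i⁻¹ by group,
        i0, h1, i2]
    refine c.F.tu_ne_t ?_
    rw [← h2, ← h3]
    group
  · exfalso
    have h4 : i * (T.t * c.F.u) * i⁻¹ = T.t * c.F.u := (hDt i hiD).2.2
    have h3 : y⁻¹ * T.t * y = T.t * c.F.u := by
      rw [show y⁻¹ * T.t * y = y⁻¹ * T.t * y⁻¹⁻¹ by group, ← hinv,
        show i * y * i⁻¹ * T.t * (i * y * i⁻¹)⁻¹ = i * (y * (i⁻¹ * T.t * i⁻¹⁻¹) * y⁻¹) * i⁻¹ by group,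
        i0, h1, h4]
    refine c.F.ne ?_
    have h5 : y * (T.t * c.F.u) * y⁻¹ = c.F.u := by
      rw [← conj_mul, h1, h2, mul_assoc, c.F.comm_u.eq, ← mul_assoc, T.t_sq, one_mul]
    rw [← h5, ← h3]
    group

/-- The element of order three fixes no nontrivial element of the torus. -/
theorem tau_fpf (hN : ∀ v ∈ zpowers c.F.a, v ≠ 1 → c.Norm v) (hp : p ≠ 3) :
    ∀ v ∈ zpowers c.F.a, Commute c.τ v → v = 1 := by
  classical
  intro v₀ hv₀ hτv₀
  by_contra hv₀1
  obtain ⟨r, hr, hrd⟩ := Nat.exists_prime_and_dvd (mt orderOf_eq_one_iff.1 hv₀1)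
  haveI := Fact.mk hr
  set v := v₀ ^ (orderOf v₀ / r) with hv
  have hvA : v ∈ zpowers c.F.a := pow_mem hv₀ _
  have hvo : orderOf v = r := orderOf_pow_orderOf_div (orderOf_pos v₀).ne' hrd
  have hτv : Commute c.τ v := hτv₀.pow_right _
  have hrm : r ∣ m := by
    have := hrd.trans (Subgroup.orderOf_dvd_natCard _ hv₀)
    rwa [Nat.card_zpowers, c.F.order_a] at this
  have hv1 : v ≠ 1 := fun e => by rw [e, orderOf_one] at hvo; exact hr.one_lt.ne hvo
  have hxv : c.F.x * v * c.F.x⁻¹ = v⁻¹ := by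
    obtain ⟨i, hi⟩ := mem_zpowers_iff.1 hvA
    rw [← hi, ← conj_zpow, c.F.x_a, inv_zpow]
  have hvodd : Odd (orderOf v) := by rw [hvo]; exact T.kit.m_odd.of_dvd_nat hrm
  have hτodd : Odd (orderOf c.τ) := by rw [c.order_τ]; decide
  have hnorm : ∀ {w}, w ∈ zpowers c.F.a → w ≠ 1 → c.Norm w := fun h1 h2 => hN _ h1 h2
  rcases T.kit.three_cases with h | h3m | h3n
  · exact hp h
  · obtain ⟨h, hh⟩ := c.conj_torus Nat.prime_three h3m c.F.order_x c.τ_x c.order_τ
    have hne : h * c.τ * h⁻¹ ≠ 1 := fun e => by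
      have := c.order_τ
      rw [conj_eq_one_iff.1 e, orderOf_one] at this
      norm_num at this
    have h1 := c.inverted_eq_one (i := h * c.F.x * h⁻¹) (y := h * v * h⁻¹) hh (hnorm hh hne)
      (Invol.invol_conj c.F.order_x h) (c.τ_x.symm.map (MulAut.conj h)) (hτv.symm.map (MulAut.conj h))
      (by rw [show h * c.F.x * h⁻¹ * (h * v * h⁻¹) * (h * c.F.x * h⁻¹)⁻¹ =
        h * (c.F.x * v * c.F.x⁻¹) * h⁻¹ by group, hxv, ← conj_inv])
      (by rwa [← MulAut.conj_apply, MulEquiv.orderOf_eq])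
    exact hv1 (conj_eq_one_iff.1 h1)
  · obtain ⟨T', hT'⟩ := T.exists_setup c.F.order_x
    have hτt' : Commute c.τ T'.t := by rw [hT']; exact c.τ_x
    obtain ⟨hC4, w₀, hw₀, hw₀τ, hw₀x, hw₀all, hw₀inv⟩ := T'.three_n_facts h3n c.order_τ hτt'
    have hτK : c.τ ∈ T'.K := T'.mem_K_of_odd hτt' hτodd
    have hτ'o : orderOf (⟨c.τ, hτK⟩ : T'.K) = 3 := by rw [Subgroup.orderOf_mk, c.order_τ]
    obtain ⟨w', hw', hC', -, ui, hui, huinv⟩ := T'.kit.cent_n (v := (⟨c.τ, hτK⟩ : T'.K))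
      (fun e => by rw [e, orderOf_one] at hτ'o; norm_num at hτ'o) (hτ'o ▸ h3n)
    set s := (ui : G) with hs
    have hs2 : orderOf s = 2 := (Subgroup.orderOf_coe ui).trans hui
    have hsx : Commute s c.F.x := hT' ▸ T'.comm_t _ ui.2
    have hsτ : s * c.τ * s⁻¹ = c.τ⁻¹ :=
      congrArg Subtype.val (huinv ⟨c.τ, hτK⟩ (hC' ▸ mem_centralizer_singleton_iff.2 rfl))
    have hne : c.F.x ≠ s := fun e => T'.not_mem (by rw [hT', e]; exact ui.2)
    have hsw := hw₀inv s (T'.comm_t _ ui.2) hsτ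
    rw [hT'] at hw₀x hw₀all
    obtain ⟨U, hUc, hUnc, hU4, hUmem⟩ := exists_klein c.F.order_x hs2 hsx.symm hne
    haveI := hUc
    have hC2 : 2 ∣ Nat.card (centralizer ({c.τ} : Set G)) :=
      c.F.order_x ▸ Subgroup.orderOf_dvd_natCard _ (mem_centralizer_singleton_iff.2 c.τ_x.symm.eq)
    obtain ⟨W, hWC, hCW, hWodd, -, hWmem'⟩ := exists_odd_part _ hC2 hC4
    have hWmem : ∀ {z}, z ∈ W ↔ Commute z c.τ ∧ Odd (orderOf z) := fun {z} =>
      ⟨fun hz => ⟨mem_centralizer_singleton_iff.1 (hWC hz), hWodd.of_dvd_nat (Subgroup.orderOf_dvd_natCard W hz)⟩,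
        fun hz => hWmem' z (mem_centralizer_singleton_iff.2 hz.1.eq) hz.2⟩
    have hord : ∀ g z : G, orderOf (g * z * g⁻¹) = orderOf z := fun g z => by
      rw [← MulAut.conj_apply, MulEquiv.orderOf_eq]
    have heW : ∀ e : G, e * e = 1 → (e * c.τ * e⁻¹ = c.τ ∨ e * c.τ * e⁻¹ = c.τ⁻¹) →
        e ∈ normalizer (W : Set G) := by
      intro e he2 he
      have hone : ∀ z ∈ W, e * z * e⁻¹ ∈ W := fun z hz => by
        obtain ⟨h1, h2⟩ := hWmem.1 hz
        refine hWmem.2 ⟨?_, by rwa [hord]⟩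
        have := h1.map (MulAut.conj e)
        simp only [MulAut.conj_apply] at this
        rcases he with he | he <;> rw [he] at this
        · exact this
        · exact Commute.inv_right_iff.1 this
      rw [mem_normalizer_iff]
      refine fun z => ⟨hone z, fun hz => ?_⟩
      have := hone _ hz
      rwa [show e * (e * z * e⁻¹) * e⁻¹ = (e * e) * z * (e * e)⁻¹ by group, he2, one_mul, inv_one,
        mul_one] at this
    have hxW := heW _ (Invol.invol_mul_self c.F.order_x)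
      (Or.inl (by rw [c.τ_x.symm.eq, mul_inv_cancel_right]))
    have hsW := heW _ (Invol.invol_mul_self hs2) (Or.inr hsτ)
    have hUW : U ≤ normalizer (W : Set G) := fun g hg => by
      rcases (hUmem g).1 hg with rfl | rfl | rfl | rfl
      exacts [one_mem _, hxW, hsW, mul_mem hsW hxW]
    have hUcop : (Nat.card U).Coprime (Nat.card W) := by
      rw [hU4, show 4 = 2 ^ 2 by norm_num]
      exact Nat.Coprime.pow_left _ (Nat.coprime_two_left.2 hWodd)
    obtain ⟨P, hP, hPU⟩ := Coprime.exists_invariant_sylow hUW hUcop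
      (Or.inl (Coprime.isSolvable_of_isMulCommutative hUc)) r
    have hPne : P ≠ ⊥ := by
      intro e
      have hvW : v ∈ W := hWmem.2 ⟨hτv.symm, hvodd⟩
      have h1 := hP.2
      rw [e, card_bot] at h1
      have h2 : 1 ≤ (Nat.card W).factorization r :=
        (hr.dvd_iff_one_le_factorization Nat.card_pos.ne').1 (hvo ▸ Subgroup.orderOf_dvd_natCard W hvW)
      exact (Nat.one_lt_pow (by omega) hr.one_lt).ne h1
    refine hPne (eq_bot_iff.2 (Coprime.le_of_centralizers_le (A := U) hUnc hPU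
      (hUcop.coprime_dvd_right (card_dvd_of_le hP.1)) fun e he he1 z hz => ?_))
    obtain ⟨hzP, hze⟩ := mem_inf.1 hz
    have hze' : Commute z e := mem_centralizer_singleton_iff.1 hze
    rw [mem_bot]
    by_contra hz1
    obtain ⟨j, hj⟩ := hP.isPGroup ⟨z, hzP⟩
    have hzj : z ^ r ^ j = 1 := congrArg Subtype.val hj
    obtain ⟨j', hj', hzo⟩ := (Nat.dvd_prime_pow hr).1 (orderOf_dvd_of_pow_eq_one hzj)
    have hj0 : j' ≠ 0 := fun e0 => hz1 (orderOf_eq_one_iff.1 (by rw [hzo, e0, pow_zero]))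
    have hrz : r ∣ orderOf z := hzo ▸ dvd_pow_self r hj0
    obtain ⟨hzτ, hzodd⟩ := hWmem.1 (hP.1 hzP)
    rcases (hUmem e).1 he with rfl | rfl | rfl | rfl
    · exact he1 rfl
    · have h1 : orderOf z ∣ n := by
        have := Subgroup.orderOf_dvd_natCard _ (hw₀all z hzτ hze' hzodd)
        rwa [Nat.card_zpowers, hw₀] at this
      exact hr.one_lt.ne' (Nat.eq_one_of_dvd_coprimes T.kit.data.cop.coprime_mul_left hrm (hrz.trans h1))
    all_goals
      set d := z ^ (orderOf z / r) with hd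
      have hdo : orderOf d = r := orderOf_pow_orderOf_div (orderOf_pos z).ne' hrz
    · obtain ⟨h, hh⟩ := c.conj_torus hr hrm hs2 (hze'.pow_left _) hdo
      have hne1 : h * d * h⁻¹ ≠ 1 := fun e1 => by
        rw [conj_eq_one_iff.1 e1, orderOf_one] at hdo; exact hr.one_lt.ne hdo
      have h1 := c.inverted_eq_one (i := h * s * h⁻¹) (y := h * c.τ * h⁻¹) hh (hnorm hh hne1)
        (Invol.invol_conj hs2 h) ((hze'.pow_left _).symm.map (MulAut.conj h))
        ((hzτ.pow_left _).symm.map (MulAut.conj h))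
        (by rw [show h * s * h⁻¹ * (h * c.τ * h⁻¹) * (h * s * h⁻¹)⁻¹ =
          h * (s * c.τ * s⁻¹) * h⁻¹ by group, hsτ, ← conj_inv])
        (by rwa [← MulAut.conj_apply, MulEquiv.orderOf_eq])
      have := c.order_τ
      rw [conj_eq_one_iff.1 h1, orderOf_one] at this
      norm_num at this
    · have hsx2 : orderOf (s * c.F.x) = 2 := orderOf_eq_prime
        (by rw [hsx.mul_pow, pow_two, pow_two, Invol.invol_mul_self hs2,
          Invol.invol_mul_self c.F.order_x, one_mul]) he1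
      have hsxτ : s * c.F.x * c.τ * (s * c.F.x)⁻¹ = c.τ⁻¹ := by
        rw [show s * c.F.x * c.τ * (s * c.F.x)⁻¹ = s * (c.F.x * c.τ * c.F.x⁻¹) * s⁻¹ by group,
          c.τ_x.symm.eq, mul_inv_cancel_right, hsτ]
      obtain ⟨h, hh⟩ := c.conj_torus hr hrm hsx2 (hze'.pow_left _) hdo
      have hne1 : h * d * h⁻¹ ≠ 1 := fun e1 => by
        rw [conj_eq_one_iff.1 e1, orderOf_one] at hdo; exact hr.one_lt.ne hdo
      have h1 := c.inverted_eq_one (i := h * (s * c.F.x) * h⁻¹) (y := h * c.τ * h⁻¹) hh (hnorm hh hne1)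
        (Invol.invol_conj hsx2 h) ((hze'.pow_left _).symm.map (MulAut.conj h))
        ((hzτ.pow_left _).symm.map (MulAut.conj h))
        (by rw [show h * (s * c.F.x) * h⁻¹ * (h * c.τ * h⁻¹) * (h * (s * c.F.x) * h⁻¹)⁻¹ =
          h * (s * c.F.x * c.τ * (s * c.F.x)⁻¹) * h⁻¹ by group, hsxτ, ← conj_inv])
        (by rwa [← MulAut.conj_apply, MulEquiv.orderOf_eq])
      have := c.order_τ
      rw [conj_eq_one_iff.1 h1, orderOf_one] at this
      norm_num at this

/-- The order of the torus is `1` modulo three. -/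
theorem m_mod_three (hfpf : ∀ v ∈ zpowers c.F.a, Commute c.τ v → v = 1) : m % 3 = 1 := by
  haveI : Fact (Nat.Prime 3) := ⟨Nat.prime_three⟩
  have hn : c.τ ∈ normalizer (zpowers c.F.a : Set G) := by
    rw [mem_normalizer_iff]
    refine fun y => ⟨c.τ_A, fun hy => ?_⟩
    have := c.τ_A (c.τ_A hy)
    rwa [c.τ_cube] at this
  have h := ReeType.card_conj_fixed_modEq (r := 3) (j := 1) (P := zpowers c.F.a) (v := c.τ)
    (by rw [c.order_τ, pow_one]) hn
  have hbot : zpowers c.F.a ⊓ centralizer ({c.τ} : Set G) = ⊥ := by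
    rw [eq_bot_iff]
    intro y hy
    rw [mem_bot]
    obtain ⟨h1, h2⟩ := mem_inf.1 hy
    exact hfpf y h1 (Commute.symm (mem_centralizer_singleton_iff.1 h2))
  rw [hbot, card_bot, Nat.card_zpowers, c.F.order_a] at h
  exact h

end Conf

end Setup

end CfsgLib.JTh
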